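import Cfsg.Agent.H4.Sub8

/-!
# Major 2-subsections of rank at most three: the estimate
-/

set_option autoImplicit false
open Cfsg MonoidAlgebra CfsgH5
open CfsgH4 hiding centralChar sum_conj regInner_symm ev_ca

namespace CfsgSub

open scoped ComplexConjugate Polynomial

section weighted

variable {G : Type*} [Group G] [Finite G] {p : ℕ} [hp : Fact p.Prime] {M : Ideal AlgInt} {C : Subgroup G} [Fintype C]

theorem trace_bound' (hM : IsPModular p M) {u : C} (hC : C = Subgroup.centralizer ({(u : G)} : Set G)) {e : ℕ} (he : (u : G) ^ p ^ (e + 1) = 1)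
    {b : Set (IrrCharacter C)} (hb : IsPBlock M b) (T : Finset (IrrCharacter G)) (τ : IrrCharacter G → ℤ)
    (h : ∀ χ ∈ T, (p : ℝ) ^ e * ((p : ℝ) - 1) * τ χ ≤ (WA p e u (χ : G → ℂ) (cA p b)).re) :
    ∑ χ ∈ T, τ χ ≤ blockRank p b * (p : ℤ) ^ blockDefect p b := by
  have hu := mem_center_of_eq hC
  have hnn : ∀ χ : IrrCharacter G, 0 ≤ (WA p e u (χ : G → ℂ) (cA p b)).re := by
    intro χ
    rw [WA_ctr hM hu hb, Complex.re_sum]
    refine Finset.sum_nonneg fun k _ => ?_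
    rw [re_natpow_mul]
    exact mul_nonneg (by positivity) (ctr_re_nonneg _ _ _)
  have h1 : ∑ χ : IrrCharacter G, (WA p e u (χ : G → ℂ) (cA p b)).re = (p : ℝ) ^ e * ((p : ℝ) - 1) * ((p : ℝ) ^ blockDefect p b * blockRank p b) := by
    rw [← card_R (p := p) e, ← Complex.re_sum]
    have h2 : ∑ χ : IrrCharacter G, WA p e u (χ : G → ℂ) (cA p b) =
        ∑ k ∈ (Finset.range (p ^ (e + 1))).filter (fun k => ¬ p ∣ k), (p : ℂ) ^ blockDefect p b * (blockRank p b : ℂ) := by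
      rw [Finset.sum_congr rfl fun χ _ => WA_ctr hM hu hb χ e, Finset.sum_comm]
      refine Finset.sum_congr rfl fun k hk => ?_
      obtain ⟨h3, h4⟩ := conj_data hC he (Finset.mem_filter.1 hk).2
      rw [← Finset.mul_sum, ctr_trace hM h3 h4 hb]
    rw [h2, Finset.sum_const, nsmul_eq_mul, ← Complex.ofReal_natCast, Complex.re_ofReal_mul, re_natpow_mul, Complex.natCast_re]
  have h2 : (p : ℝ) ^ e * ((p : ℝ) - 1) * (∑ χ ∈ T, (τ χ : ℝ)) ≤ ∑ χ : IrrCharacter G, (WA p e u (χ : G → ℂ) (cA p b)).re := by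
    rw [Finset.mul_sum]
    exact (Finset.sum_le_sum h).trans (Finset.sum_le_univ_sum_of_nonneg hnn)
  rw [h1] at h2
  have h3 := le_of_mul_le_mul_left h2 (phi_pos p e)
  have h4 : ((∑ χ ∈ T, τ χ : ℤ) : ℝ) ≤ ((blockRank p b * (p : ℤ) ^ blockDefect p b : ℤ) : ℝ) := by
    push_cast
    rw [mul_comm]; exact h3
  exact_mod_cast h4

theorem aF_bound' (hM : IsPModular p M) {u : C} (hC : C = Subgroup.centralizer ({(u : G)} : Set G)) {e : ℕ} (he : (u : G) ^ p ^ (e + 1) = 1)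
    {b : Set (IrrCharacter C)} (hb : IsPBlock M b) (x : IrrCharacter C → ℤ) (T : Finset (IrrCharacter G)) (τ : IrrCharacter G → ℤ)
    (h : ∀ χ ∈ T, (p : ℝ) ^ e * ((p : ℝ) - 1) * τ χ ≤ (WA p e u (χ : G → ℂ) (fun ζ ξ => An (cA p b) x ζ * An (cA p b) x ξ)).re) :
    ∑ χ ∈ T, τ χ ≤ (p : ℤ) ^ blockDefect p b * mbil (cA p b) x x := by
  have hu := mem_center_of_eq hC
  have hnn : ∀ χ : IrrCharacter G, 0 ≤ (WA p e u (χ : G → ℂ) (fun ζ ξ => An (cA p b) x ζ * An (cA p b) x ξ)).re := by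
    intro χ
    rw [WA_aF hu, Complex.re_sum]
    refine Finset.sum_nonneg fun k _ => ?_
    rw [Complex.mul_conj, Complex.ofReal_re]
    exact Complex.normSq_nonneg _
  have h1 : ∑ χ : IrrCharacter G, (WA p e u (χ : G → ℂ) (fun ζ ξ => An (cA p b) x ζ * An (cA p b) x ξ)).re =
      (p : ℝ) ^ e * ((p : ℝ) - 1) * ((p : ℝ) ^ blockDefect p b * mbil (cA p b) x x) := by
    rw [← card_R (p := p) e, ← Complex.re_sum]
    have h2 : ∑ χ : IrrCharacter G, WA p e u (χ : G → ℂ) (fun ζ ξ => An (cA p b) x ζ * An (cA p b) x ξ) =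
        ∑ k ∈ (Finset.range (p ^ (e + 1))).filter (fun k => ¬ p ∣ k), (p : ℂ) ^ blockDefect p b * (mbil (cA p b) x x : ℂ) := by
      rw [Finset.sum_congr rfl fun χ _ => WA_aF hu χ x e, Finset.sum_comm]
      refine Finset.sum_congr rfl fun k hk => ?_
      obtain ⟨h3, h4⟩ := conj_data hC he (Finset.mem_filter.1 hk).2
      exact sum_aF hM h3 h4 hb x
    rw [h2, Finset.sum_const, nsmul_eq_mul, ← Complex.ofReal_natCast, Complex.re_ofReal_mul, re_natpow_mul, Complex.intCast_re]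
  have h2 : (p : ℝ) ^ e * ((p : ℝ) - 1) * (∑ χ ∈ T, (τ χ : ℝ)) ≤ ∑ χ : IrrCharacter G, (WA p e u (χ : G → ℂ) (fun ζ ξ => An (cA p b) x ζ * An (cA p b) x ξ)).re := by
    rw [Finset.mul_sum]
    exact (Finset.sum_le_sum h).trans (Finset.sum_le_univ_sum_of_nonneg hnn)
  rw [h1] at h2
  have h3 := le_of_mul_le_mul_left h2 (phi_pos p e)
  exact_mod_cast h3

/-- vanishing modulo `M` -/
theorem aF_mem (hM : IsPModular p M) {u : C} (hu : u ∈ Subgroup.center C) (hup : ∃ k, orderOf (u : G) = p ^ k)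
    {b : Set (IrrCharacter C)} (hb : IsPBlock M b) (χ : IrrCharacter G) {x : IrrCharacter C → ℤ} (hx : x ∈ Sv hM b) :
    MemLocalIdeal M (aF p u b (χ : G → ℂ) x) := by
  classical
  haveI := IsPModular.isPrime hM
  obtain ⟨κ, hκR, hκne, hκ⟩ := cA_cong hM hb
  rw [aF]
  refine memLocalIdeal_sum _ _ fun ζ _ => ?_
  rw [mz_spec]
  obtain ⟨w1, -, -⟩ := wt_cong hM hu hup ζ
  refine MemLocalIdeal.mul_left (MemLocalRing.mul (memLocalRing_intCast _) w1) ?_
  by_cases hζ : ζ ∈ b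
  · have h1 := An_cong hM hκ x hζ
    have h2 : MemLocalIdeal M (κ * vv p b x * rr p b ζ) := MemLocalIdeal.mul_right (MemLocalIdeal.mul_left hκR hx) (rr_mem hM hζ)
    have h3 := MemLocalIdeal.add h1 h2
    rwa [sub_add_cancel] at h3
  · have h3 : An (cA p b) x ζ = 0 := by
      rw [An]; exact Finset.sum_eq_zero fun ξ _ => by rw [cA_off (Or.inr hζ), mul_zero]
    rw [h3, Int.cast_zero]; exact memLocalIdeal_zero

/-- the valuation of the pairings for a major subsection -/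
theorem aF_val (hM : IsPModular p M) {u : C} (hu : u ∈ Subgroup.center C) (hup : ∃ k, orderOf (u : G) = p ^ k)
    {b : Set (IrrCharacter C)} {B : Set (IrrCharacter G)} (hind : IsInducedBlock M C b B)
    (hd : blockDefect p b = blockDefect p B) (x : IrrCharacter C → ℤ) {χ : IrrCharacter G} (hχ : χ ∈ B) :
    ∃ r, MemLocalRing M r ∧ aF p u b (χ : G → ℂ) x = (p : ℂ) ^ blockHeight p B (χ : G → ℂ) * r ∧ (x ∈ Sv hM b → MemLocalIdeal M r) := by
  haveI := IsPModular.isPrime hM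
  haveI := Fintype.ofFinite G
  obtain ⟨T, hT1, hT2, hT⟩ := aF_central hM hu hind.1 x
  obtain ⟨χ₀, hχ₀, h0⟩ := exists_height_zero p (B := B) (IsPBlock.nonempty hind.2.1)
  set h := blockHeight p B (χ : G → ℂ) with hh
  have hp0 : (p : ℂ) ≠ 0 := by exact_mod_cast hp.out.ne_zero
  have hG0 : (Nat.card G : ℂ) ≠ 0 := by exact_mod_cast Nat.card_pos.ne'
  set c : ℂ := ((p ^ blockDefect p b * charDegree (χ : G → ℂ) : ℕ) : ℂ) / ((Nat.card G * p ^ h : ℕ) : ℂ) with hc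
  have hcR : MemLocalRing M c := by
    apply memLocalRing_div hM (Nat.mul_ne_zero (pow_ne_zero _ hp.out.ne_zero) (charDegree_ne_zero χ))
      (Nat.mul_ne_zero Nat.card_pos.ne' (pow_ne_zero _ hp.out.ne_zero))
    rw [Nat.factorization_mul (pow_ne_zero _ hp.out.ne_zero) (charDegree_ne_zero χ), Nat.factorization_mul Nat.card_pos.ne' (pow_ne_zero _ hp.out.ne_zero),
      Finsupp.add_apply, Finsupp.add_apply, Nat.factorization_pow, Nat.factorization_pow,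
      Finsupp.smul_apply, Finsupp.smul_apply, Nat.Prime.factorization_self hp.out, smul_eq_mul, mul_one, smul_eq_mul, mul_one, hd]
    have := degree_eq (p := p) hχ
    omega
  have hTR := memLocalRing_om χ.2 hT1 hT2
  refine ⟨c * om (χ : G → ℂ) T, MemLocalRing.mul hcR hTR, ?_, ?_⟩
  · rw [hT χ, hc]
    push_cast
    field_simp
  · intro hx
    refine MemLocalIdeal.mul_left hcR ?_
    have h1 := aF_mem hM hu hup hind.1 χ₀ hx
    rw [hT χ₀, hd] at h1
    have hrr : ¬ MemLocalIdeal M (rr p B χ₀) := by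
      have hUR : MemLocalRing M ((Nat.card G : ℂ) / ((p ^ blockDefect p B * charDegree (χ₀ : G → ℂ) : ℕ) : ℂ)) := by
        apply memLocalRing_div hM Nat.card_pos.ne' (Nat.mul_ne_zero (pow_ne_zero _ hp.out.ne_zero) (charDegree_ne_zero χ₀))
        rw [Nat.factorization_mul (pow_ne_zero _ hp.out.ne_zero) (charDegree_ne_zero χ₀), Finsupp.add_apply, Nat.factorization_pow,
          Finsupp.smul_apply, Nat.Prime.factorization_self hp.out, smul_eq_mul, mul_one]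
        have := degree_eq (p := p) hχ₀
        omega
      intro hcon
      have h2 := MemLocalIdeal.mul_right hcon hUR
      have hd0 : (charDegree (χ₀ : G → ℂ) : ℂ) ≠ 0 := by exact_mod_cast charDegree_ne_zero χ₀
      have h3 : rr p B χ₀ * ((Nat.card G : ℂ) / ((p ^ blockDefect p B * charDegree (χ₀ : G → ℂ) : ℕ) : ℂ)) = 1 := by
        rw [rr]; push_cast; field_simp
      rw [h3] at h2
      exact not_memLocalIdeal_one h2
    have h2 := ((memLocalIdeal_mul_iff (rr_mem hM hχ₀) (memLocalRing_om χ₀.2 hT1 hT2)).1 h1).resolve_left hrr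
    have h3 : MemLocalIdeal M (om (χ : G → ℂ) T - om (χ₀ : G → ℂ) T) :=
      sameBlock_om χ.2 χ₀.2 ((IsPBlock.mem_iff hind.2.1 hχ).1 hχ₀) hT1 hT2
    have h4 := MemLocalIdeal.add h3 h2
    rwa [sub_add_cancel] at h4

end weighted

section two

variable {G : Type*} [Group G] [Finite G] {M : Ideal AlgInt} {C : Subgroup G} [Fintype C]

theorem aF_two (hM : IsPModular 2 M) {u : C} (hu : u ∈ Subgroup.center C) {e : ℕ} (he : (u : G) ^ 2 ^ (e + 1) = 1)
    {b : Set (IrrCharacter C)} {z : ℂ} (hz : z ^ 2 ^ e = -1) (hpr : IsPrimitiveRoot z (2 ^ (e + 1))) (χ : IrrCharacter G) (x : IrrCharacter C → ℤ) :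
    aF 2 u b (χ : G → ℂ) x = ∑ i ∈ Finset.range (2 ^ e), z ^ i * ((mbil (cA 2 b) x (yy (wt u) (mz C (χ : G → ℂ)) z i) : ℤ) : ℂ) := by
  haveI : Fact (Nat.Prime 2) := ⟨Nat.prime_two⟩
  have h1 := lin_two (wt u) (wt_root hu he) (mz C (χ : G → ℂ)) hz hpr (An (cA 2 b) x)
  rw [aF, Finset.sum_congr rfl fun ζ _ => by rw [mz_spec]]
  rw [h1]
  refine Finset.sum_congr rfl fun i _ => ?_
  rw [mbil_An]
  congr 2
  exact Finset.sum_congr rfl fun j _ => mul_comm _ _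

theorem two_dvd (hM : IsPModular 2 M) {u : C} (hu : u ∈ Subgroup.center C) (hup : ∃ k, orderOf (u : G) = 2 ^ k) {e : ℕ}
    (he : (u : G) ^ 2 ^ (e + 1) = 1)
    {b : Set (IrrCharacter C)} {B : Set (IrrCharacter G)} (hind : IsInducedBlock M C b B)
    (hd : blockDefect 2 b = blockDefect 2 B) {z : ℂ} (hz : z ^ 2 ^ e = -1) (hpr : IsPrimitiveRoot z (2 ^ (e + 1)))
    {χ : IrrCharacter G} (hχ : χ ∈ B) (x : IrrCharacter C → ℤ) {i : ℕ} (hi : i < 2 ^ e) :
    (2 : ℤ) ^ blockHeight 2 B (χ : G → ℂ) ∣ mbil (cA 2 b) x (yy (wt u) (mz C (χ : G → ℂ)) z i) := by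
  haveI : Fact (Nat.Prime 2) := ⟨Nat.prime_two⟩
  obtain ⟨r, hr, hval, -⟩ := aF_val hM hu hup hind hd x hχ
  set c : ℕ → ℤ := fun i => mbil (cA 2 b) x (yy (wt u) (mz C (χ : G → ℂ)) z i) with hc
  set P : ℤ[X] := ∑ i ∈ Finset.range (2 ^ e), Polynomial.monomial i (c i) with hP
  have hpos : 0 < 2 ^ e := by positivity
  have hdeg : P.natDegree < 2 ^ e := by
    have h1 : P.natDegree ≤ 2 ^ e - 1 := by
      apply Polynomial.natDegree_sum_le_of_forall_le
      intro j hj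
      have := Finset.mem_range.1 hj
      exact (Polynomial.natDegree_monomial_le _).trans (by omega)
    omega
  have hev : Polynomial.aeval z P = aF 2 u b (χ : G → ℂ) x := by
    rw [aF_two hM hu he hz hpr, hP, map_sum]
    refine Finset.sum_congr rfl fun j _ => ?_
    rw [Polynomial.aeval_monomial]
    simp [hc, mul_comm]
  have h1 := dvd_coeffs hM hz (blockHeight 2 B (χ : G → ℂ)) P hdeg ⟨r, hr, by rw [hev, hval]; norm_num⟩ i
  have h2 : P.coeff i = c i := by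
    rw [hP, Polynomial.finset_sum_coeff, Finset.sum_eq_single i]
    · rw [Polynomial.coeff_monomial, if_pos rfl]
    · intro j _ hj
      rw [Polynomial.coeff_monomial, if_neg hj]
    · intro h
      exact absurd (Finset.mem_range.2 hi) h
  rwa [h2] at h1

theorem two_case_one (hM : IsPModular 2 M) {u : C} (hC : C = Subgroup.centralizer ({(u : G)} : Set G))
    (hup : ∃ k, orderOf (u : G) = 2 ^ k) {e : ℕ} (he : (u : G) ^ 2 ^ (e + 1) = 1)
    {b : Set (IrrCharacter C)} {B : Set (IrrCharacter G)} (hind : IsInducedBlock M C b B)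
    (hd : blockDefect 2 b = blockDefect 2 B) {χ : IrrCharacter G} (hχ : χ ∈ B) {x : IrrCharacter C → ℤ} (hx : x ∉ Sv hM b) :
    ((2 : ℕ) : ℝ) ^ e * (((2 : ℕ) : ℝ) - 1) * (((4 : ℤ) ^ blockHeight 2 B (χ : G → ℂ) : ℤ) : ℝ) ≤
      (WA 2 e u (χ : G → ℂ) (fun ζ ξ => An (cA 2 b) x ζ * An (cA 2 b) x ξ)).re := by
  haveI : Fact (Nat.Prime 2) := ⟨Nat.prime_two⟩
  have hu := mem_center_of_eq hC
  obtain ⟨z, hz, hpr⟩ := exists_zeta e
  set h := blockHeight 2 B (χ : G → ℂ) with hh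
  have h1 := avg_two (isBil_sq (An (cA 2 b) x)) (wt u) (wt_root hu he) (mz C (χ : G → ℂ)) hz hpr
  rw [WA, h1]
  have h2 : ((2 : ℂ) ^ e * ((∑ i ∈ Finset.range (2 ^ e), mbil (fun ζ ξ => An (cA 2 b) x ζ * An (cA 2 b) x ξ) (yy (wt u) (mz C (χ : G → ℂ)) z i)
      (yy (wt u) (mz C (χ : G → ℂ)) z i) : ℤ) : ℂ)).re = (2 : ℝ) ^ e * ((∑ i ∈ Finset.range (2 ^ e), mbil (fun ζ ξ => An (cA 2 b) x ζ * An (cA 2 b) x ξ) (yy (wt u) (mz C (χ : G → ℂ)) z i)
      (yy (wt u) (mz C (χ : G → ℂ)) z i) : ℤ) : ℝ) := by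
    rw [show (2 : ℂ) ^ e = (((2 : ℝ) ^ e : ℝ) : ℂ) by push_cast; rfl, Complex.re_ofReal_mul, Complex.intCast_re]
  rw [h2]
  have h3 : ∀ i, mbil (fun ζ ξ => An (cA 2 b) x ζ * An (cA 2 b) x ξ) (yy (wt u) (mz C (χ : G → ℂ)) z i)
      (yy (wt u) (mz C (χ : G → ℂ)) z i) = (mbil (cA 2 b) x (yy (wt u) (mz C (χ : G → ℂ)) z i)) ^ 2 := by
    intro i
    rw [mbil_sq, mbil_An]
    congr 1
    exact Finset.sum_congr rfl fun j _ => mul_comm _ _
  rw [Finset.sum_congr rfl fun i _ => h3 i]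
  have hex : ∃ i ∈ Finset.range (2 ^ e), mbil (cA 2 b) x (yy (wt u) (mz C (χ : G → ℂ)) z i) ≠ 0 := by
    by_contra hcon
    push Not at hcon
    apply aF_ne_zero hM hu hup hind hd hx hχ
    rw [aF_two hM hu he hz hpr]
    exact Finset.sum_eq_zero fun i hi => by rw [hcon i hi]; simp
  obtain ⟨i, hi, hne⟩ := hex
  obtain ⟨c, hc⟩ := two_dvd hM hu hup he hind hd hz hpr hχ x (Finset.mem_range.1 hi)
  have h4 : (4 : ℤ) ^ h ≤ (mbil (cA 2 b) x (yy (wt u) (mz C (χ : G → ℂ)) z i)) ^ 2 := by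
    rw [hc] at hne ⊢
    have hc0 : c ≠ 0 := by intro h0; apply hne; rw [h0, mul_zero]
    have hc1 : 1 ≤ c ^ 2 := by have := sq_pos_of_ne_zero hc0; omega
    have h5 : ((2 : ℤ) ^ h * c) ^ 2 = 4 ^ h * c ^ 2 := by rw [mul_pow, ← pow_mul, mul_comm h 2, pow_mul]; norm_num
    rw [h5]
    nlinarith [pow_pos (show (0 : ℤ) < 4 by norm_num) h]
  have h6 : (4 : ℤ) ^ h ≤ ∑ i ∈ Finset.range (2 ^ e), (mbil (cA 2 b) x (yy (wt u) (mz C (χ : G → ℂ)) z i)) ^ 2 :=
    h4.trans (Finset.single_le_sum (f := fun i => (mbil (cA 2 b) x (yy (wt u) (mz C (χ : G → ℂ)) z i)) ^ 2) (fun _ _ => sq_nonneg _) hi)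
  have h7 : (((4 : ℤ) ^ h : ℤ) : ℝ) ≤ ((∑ i ∈ Finset.range (2 ^ e), (mbil (cA 2 b) x (yy (wt u) (mz C (χ : G → ℂ)) z i)) ^ 2 : ℤ) : ℝ) := Int.cast_le.2 h6
  have h8 : (0 : ℝ) ≤ (2 : ℝ) ^ e := by positivity
  have h9 := mul_le_mul_of_nonneg_left h7 h8
  have h10 : ((2 : ℕ) : ℝ) ^ e * (((2 : ℕ) : ℝ) - 1) * (((4 : ℤ) ^ h : ℤ) : ℝ) = (2 : ℝ) ^ e * (((4 : ℤ) ^ h : ℤ) : ℝ) := by
    push_cast; ring
  rw [h10]
  exact h9

theorem two_case_three (hM : IsPModular 2 M) {u : C} (hC : C = Subgroup.centralizer ({(u : G)} : Set G))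
    (hup : ∃ k, orderOf (u : G) = 2 ^ k) {e : ℕ} (he : (u : G) ^ 2 ^ (e + 1) = 1)
    {b : Set (IrrCharacter C)} {B : Set (IrrCharacter G)} (hind : IsInducedBlock M C b B)
    (hd : blockDefect 2 b = blockDefect 2 B) {χ : IrrCharacter G} (hχ : χ ∈ B) {x₀ : IrrCharacter C → ℤ} (hx₀ : x₀ ∉ Sv hM b)
    (hpos : blockHeight 2 B (χ : G → ℂ) ≠ 0) :
    ((2 : ℕ) : ℝ) ^ e * (((2 : ℕ) : ℝ) - 1) * ((2 * (2 : ℤ) ^ blockHeight 2 B (χ : G → ℂ) : ℤ) : ℝ) ≤
      (WA 2 e u (χ : G → ℂ) (cA 2 b)).re := by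
  haveI : Fact (Nat.Prime 2) := ⟨Nat.prime_two⟩
  haveI := IsPModular.isPrime hM
  have hu := mem_center_of_eq hC
  obtain ⟨z, hz, hpr⟩ := exists_zeta e
  set h := blockHeight 2 B (χ : G → ℂ) with hh
  have hbil := isBil_cA hM hind.1
  have h1 := avg_two hbil (wt u) (wt_root hu he) (mz C (χ : G → ℂ)) hz hpr
  rw [WA, h1]
  set y : ℕ → (IrrCharacter C → ℤ) := fun i => yy (wt u) (mz C (χ : G → ℂ)) z i with hy
  have h2 : ((2 : ℂ) ^ e * ((∑ i ∈ Finset.range (2 ^ e), mbil (cA 2 b) (y i) (y i) : ℤ) : ℂ)).re =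
      (2 : ℝ) ^ e * ((∑ i ∈ Finset.range (2 ^ e), mbil (cA 2 b) (y i) (y i) : ℤ) : ℝ) := by
    rw [show (2 : ℂ) ^ e = (((2 : ℝ) ^ e : ℝ) : ℂ) by push_cast; rfl, Complex.re_ofReal_mul, Complex.intCast_re]
  rw [h2]
  have hkey : 2 * (2 : ℤ) ^ h ≤ ∑ i ∈ Finset.range (2 ^ e), mbil (cA 2 b) (y i) (y i) := by
    by_contra hcon
    push Not at hcon
    have hdv : ∀ i ∈ Finset.range (2 ^ e), (2 : ℤ) ^ h ∣ mbil (cA 2 b) (y i) (y i) := fun i hi =>
      two_dvd hM hu hup he hind hd hz hpr hχ (y i) (Finset.mem_range.1 hi)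
    have hnn : ∀ i ∈ Finset.range (2 ^ e), 0 ≤ mbil (cA 2 b) (y i) (y i) := fun i _ => hbil.nonneg _
    have hex : ∃ i ∈ Finset.range (2 ^ e), mbil (cA 2 b) (y i) (y i) ≠ 0 := by
      by_contra hc
      push Not at hc
      apply aF_ne_zero hM hu hup hind hd hx₀ hχ
      rw [aF_two hM hu he hz hpr]
      refine Finset.sum_eq_zero fun i hi => ?_
      have h3 := mbil_rad ((mem_rad_iff hM hind.1).2 (hc i hi)) x₀
      rw [mbil_symm cA_symm] at h3
      show z ^ i * ((mbil (cA 2 b) x₀ (y i) : ℤ) : ℂ) = 0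
      rw [h3]; simp
    obtain ⟨i₀, hi₀, hne⟩ := hex
    have hge : (2 : ℤ) ^ h ≤ mbil (cA 2 b) (y i₀) (y i₀) :=
      Int.le_of_dvd (lt_of_le_of_ne (hnn i₀ hi₀) (Ne.symm hne)) (hdv i₀ hi₀)
    have hsplit := Finset.add_sum_erase (Finset.range (2 ^ e)) (fun i => mbil (cA 2 b) (y i) (y i)) hi₀
    have hrest : ∀ i ∈ (Finset.range (2 ^ e)).erase i₀, mbil (cA 2 b) (y i) (y i) = 0 := by
      intro i hi
      by_contra hne'
      have hi' := Finset.mem_of_mem_erase hi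
      have h4 : (2 : ℤ) ^ h ≤ mbil (cA 2 b) (y i) (y i) :=
        Int.le_of_dvd (lt_of_le_of_ne (hnn i hi') (Ne.symm hne')) (hdv i hi')
      have h5 : mbil (cA 2 b) (y i) (y i) ≤ ∑ j ∈ (Finset.range (2 ^ e)).erase i₀, mbil (cA 2 b) (y j) (y j) :=
        Finset.single_le_sum (f := fun j => mbil (cA 2 b) (y j) (y j)) (fun j hj => hnn j (Finset.mem_of_mem_erase hj)) hi
      linarith
    have hval : mbil (cA 2 b) (y i₀) (y i₀) = 2 ^ h := by
      rw [Finset.sum_eq_zero hrest, add_zero] at hsplit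
      rw [← hsplit] at hcon
      obtain ⟨c, hc⟩ := hdv i₀ hi₀
      rw [hc] at hcon hge ⊢
      have h6 : (0 : ℤ) < 2 ^ h := by positivity
      have h7 : c < 2 := by
        by_contra h8
        push Not at h8
        nlinarith
      have h8 : 1 ≤ c := by
        by_contra h9
        push Not at h9
        nlinarith
      have : c = 1 := by omega
      rw [this, mul_one]
    have hySv : y i₀ ∈ Sv hM b := by
      rw [mem_Sv_iff_dvd hM hind.1, hval]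
      exact dvd_pow_self _ hpos
    obtain ⟨r, hr, hr1, hr2⟩ := aF_val hM hu hup hind hd (y i₀) hχ
    have hr3 := hr2 hySv
    have h9 : aF 2 u b (χ : G → ℂ) (y i₀) = z ^ i₀ * 2 ^ h := by
      rw [aF_two hM hu he hz hpr, Finset.sum_eq_single i₀]
      · show z ^ i₀ * ((mbil (cA 2 b) (y i₀) (y i₀) : ℤ) : ℂ) = _
        rw [hval]; push_cast; rfl
      · intro i hi hii
        have h10 := hrest i (Finset.mem_erase.2 ⟨hii, hi⟩)
        have h3 := mbil_rad ((mem_rad_iff hM hind.1).2 h10) (y i₀)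
        rw [mbil_symm cA_symm] at h3
        show z ^ i * ((mbil (cA 2 b) (y i₀) (y i) : ℤ) : ℂ) = 0
        rw [h3]; simp
      · intro h0; exact absurd hi₀ h0
    rw [h9] at hr1
    have h11 : z ^ i₀ = r := by
      have h12 : ((2 : ℂ) ^ h) ≠ 0 := pow_ne_zero _ two_ne_zero
      apply mul_right_cancel₀ h12
      rw [hr1, ← hh]; push_cast; ring
    rw [← h11] at hr3
    have h13 : (z ^ i₀) ^ 2 ^ (e + 1) = 1 := by rw [← pow_mul, mul_comm, pow_mul, hpr.pow_eq_one, one_pow]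
    have h14 := (memLocalIdeal_pow_iff (MemLocalIdeal.memLocalRing hr3) (pow_pos two_pos (e + 1)).ne').2 hr3
    rw [h13] at h14
    exact not_memLocalIdeal_one h14
  have h7 : ((2 * (2 : ℤ) ^ h : ℤ) : ℝ) ≤ ((∑ i ∈ Finset.range (2 ^ e), mbil (cA 2 b) (y i) (y i) : ℤ) : ℝ) := Int.cast_le.2 hkey
  have h8 : (0 : ℝ) ≤ (2 : ℝ) ^ e := by positivity
  have h9 := mul_le_mul_of_nonneg_left h7 h8
  have h10 : ((2 : ℕ) : ℝ) ^ e * (((2 : ℕ) : ℝ) - 1) * ((2 * (2 : ℤ) ^ h : ℤ) : ℝ) = (2 : ℝ) ^ e * ((2 * (2 : ℤ) ^ h : ℤ) : ℝ) := by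
    push_cast; ring
  rw [h10]
  exact h9

end two

end CfsgSub
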