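import Cfsg.Agent.H4.Nil13
import Cfsg.Agent.H4.Sub9

/-!
# Blocks with abelian defect group and freely acting inertial quotient
-/

set_option autoImplicit false
open Cfsg MonoidAlgebra
open CfsgH5 hiding regInner_symm
open CfsgH4

namespace CfsgAb

open scoped ComplexConjugate

section pairs

variable {G : Type*} [Group G] [Finite G] {M : Ideal AlgInt} [hMp : M.IsPrime] {p : ℕ} [hp : Fact p.Prime]

/-- the inertial quotient acts freely -/
def FreeA (a : Subgroup G × MonoidAlgebra (kk M) G) : Prop :=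
  ∀ x ∈ st a, ∀ v ∈ a.1, v ≠ 1 → x * v * x⁻¹ = v → x ∈ cz a.1

omit [Finite G] in
theorem exists_ne_one {Q : Subgroup G} (hQ : Q ≠ ⊥) : ∃ v ∈ Q, v ≠ 1 := by
  obtain ⟨w, hw⟩ := Subgroup.ne_bot_iff_exists_ne_one.1 hQ
  exact ⟨w, w.2, fun h => hw (Subtype.ext h)⟩

theorem mp_of_dg {B : MonoidAlgebra (kk M) G} {P : Subgroup G} {e : MonoidAlgebra (kk M) G}
    (hof : Of p ⊤ B (P, e)) (hdg : DG p ⊤ B P) : MP p ⊤ B (P, e) := by
  refine ⟨hof, fun c hc hle => ?_⟩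
  refine hdg.max c.1 le_top hc.1 hle.le ?_
  intro h0
  have h1 := hc.2.2.2.2
  rw [h0, zero_mul] at h1
  exact hc.2.2.2.1.ne h1.symm

theorem bq_st (hM : IsPModular p M) {a : Subgroup G × MonoidAlgebra (kk M) G} (hap : IsPGroup p a.1)
    (ha : IsBl (cz a.1) a.2) {v t : G} (hv : v ∈ a.1) (ht : t ∈ st a) :
    t * v * t⁻¹ ∈ a.1 ∧ bq p a (Subgroup.zpowers (t * v * t⁻¹)) = ca t (bq p a (Subgroup.zpowers v)) := by
  have h0 : cp t a = a := by
    rw [cp, cj_eq_of_mem_normalizer ht.1, show ca t a.2 = a.2 from ht.2]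
  have h1 : LE p (Subgroup.zpowers v, bq p a (Subgroup.zpowers v)) a :=
    bq_le hM hap ha (by rw [Subgroup.zpowers_le]; exact hv)
  have h2 := h1.cp t
  rw [h0] at h2
  have h3 : cp t (Subgroup.zpowers v, bq p a (Subgroup.zpowers v)) =
      (Subgroup.zpowers (t * v * t⁻¹), ca t (bq p a (Subgroup.zpowers v))) := by
    rw [cp, ← zp_conj]
  rw [h3] at h2
  exact ⟨h2.le (Subgroup.mem_zpowers _), bq_eq hM h2⟩

/-- fusion of elements is controlled by the inertia group -/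
theorem ab_fuse (hM : IsPModular p M) {B : MonoidAlgebra (kk M) G} (hB : IsBl (⊤ : Subgroup G) B)
    {a : Subgroup G × MonoidAlgebra (kk M) G} (hmax : MP p ⊤ B a) (hab : a.1 ≤ cz a.1) {v x : G} {f : MonoidAlgebra (kk M) G}
    (hv : LE p (Subgroup.zpowers v, f) a) (hx : LE p (cp x (Subgroup.zpowers v, f)) a) :
    ∃ t ∈ st a, x * v * x⁻¹ = t * v * t⁻¹ := by
  have ha : IsBl (cz a.1) a.2 := hmax.1.2.2.2.1
  -- move `a` by `x⁻¹`
  have hmax' : MP p ⊤ B (cp x⁻¹ a) := MP.cp hB hmax trivial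
  have hle' : LE p (Subgroup.zpowers v, f) (cp x⁻¹ a) := by
    have := hx.cp x⁻¹
    rwa [cp_inv_cp] at this
  have hab' : (cp x⁻¹ a).1 ≤ cz (cp x⁻¹ a).1 := by
    show cj x⁻¹ a.1 ≤ cz (cj x⁻¹ a.1)
    rw [cz_cj]
    exact cj_mono hab
  have h1 : MP p (cz (Subgroup.zpowers v)) f a := mp_of_abelian hM hB (P := a.1) (e := a.2) hmax hab hv
  have h2 : MP p (cz (Subgroup.zpowers v)) f (cp x⁻¹ a) := mp_of_abelian hM hB (P := (cp x⁻¹ a).1) (e := (cp x⁻¹ a).2) hmax' hab' hle'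
  obtain ⟨h, hh, hcp⟩ := mp_conj hM (hv.isBl ha) h1 h2
  have h3 : cp (x * h) a = a := by
    rw [← cp_cp, ← hcp, cp_cp, mul_inv_cancel, cp_one]
  have h4 : x * h ∈ st a := by
    refine ⟨?_, ?_⟩
    · have h5 : cj (x * h) a.1 = a.1 := congrArg Prod.fst h3
      show x * h ∈ Subgroup.normalizer (a.1 : Set G)
      rw [Subgroup.mem_normalizer_iff]
      intro q
      conv_rhs => rw [← h5]
      exact conj_mem_cj.symm
    · exact congrArg Prod.snd h3
  refine ⟨x * h, h4, ?_⟩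
  have h6 : v * h = h * v := mem_cz_zpowers.1 hh
  calc x * v * x⁻¹ = x * (v * h) * h⁻¹ * x⁻¹ := by group
    _ = x * (h * v) * h⁻¹ * x⁻¹ := by rw [h6]
    _ = _ := by group

/-- free action: the centralizer in the inertia group of a nontrivial subgroup -/
theorem free_inf {a : Subgroup G × MonoidAlgebra (kk M) G} (hfree : FreeA a) {Q : Subgroup G} (hQ : Q ≤ a.1) (hQ1 : Q ≠ ⊥)
    (hcz : cz a.1 ≤ st a) : st a ⊓ cz Q = cz a.1 := by
  apply le_antisymm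
  · rintro x ⟨h1, h2⟩
    obtain ⟨v, hv, hv1⟩ := exists_ne_one hQ1
    refine hfree x h1 v (hQ hv) hv1 ?_
    have h3 := Subgroup.mem_centralizer_iff.1 h2 v hv
    rw [← h3]; group
  · exact le_inf hcz (cz_le_cz hQ)

/-- local blocks are nilpotent -/
theorem free_nil (hM : IsPModular p M) {B : MonoidAlgebra (kk M) G} (hB : IsBl (⊤ : Subgroup G) B)
    {a : Subgroup G × MonoidAlgebra (kk M) G} (hmax : MP p ⊤ B a) (hab : a.1 ≤ cz a.1) (hfree : FreeA a)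
    {Q : Subgroup G} {f : MonoidAlgebra (kk M) G} (hle : LE p (Q, f) a) (hQ1 : Q ≠ ⊥) :
    NilB (G := cz Q) p (rsK (cz Q) f) := by
  have ha : IsBl (cz a.1) a.2 := hmax.1.2.2.2.1
  have hQf : Of p ⊤ B (Q, f) := (LE.of_iff hM hB hle le_top le_top).2 hmax.1
  intro R h hR x hx hreg
  have hf : IsBl (cz Q) f := hQf.2.2.2.1
  have hQp : IsPGroup p Q := hQf.1
  obtain ⟨hRp, -, -, hRb, hRm⟩ := hR
  set R' := R.map (cz Q).subtype with hR'
  set h' := embK (cz Q) h with hh'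
  have hR'le : R' ≤ cz Q := by rintro _ ⟨x, -, rfl⟩; exact x.2
  have hR'p : IsPGroup p R' := hRp.map _
  have hh'b : IsBl (cz (Q ⊔ R')) h' := by
    rw [cz_sup, inf_comm]
    rw [show cz R = (cz R' ⊓ cz Q).subgroupOf (cz Q) from cz_map R] at hRb
    exact hRb.embK inf_le_right
  have hRN : R' ≤ nz Q := hR'le.trans (cz_le_nz Q)
  have hp1 : IsPGroup p (Q ⊔ R' : Subgroup G) := hQp.to_sup_of_normal_left' hR'p hRN
  have hfx : Fx (Q ⊔ R') f := fx_iff_le.2 (sup_le (fx_iff_le.1 (fx_of_sup_centralizer hf.sup))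
    (fx_iff_le.1 (hf.fx.mono hR'le)))
  have hmul : br (Q ⊔ R') f * h' = h' := by
    rw [br_sup_eq hf.sup]
    have h1 := congrArg (embK (cz Q)) hRm
    rw [map_mul, embK_br, embK_rsK hf.sup] at h1
    exact h1
  have hns : NS p (Q, f) (Q ⊔ R', h') := ⟨hQp, hf, hp1, hh'b, le_sup_left,
    sup_le Subgroup.le_normalizer hRN, hfx, hmul⟩
  have hOf : Of p ⊤ B (Q ⊔ R', h') := (NS.of_iff hM hB hns le_top le_top).1 hQf
  have hx1 : (x : G) ∈ st (Q ⊔ R', h') := by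
    refine ⟨?_, ?_⟩
    · have h2 : (x : G) ∈ nz R' := by
        have h3 := hx.1
        rw [show nz (R, h).1 = (nz R').subgroupOf (cz Q) from nz_map R] at h3
        exact h3
      have h4 : cj (x : G) Q = Q := cj_eq_of_mem_normalizer (cz_le_nz Q x.2)
      have h5 : cj (x : G) R' = R' := cj_eq_of_mem_normalizer h2
      have h6 : cj (x : G) (Q ⊔ R') = Q ⊔ R' := by
        conv_rhs => rw [← h4, ← h5]
        exact Subgroup.map_sup _ _ _
      show (x : G) ∈ Subgroup.normalizer ((Q ⊔ R' : Subgroup G) : Set G)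
      rw [Subgroup.mem_normalizer_iff]
      intro q
      conv_rhs => rw [← h6]
      exact conj_mem_cj.symm
    · show ca (x : G) h' = h'
      rw [hh', ← embK_ca, show ca x h = h from hx.2]
  -- conjugate below `a`
  obtain ⟨y, -, hy⟩ := mp_exists_conj_le hM hB hOf hmax
  have hx2 : y * x * y⁻¹ ∈ st (cp y (Q ⊔ R', h')) := by rw [← cj_st, conj_mem_cj]; exact hx1
  obtain ⟨t, ht, c, hc, htc⟩ := ab_control hM hB (P := a.1) (e := a.2) hmax hab (Q := (cp y (Q ⊔ R', h')).1) (f := (cp y (Q ⊔ R', h')).2) hy hx2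
  have hle1 : cj y (Q ⊔ R') ≤ a.1 := hy.le
  obtain ⟨v, hv, hv1⟩ := exists_ne_one hQ1
  have hvin : y * v * y⁻¹ ∈ cj y (Q ⊔ R') := conj_mem_cj.2 (le_sup_left (α := Subgroup G) hv)
  have hxv : (x : G) * v = v * x := (Subgroup.mem_centralizer_iff.1 x.2 v hv).symm
  have hcv : (y * v * y⁻¹) * c = c * (y * v * y⁻¹) := Subgroup.mem_centralizer_iff.1 hc _ hvin
  have htv : t * (y * v * y⁻¹) * t⁻¹ = y * v * y⁻¹ := by
    have h1 : t = y * x * y⁻¹ * c⁻¹ := by rw [htc]; group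
    have h2 : c⁻¹ * (y * v * y⁻¹) * c = y * v * y⁻¹ := by rw [mul_assoc, hcv]; group
    rw [h1]
    calc y * x * y⁻¹ * c⁻¹ * (y * v * y⁻¹) * (y * x * y⁻¹ * c⁻¹)⁻¹ =
        y * x * y⁻¹ * (c⁻¹ * (y * v * y⁻¹) * c) * (y * x * y⁻¹)⁻¹ := by group
      _ = y * x * y⁻¹ * (y * v * y⁻¹) * (y * x * y⁻¹)⁻¹ := by rw [h2]
      _ = y * (x * v) * (x : G)⁻¹ * y⁻¹ := by group
      _ = y * (v * x) * (x : G)⁻¹ * y⁻¹ := by rw [hxv]
      _ = _ := by group
  have htcz : t ∈ cz a.1 := hfree t ht _ (hle1 hvin) (by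
    intro h
    apply hv1
    have : v = y⁻¹ * (y * v * y⁻¹) * y := by group
    rw [this, h]; group) htv
  have hxcz : y * x * y⁻¹ ∈ cz (cj y (Q ⊔ R')) := by
    rw [htc]
    exact (cz (cj y (Q ⊔ R'))).mul_mem (cz_le_cz hle1 htcz) hc
  have h7 : (x : G) ∈ cz (Q ⊔ R') := by
    rw [cz_cj] at hxcz
    exact conj_mem_cj.1 hxcz
  have h8 := cz_le_cz (le_sup_right : R' ≤ Q ⊔ R') h7
  show x ∈ cz R
  rw [cz_map R]
  exact Subgroup.mem_subgroupOf.2 ⟨h8, x.2⟩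

end pairs

/-- local blocks have rank one -/
theorem free_loc {G : Type*} [Group G] [Finite G] {M : Ideal AlgInt} [hMp : M.IsPrime] {p : ℕ} [hp : Fact p.Prime]
    (hM : IsPModular p M) {B : MonoidAlgebra (kk M) G} (hB : IsBl (⊤ : Subgroup G) B)
    {a : Subgroup G × MonoidAlgebra (kk M) G} (hmax : MP p ⊤ B a) (hab : a.1 ≤ cz a.1) (hfree : FreeA a)
    {Q : Subgroup G} (hQ : Q ≤ a.1) (hQ1 : Q ≠ ⊥) : LocQ p a Q := by
  have ha : IsBl (cz a.1) a.2 := hmax.1.2.2.2.1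
  have hle := bq_le hM hmax.1.1 ha hQ
  obtain ⟨e, he, hid⟩ := exists_block_of_isBl (hle.isBl ha)
  have hnl := free_nil hM hB hmax hab hfree hle hQ1
  rw [show bq p a Q = idH M (cz Q) e from hid, rsK_idH] at hnl
  obtain ⟨θ, hθ⟩ := nil_R1 hM he hnl
  exact ⟨e, θ, he, hid.symm, hθ⟩

section cyclic

variable {G : Type*} [Group G] [Finite G] {M : Ideal AlgInt} [hMp : M.IsPrime] {p : ℕ} [hp : Fact p.Prime]

/-- powers prime to `p` -/
theorem pow_mem_cz (hM : IsPModular p M) {B : MonoidAlgebra (kk M) G} (hB : IsBl (⊤ : Subgroup G) B)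
    {a : Subgroup G × MonoidAlgebra (kk M) G} (hmax : MP p ⊤ B a) (hab : a.1 ≤ cz a.1) :
    ∃ m : ℕ, ¬ p ∣ m ∧ ∀ x ∈ st a, x ^ m ∈ cz a.1 := by
  have h1 := inertial_index hM hB (P := a.1) (e := a.2) hmax
  have h2 : a.1 ⊔ cz a.1 = cz a.1 := sup_eq_right.2 hab
  rw [h2] at h1
  refine ⟨(cz a.1).relIndex (st a), h1, ?_⟩
  intro x hx
  haveI : ((cz a.1).subgroupOf (st a)).Normal := by
    refine ⟨fun n hn g => ?_⟩
    rw [Subgroup.mem_subgroupOf] at hn ⊢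
    have h3 : (g : G) ∈ nz a.1 := g.2.1
    have h4 := nz_le_nz_cz a.1 h3
    exact (Subgroup.mem_normalizer_iff.1 h4 _).1 hn
  have h3 := Subgroup.pow_index_mem ((cz a.1).subgroupOf (st a)) (⟨x, hx⟩ : st a)
  exact Subgroup.mem_subgroupOf.1 h3

/-- cyclic defect groups: the inertial quotient acts freely -/
theorem free_of_cyclic (hM : IsPModular p M) {B : MonoidAlgebra (kk M) G} (hB : IsBl (⊤ : Subgroup G) B)
    {a : Subgroup G × MonoidAlgebra (kk M) G} (hmax : MP p ⊤ B a) (hab : a.1 ≤ cz a.1) (hcyc : IsCyclic a.1) : FreeA a := by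
  intro x hx v hv hv1 hxv
  obtain ⟨m, hm, hpow⟩ := pow_mem_cz hM hB hmax hab
  obtain ⟨n, hn⟩ := hmax.1.1.exists_card_eq
  obtain ⟨g, hg⟩ := hcyc.exists_generator
  -- the action of `x` on the generator
  have hgo : orderOf (g : G) = p ^ n := by
    rw [Subgroup.orderOf_coe, orderOf_eq_card_of_forall_mem_zpowers hg, hn]
  have hgen : ∀ w ∈ a.1, ∃ j : ℕ, w = (g : G) ^ j := by
    intro w hw
    obtain ⟨j, hj⟩ := (Submonoid.mem_powers_iff _ _).1 ((mem_powers_iff_mem_zpowers).2 (hg ⟨w, hw⟩))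
    exact ⟨j, by rw [← Subgroup.coe_pow, hj]⟩
  have hxg : x * g * x⁻¹ ∈ a.1 := by
    have := Subgroup.mem_normalizer_iff.1 (show x ∈ Subgroup.normalizer (a.1 : Set G) from hx.1) g
    exact this.1 g.2
  obtain ⟨k, hk⟩ := hgen _ hxg
  obtain ⟨j, hj⟩ := hgen v hv
  have hconj : ∀ i : ℕ, x * (g : G) ^ i * x⁻¹ = (g : G) ^ (k * i) := by
    intro i
    rw [← conj_pow, hk, pow_mul]
  have h1 : (g : G) ^ (k * j) = (g : G) ^ j := by
    rw [← hconj, ← hj, hxv]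
  -- `k ≡ 1` modulo `p`
  have h2 : (p : ℤ) ∣ (k : ℤ) - 1 := by
    have h3 : k * j ≡ j [MOD p ^ n] := by
      rw [← hgo]; exact pow_eq_pow_iff_modEq.1 h1
    have h4 : ((p ^ n : ℕ) : ℤ) ∣ (j : ℤ) * ((k : ℤ) - 1) := by
      have := (Nat.modEq_iff_dvd.1 h3.symm)
      have h5 : ((k * j : ℕ) : ℤ) - (j : ℤ) = (j : ℤ) * ((k : ℤ) - 1) := by push_cast; ring
      rwa [h5] at this
    by_contra h5
    have h6 : IsCoprime ((p ^ n : ℕ) : ℤ) ((k : ℤ) - 1) := by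
      push_cast
      exact IsCoprime.pow_left ((Prime.coprime_iff_not_dvd (Nat.prime_iff_prime_int.1 hp.out)).2 h5)
    have h7 : ((p ^ n : ℕ) : ℤ) ∣ (j : ℤ) := h6.dvd_of_dvd_mul_right h4
    apply hv1
    rw [hj]
    apply orderOf_dvd_iff_pow_eq_one.1
    rw [hgo]
    exact_mod_cast h7
  -- iterate
  have hiter : ∀ r : ℕ, x ^ r * g * (x ^ r)⁻¹ = (g : G) ^ (k ^ r) := by
    intro r
    induction r with
    | zero => simp
    | succ r ih =>
      have h3 : x ^ (r + 1) * g * (x ^ (r + 1))⁻¹ = x * (x ^ r * g * (x ^ r)⁻¹) * x⁻¹ := by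
        rw [pow_succ']; group
      rw [h3, ih, hconj, ← pow_succ']
  have h3 : ((p ^ (n + 1) : ℕ) : ℤ) ∣ (k : ℤ) ^ p ^ n - 1 := by
    have := dvd_sub_pow_of_dvd_sub (a := (k : ℤ)) (b := 1) h2 n
    rw [one_pow] at this
    exact_mod_cast this
  have h4 : x ^ p ^ n ∈ cz a.1 := by
    rw [Subgroup.mem_centralizer_iff]
    intro w hw
    obtain ⟨i, hi⟩ := hgen w hw
    have h5 : x ^ p ^ n * g * (x ^ p ^ n)⁻¹ = g := by
      rw [hiter]
      have h6 : k ^ p ^ n ≡ 1 [MOD p ^ n] := by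
        apply Nat.ModEq.symm
        rw [Nat.modEq_iff_dvd]
        have h7 : ((p ^ n : ℕ) : ℤ) ∣ ((p ^ (n + 1) : ℕ) : ℤ) := by
          exact_mod_cast pow_dvd_pow p (Nat.le_succ n)
        have := h7.trans h3
        push_cast at this ⊢
        exact this
      have h8 := pow_eq_pow_iff_modEq.2 (show k ^ p ^ n ≡ 1 [MOD orderOf (g : G)] by rw [hgo]; exact h6)
      rw [h8, pow_one]
    have h6 : x ^ p ^ n * g = g * x ^ p ^ n := by
      have := congrArg (· * x ^ p ^ n) h5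
      simpa using this
    rw [hi]
    have h7 : Commute (x ^ p ^ n) (g : G) := h6
    exact (h7.pow_right i).eq.symm
  -- combine
  have h5 : Nat.Coprime (p ^ n) m := Nat.Coprime.pow_left _ ((Nat.Prime.coprime_iff_not_dvd hp.out).2 hm)
  have h6 : ((p ^ n : ℕ) : ℤ) * Nat.gcdA (p ^ n) m + (m : ℤ) * Nat.gcdB (p ^ n) m = 1 := by
    rw [← Nat.gcd_eq_gcd_ab, h5]; rfl
  have h7 : x = (x ^ p ^ n) ^ (Nat.gcdA (p ^ n) m) * (x ^ m) ^ (Nat.gcdB (p ^ n) m) := by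
    rw [← zpow_natCast x (p ^ n), ← zpow_natCast x m, ← zpow_mul, ← zpow_mul, ← zpow_add, h6, zpow_one]
  rw [h7]
  exact (cz a.1).mul_mem ((cz a.1).zpow_mem h4 _) ((cz a.1).zpow_mem (hpow x hx) _)

end cyclic

end CfsgAb
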