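import Cfsg.Agent.H4.Ab1
import Cfsg.Agent.H4.Nil7

set_option autoImplicit false
set_option linter.all false

/-! # The row relation for freely acting inertial quotients -/

open Cfsg MonoidAlgebra
open CfsgH4 hiding centralChar sum_conj regInner_symm
open CfsgH5 ComplexConjugate

namespace CfsgAb

section Count

variable {G : Type*} [Group G] [Finite G] {M : Ideal AlgInt} [hMp : M.IsPrime] {p : ℕ} [hp : Fact p.Prime]

open Classical in
/-- the weighted number of ways to move a pair below `a` -/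
noncomputable def NW [Fintype G] (p : ℕ) (a : Subgroup G × MonoidAlgebra (kk M) G) [Fintype a.1] (w : a.1 → ℂ) (u : G)
    (b : MonoidAlgebra (kk M) G) : ℂ :=
  ∑ g : G, ∑ v : a.1, if g * v * g⁻¹ = u ∧ ca g (bq p a (Subgroup.zpowers (v : G))) = b then w v else 0

theorem NW_conj [Fintype G] (a : Subgroup G × MonoidAlgebra (kk M) G) [Fintype a.1] (w : a.1 → ℂ) (x u : G)
    (b : MonoidAlgebra (kk M) G) : NW p a w (x * u * x⁻¹) (ca x b) = NW p a w u b := by
  classical
  rw [NW, NW]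
  symm
  refine Fintype.sum_equiv (Equiv.mulLeft x) _ _ fun g => ?_
  refine Finset.sum_congr rfl fun v _ => ?_
  show _ = if (x * g) * v * (x * g)⁻¹ = x * u * x⁻¹ ∧ ca (x * g) (bq p a (Subgroup.zpowers (v : G))) = ca x b then _ else _
  have h1 : (x * g) * (v : G) * (x * g)⁻¹ = x * (g * v * g⁻¹) * x⁻¹ := by group
  have h2 : (x * (g * (v : G) * g⁻¹) * x⁻¹ = x * u * x⁻¹) ↔ (g * v * g⁻¹ = u) := by
    constructor
    · intro h; exact mul_left_cancel (mul_right_cancel h)
    · intro h; rw [h]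
  have h3 : (ca (x * g) (bq p a (Subgroup.zpowers (v : G))) = ca x b) ↔ (ca g (bq p a (Subgroup.zpowers (v : G))) = b) := by
    rw [← ca_ca]
    exact ⟨fun h => ca_injective x h, fun h => by rw [h]⟩
  rw [h1]
  simp only [h2, h3]

theorem NW_of [Fintype G] (hM : IsPModular p M) {B : MonoidAlgebra (kk M) G} (hB : IsBl (⊤ : Subgroup G) B)
    {a : Subgroup G × MonoidAlgebra (kk M) G} [Fintype a.1] (hmax : MP p ⊤ B a) (w : a.1 → ℂ) {κ : ℂ}
    (hw : ∀ v₀ ∈ a.1, NW p a w v₀ (bq p a (Subgroup.zpowers v₀)) = κ) {u : G}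
    {b : MonoidAlgebra (kk M) G} (h : Of p ⊤ B (Subgroup.zpowers u, b)) : NW p a w u b = κ := by
  obtain ⟨x, -, hx⟩ := mp_exists_conj_le hM hB h hmax
  rw [← NW_conj a w x u b]
  have h1 : cp x (Subgroup.zpowers u, b) = (Subgroup.zpowers (x * u * x⁻¹), ca x b) := by rw [cp, zp_conj]
  rw [h1] at hx
  rw [← bq_eq hM hx]
  exact hw _ (hx.le (Subgroup.mem_zpowers _))

theorem NW_not [Fintype G] (hM : IsPModular p M) {B : MonoidAlgebra (kk M) G} (hB : IsBl (⊤ : Subgroup G) B)
    {a : Subgroup G × MonoidAlgebra (kk M) G} [Fintype a.1] (hmax : MP p ⊤ B a) (w : a.1 → ℂ) {u : G}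
    {b : MonoidAlgebra (kk M) G} (h : ¬ Of p ⊤ B (Subgroup.zpowers u, b)) : NW p a w u b = 0 := by
  classical
  have ha : IsBl (cz a.1) a.2 := hmax.1.2.2.2.1
  have hap : IsPGroup p a.1 := hmax.1.1
  rw [NW]
  apply Finset.sum_eq_zero
  intro g _
  apply Finset.sum_eq_zero
  intro v _
  rw [if_neg]
  rintro ⟨h1, h2⟩
  apply h
  have hle := bq_le hM hap ha (Q := Subgroup.zpowers (v : G)) (by rw [Subgroup.zpowers_le]; exact v.2)
  have hof := (LE.of_iff hM hB hle le_top le_top).2 hmax.1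
  have h3 := hof.cp_of_mem hB (x := g) trivial
  have h4 : cp g (Subgroup.zpowers (v : G), bq p a (Subgroup.zpowers (v : G))) = (Subgroup.zpowers u, b) := by
    rw [cp, zp_conj, h1, h2]
  rwa [h4] at h3

/-- the general row relation -/
theorem row_gen [Fintype G] (hM : IsPModular p M) {B : Set (IrrCharacter G)} (hB : IsPBlock M B)
    {a : Subgroup G × MonoidAlgebra (kk M) G} [Fintype a.1] (hmax : MP p ⊤ (idB M B) a) (w : a.1 → ℂ) {κ : ℂ}
    (hw : ∀ v₀ ∈ a.1, NW p a w v₀ (bq p a (Subgroup.zpowers v₀)) = κ)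
    {χ : IrrCharacter G} (hχ : χ ∈ B) (ψ : IrrCharacter G) :
    κ * classInner (χ : G → ℂ) (ψ : G → ℂ) =
      ∑ v : a.1, w v * Yf p (χ : G → ℂ) (ψ : G → ℂ) (v : G)
        (lb (cz (Subgroup.zpowers (v : G))) (bq p a (Subgroup.zpowers (v : G)))) := by
  classical
  have hBt := isBl_top hB
  have ha : IsBl (cz a.1) a.2 := hmax.1.2.2.2.1
  have hap : IsPGroup p a.1 := hmax.1.1
  have hcχ := IsIrr.isClassFunction χ.2
  have hcψ := IsIrr.isClassFunction ψ.2
  have hcG : (Nat.card G : ℂ) ≠ 0 := by exact_mod_cast Nat.card_pos.ne'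
  have h1 : ∑ g : G, (χ : G → ℂ) g * conj ((ψ : G → ℂ) g) =
      ∑ u : G, ∑ b ∈ bls M (cz (Subgroup.zpowers u)), if Of p ⊤ (idB M B) (Subgroup.zpowers u, b) then
        Yf p (χ : G → ℂ) (ψ : G → ℂ) u (lb (cz (Subgroup.zpowers u)) b) else 0 := by
    rw [sum_ppart (p := p)]
    refine Finset.sum_congr rfl fun u _ => ?_
    split_ifs with hu
    · rw [sum_Yf hM u hcχ hcψ]
      refine Finset.sum_congr rfl fun b hb => ?_
      split_ifs with h
      · rfl
      · exact Yf_zero_of_not hM hu hB (mem_bls.1 hb) h hχ _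
    · symm
      apply Finset.sum_eq_zero
      intro b _
      rw [if_neg]
      intro h
      exact hu (by
        obtain ⟨k, hk⟩ := h.1.exists_card_eq
        rw [Nat.card_zpowers] at hk
        exact ⟨k, hk⟩)
  have h2 : κ * ∑ g : G, (χ : G → ℂ) g * conj ((ψ : G → ℂ) g) =
      ∑ g : G, ∑ v : a.1, w v * Yf p (χ : G → ℂ) (ψ : G → ℂ) (v : G)
        (lb (cz (Subgroup.zpowers (v : G))) (bq p a (Subgroup.zpowers (v : G)))) := by
    rw [h1, Finset.mul_sum]
    have h3 : ∀ u : G, κ * ∑ b ∈ bls M (cz (Subgroup.zpowers u)),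
        (if Of p ⊤ (idB M B) (Subgroup.zpowers u, b) then
          Yf p (χ : G → ℂ) (ψ : G → ℂ) u (lb (cz (Subgroup.zpowers u)) b) else 0) =
        ∑ g : G, ∑ v : a.1, ∑ b ∈ bls M (cz (Subgroup.zpowers u)),
          (if g * v * g⁻¹ = u ∧ ca g (bq p a (Subgroup.zpowers (v : G))) = b then
            w v * Yf p (χ : G → ℂ) (ψ : G → ℂ) u (lb (cz (Subgroup.zpowers u)) b) else 0) := by
      intro u
      rw [Finset.mul_sum]
      have h4 : ∀ b ∈ bls M (cz (Subgroup.zpowers u)), κ *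
          (if Of p ⊤ (idB M B) (Subgroup.zpowers u, b) then
            Yf p (χ : G → ℂ) (ψ : G → ℂ) u (lb (cz (Subgroup.zpowers u)) b) else 0) =
          ∑ g : G, ∑ v : a.1, (if g * v * g⁻¹ = u ∧ ca g (bq p a (Subgroup.zpowers (v : G))) = b then
            w v * Yf p (χ : G → ℂ) (ψ : G → ℂ) u (lb (cz (Subgroup.zpowers u)) b) else 0) := by
        intro b hb
        have h5 : κ * (if Of p ⊤ (idB M B) (Subgroup.zpowers u, b) then
            Yf p (χ : G → ℂ) (ψ : G → ℂ) u (lb (cz (Subgroup.zpowers u)) b) else 0) =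
            NW p a w u b * Yf p (χ : G → ℂ) (ψ : G → ℂ) u (lb (cz (Subgroup.zpowers u)) b) := by
          split_ifs with h
          · rw [NW_of hM hBt hmax w hw h]
          · rw [NW_not hM hBt hmax w h]; ring
        rw [h5, NW, Finset.sum_mul]
        refine Finset.sum_congr rfl fun g _ => ?_
        rw [Finset.sum_mul]
        refine Finset.sum_congr rfl fun v _ => ?_
        rw [ite_mul, zero_mul]
      rw [Finset.sum_congr rfl h4, Finset.sum_comm]
      refine Finset.sum_congr rfl fun g _ => ?_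
      rw [Finset.sum_comm]
    rw [Finset.sum_congr rfl fun u _ => h3 u, Finset.sum_comm]
    refine Finset.sum_congr rfl fun g _ => ?_
    rw [Finset.sum_comm]
    refine Finset.sum_congr rfl fun v _ => ?_
    have hle := bq_le hM hap ha (Q := Subgroup.zpowers (v : G)) (by rw [Subgroup.zpowers_le]; exact v.2)
    have hbl := hle.isBl ha
    have hbl' : IsBl (cz (Subgroup.zpowers (g * v * g⁻¹))) (ca g (bq p a (Subgroup.zpowers (v : G)))) := by
      rw [← zp_conj, cz_cj]; exact hbl.ca g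
    rw [Finset.sum_eq_single (g * v * g⁻¹)]
    · rw [Finset.sum_eq_single (ca g (bq p a (Subgroup.zpowers (v : G))))]
      · rw [if_pos ⟨rfl, rfl⟩]
        congr 1
        have h6 : lb (cz (Subgroup.zpowers (g * (v : G) * g⁻¹))) (ca g (bq p a (Subgroup.zpowers (v : G)))) =
            ca g (lb (cz (Subgroup.zpowers (v : G))) (bq p a (Subgroup.zpowers (v : G)))) := by
          rw [← zp_conj, cz_cj]; exact lb_ca hbl g
        rw [h6, Yf_conj hcχ hcψ]
      · intro b _ hne
        rw [if_neg]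
        rintro ⟨-, h⟩; exact hne h.symm
      · intro h; exact absurd (mem_bls.2 hbl') h
    · intro u _ hne
      apply Finset.sum_eq_zero
      intro b _
      rw [if_neg]
      rintro ⟨h, -⟩; exact hne h.symm
    · intro h; exact absurd (Finset.mem_univ _) h
  rw [classInner_def, ← mul_assoc, mul_comm κ, mul_assoc, h2, Finset.sum_const, Finset.card_univ,
    nsmul_eq_mul, ← Nat.card_eq_fintype_card, ← mul_assoc, inv_mul_cancel₀ hcG, one_mul]

/-- orbits of a free action -/
theorem card_orbit {a : Subgroup G × MonoidAlgebra (kk M) G} (hfree : FreeA a) {v₀ : G} (hv₀ : v₀ ∈ a.1) (hv1 : v₀ ≠ 1) :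
    Nat.card {v : a.1 // ∃ t ∈ st a, (v : G) = t * v₀ * t⁻¹} = (cz a.1).relIndex (st a) := by
  rw [Subgroup.relIndex, Subgroup.index]
  symm
  have hmem : ∀ t ∈ st a, t * v₀ * t⁻¹ ∈ a.1 := by
    intro t ht
    have := Subgroup.mem_normalizer_iff.1 (show t ∈ Subgroup.normalizer (a.1 : Set G) from ht.1) v₀
    exact this.1 hv₀
  let f : (st a ⧸ (cz a.1).subgroupOf (st a)) → {v : a.1 // ∃ t ∈ st a, (v : G) = t * v₀ * t⁻¹} := fun q =>
    Quotient.liftOn' q (fun t : st a => ⟨⟨(t : G) * v₀ * (t : G)⁻¹, hmem t t.2⟩, t, t.2, rfl⟩) (by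
      intro t s hts
      have h1 : (t : G)⁻¹ * s ∈ cz a.1 := by
        have := QuotientGroup.leftRel_apply.1 hts
        exact Subgroup.mem_subgroupOf.1 this
      have h2 : v₀ * ((t : G)⁻¹ * s) = (t : G)⁻¹ * s * v₀ := Subgroup.mem_centralizer_iff.1 h1 v₀ hv₀
      apply Subtype.ext
      apply Subtype.ext
      show (t : G) * v₀ * (t : G)⁻¹ = s * v₀ * (s : G)⁻¹
      calc (t : G) * v₀ * (t : G)⁻¹ = t * (v₀ * ((t : G)⁻¹ * s)) * (s : G)⁻¹ := by group
        _ = t * ((t : G)⁻¹ * s * v₀) * (s : G)⁻¹ := by rw [h2]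
        _ = _ := by group)
  refine Nat.card_congr (Equiv.ofBijective f ⟨?_, ?_⟩)
  · intro q r
    refine Quotient.inductionOn₂' q r ?_
    intro t s h
    have h1 : (t : G) * v₀ * (t : G)⁻¹ = s * v₀ * (s : G)⁻¹ := congrArg (fun z => ((z.1 : a.1) : G)) h
    apply Quotient.sound'
    rw [QuotientGroup.leftRel_apply]
    rw [Subgroup.mem_subgroupOf]
    show (t : G)⁻¹ * s ∈ cz a.1
    refine hfree _ ((st a).mul_mem ((st a).inv_mem t.2) s.2) v₀ hv₀ hv1 ?_
    calc (t : G)⁻¹ * s * v₀ * ((t : G)⁻¹ * s)⁻¹ = (t : G)⁻¹ * (s * v₀ * (s : G)⁻¹) * t := by group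
      _ = (t : G)⁻¹ * (t * v₀ * (t : G)⁻¹) * t := by rw [h1]
      _ = v₀ := by group
  · rintro ⟨v, t, ht, hv⟩
    refine ⟨Quotient.mk'' ⟨t, ht⟩, ?_⟩
    apply Subtype.ext
    apply Subtype.ext
    exact hv.symm

/-- the weights in the free case -/
noncomputable def wF (e : ℕ) (P : Subgroup G) (v : P) : ℂ :=
  open Classical in if (v : G) = 1 then (e : ℂ) / (Nat.card G : ℂ) else
    1 / (Nat.card (Subgroup.centralizer ({(v : G)} : Set G)) : ℂ)

theorem NW_free [Fintype G] (hM : IsPModular p M) {B : MonoidAlgebra (kk M) G} (hB : IsBl (⊤ : Subgroup G) B)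
    {a : Subgroup G × MonoidAlgebra (kk M) G} [Fintype a.1] (hmax : MP p ⊤ B a) (hab : a.1 ≤ cz a.1) (hfree : FreeA a)
    {v₀ : G} (hv₀ : v₀ ∈ a.1) :
    NW p a (wF ((cz a.1).relIndex (st a)) a.1) v₀ (bq p a (Subgroup.zpowers v₀)) = ((cz a.1).relIndex (st a) : ℂ) := by
  classical
  have ha : IsBl (cz a.1) a.2 := hmax.1.2.2.2.1
  have hap : IsPGroup p a.1 := hmax.1.1
  set b₀ := bq p a (Subgroup.zpowers v₀) with hb₀
  have hle₀ : LE p (Subgroup.zpowers v₀, b₀) a := bq_le hM hap ha (by rw [Subgroup.zpowers_le]; exact hv₀)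
  have hbl₀ : IsBl (cz (Subgroup.zpowers v₀)) b₀ := hle₀.isBl ha
  have hcG : (Nat.card G : ℂ) ≠ 0 := by exact_mod_cast Nat.card_pos.ne'
  rw [NW, Finset.sum_comm]
  by_cases hv1 : v₀ = 1
  · subst hv1
    have h1 : ∀ v : a.1, v ≠ 1 → ∑ g : G, (if g * (v : G) * g⁻¹ = 1 ∧ ca g (bq p a (Subgroup.zpowers (v : G))) = b₀ then
        wF ((cz a.1).relIndex (st a)) a.1 v else 0) = 0 := by
      intro v hv
      apply Finset.sum_eq_zero
      intro g _
      rw [if_neg]
      rintro ⟨h1, -⟩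
      apply hv
      apply Subtype.ext
      show (v : G) = 1
      have : (v : G) = g⁻¹ * (g * v * g⁻¹) * g := by group
      rw [this, h1]; group
    rw [Finset.sum_eq_single (1 : a.1) (fun v _ hv => h1 v hv) (fun h => absurd (Finset.mem_univ _) h)]
    have h2 : ∀ g : G, (if g * ((1 : a.1) : G) * g⁻¹ = 1 ∧ ca g (bq p a (Subgroup.zpowers ((1 : a.1) : G))) = b₀ then
        wF ((cz a.1).relIndex (st a)) a.1 1 else 0) = wF ((cz a.1).relIndex (st a)) a.1 1 := by
      intro g
      rw [if_pos]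
      refine ⟨by simp, ?_⟩
      have h3 : bq p a (Subgroup.zpowers ((1 : a.1) : G)) = b₀ := rfl
      rw [h3]
      apply hbl₀.fx.ca_eq
      rw [mem_cz_zpowers]; simp
    rw [Finset.sum_congr rfl fun g _ => h2 g, Finset.sum_const, Finset.card_univ, nsmul_eq_mul, ← Nat.card_eq_fintype_card,
      wF, if_pos (by simp), mul_div_cancel₀ _ hcG]
  · have key : ∀ v : a.1, ∑ g : G, (if g * v * g⁻¹ = v₀ ∧ ca g (bq p a (Subgroup.zpowers (v : G))) = b₀ then
        wF ((cz a.1).relIndex (st a)) a.1 v else 0) = if ∃ t ∈ st a, (v : G) = t * v₀ * t⁻¹ then (1 : ℂ) else 0 := by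
      intro v
      split_ifs with hconj
      · obtain ⟨y, hy, hyG⟩ := hconj
        have hv1' : (v : G) ≠ 1 := by
          intro h
          apply hv1
          have : v₀ = y⁻¹ * (y * v₀ * y⁻¹) * y := by group
          rw [this, ← hyG, h]; group
        have hbv : bq p a (Subgroup.zpowers (v : G)) = ca y b₀ := by
          rw [hyG, (bq_st hM hap ha hv₀ hy).2]
        have h1 : ∀ g : G, (g * v * g⁻¹ = v₀ ∧ ca g (bq p a (Subgroup.zpowers (v : G))) = b₀) ↔ g * v * g⁻¹ = y⁻¹ * v * (y⁻¹)⁻¹ := by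
          intro g
          have e1 : y⁻¹ * v * (y⁻¹)⁻¹ = v₀ := by rw [hyG]; group
          rw [e1]
          constructor
          · exact fun h => h.1
          · intro h
            refine ⟨h, ?_⟩
            rw [hbv, ca_ca]
            apply hbl₀.fx.ca_eq
            rw [mem_cz_zpowers]
            have h2 : g * y * v₀ * (g * y)⁻¹ = v₀ := by
              calc g * y * v₀ * (g * y)⁻¹ = g * (y * v₀ * y⁻¹) * g⁻¹ := by group
                _ = v₀ := by rw [← hyG, h]
            have h3 := congrArg (· * (g * y)) h2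
            simp only [inv_mul_cancel_right] at h3
            exact h3.symm
        simp only [h1]
        rw [Finset.sum_ite, Finset.sum_const_zero, add_zero, Finset.sum_const, nsmul_eq_mul]
        have h2 : (Finset.univ.filter (fun g : G => g * v * g⁻¹ = y⁻¹ * v * (y⁻¹)⁻¹)).card =
            Nat.card (Subgroup.centralizer ({(v : G)} : Set G)) := by
          rw [← card_conj_fiber (v : G) (y⁻¹), Nat.card_eq_fintype_card, Fintype.card_subtype]
        rw [h2, wF, if_neg hv1', mul_one_div_cancel]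
        exact_mod_cast Nat.card_pos.ne'
      · apply Finset.sum_eq_zero
        intro g _
        rw [if_neg]
        rintro ⟨h1, h2⟩
        apply hconj
        have hv : g⁻¹ * v₀ * g = v := by rw [← h1]; group
        have hcp : cp g⁻¹ (Subgroup.zpowers v₀, b₀) = (Subgroup.zpowers (v : G), bq p a (Subgroup.zpowers (v : G))) := by
          rw [cp, zp_conj, inv_inv, hv, ← h2, ca_inv_ca]
        have hle : LE p (cp g⁻¹ (Subgroup.zpowers v₀, b₀)) a := by
          rw [hcp]
          exact bq_le hM hap ha (by rw [Subgroup.zpowers_le]; exact v.2)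
        obtain ⟨y, hy, h3⟩ := ab_fuse hM hB hmax hab hle₀ hle
        refine ⟨y, hy, ?_⟩
        rw [← h3, inv_inv, hv]
    rw [Finset.sum_congr rfl fun v _ => key v, Finset.sum_boole, ← card_orbit hfree hv₀ hv1, Nat.card_eq_fintype_card,
      Fintype.card_subtype]

/-- the row relation in the free case -/
theorem free_row [Fintype G] (hM : IsPModular p M) {B : Set (IrrCharacter G)} (hB : IsPBlock M B)
    {a : Subgroup G × MonoidAlgebra (kk M) G} [Fintype a.1] (hmax : MP p ⊤ (idB M B) a) (hab : a.1 ≤ cz a.1)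
    (hfree : FreeA a) {χ : IrrCharacter G} (hχ : χ ∈ B) (ψ : IrrCharacter G) :
    ((cz a.1).relIndex (st a) : ℂ) * classInner (χ : G → ℂ) (ψ : G → ℂ) =
      ∑ v : a.1, wF ((cz a.1).relIndex (st a)) a.1 v * Yf p (χ : G → ℂ) (ψ : G → ℂ) (v : G)
        (lb (cz (Subgroup.zpowers (v : G))) (bq p a (Subgroup.zpowers (v : G)))) :=
  row_gen hM hB hmax _ (fun v₀ hv₀ => NW_free hM (isBl_top hB) hmax hab hfree hv₀) hχ ψ

end Count

end CfsgAb
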