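import Cfsg.Agent.H4.Nil13
import Cfsg.Agent.H5.OneChar

set_option autoImplicit false
set_option linter.all false

/-! # Nilpotent blocks: the bijection with the characters of the defect group -/

open Cfsg MonoidAlgebra
open CfsgH4 hiding centralChar sum_conj regInner_symm
open CfsgH5 ComplexConjugate

namespace CfsgH4

section Bij

universe u

variable {G : Type u} [Group G] [Fintype G] {M : Ideal AlgInt} [hMp : M.IsPrime] {p : ℕ} [hp : Fact p.Prime]

theorem nil_D (hM : IsPModular p M) {B : Set (IrrCharacter G)} (hB : IsPBlock M B)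
    (hnil : NilB p (idB M B)) {P : Subgroup G} [Fintype P] (hP : IsDefectGroup p M B P) {χ : IrrCharacter G} (hχ : χ ∈ B)
    (h0 : blockHeight p B (χ : G → ℂ) = 0) :
    (∀ ψ ∈ B, ∃ D : P → ℂ, IsIrrCharacter P D ∧ D 1 * (χ : G → ℂ) 1 = (ψ : G → ℂ) 1) ∧
    (∃ D : IrrCharacter G → P → ℂ, (∀ ψ ∈ B, IsIrrCharacter P (D ψ)) ∧
      (∀ ψ ∈ B, D ψ 1 * (χ : G → ℂ) 1 = (ψ : G → ℂ) 1) ∧ (∀ ψ ∈ B, ∀ ψ' ∈ B, D ψ = D ψ' → ψ = ψ')) ∧
      (Nat.card P : ℂ) * regInner p (χ : G → ℂ) (χ : G → ℂ) = Nat.card G := by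
  classical
  obtain ⟨e, ib, i, hmax, hib, hfib, hbr, hi, hii, hred, hfi, hπ⟩ := exists_good hM hB hP hχ h0
  have hBt := isBl_top hB
  have ha : IsBl (cz P) e := hmax.1.2.2.2.1
  have hap : IsPGroup p P := hmax.1.1
  have hcard : Nat.card P = p ^ blockDefect p B := card_mp hM hB hmax
  have hcX0 : (Nat.card P : ℂ) ≠ 0 := by exact_mod_cast Nat.card_pos.ne'
  have hcG0 : (Nat.card G : ℂ) ≠ 0 := by exact_mod_cast Nat.card_pos.ne'
  obtain ⟨n, dd, hpk0⟩ := exists_pack hM hBt hnil hmax hib hfib hbr hi hii hred hfi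
  have hpk := fun v : P => hpk0 v (nil_loc hM hB hnil hmax (by
    rw [Subgroup.zpowers_le]; exact v.2))
  -- the cut characters
  obtain ⟨π, hπdef⟩ : ∃ π : IrrCharacter G → P → ℂ, π = fun (φ : IrrCharacter G) (v : P) => ev (φ : G → ℂ) (single (v : G) 1 * i) := ⟨_, rfl⟩
  have hπc : ∀ φ, IsCharacter P (π φ) := by
    intro φ
    rw [hπdef]
    exact isCharacter_cut P hii hfi (IsIrr.isCharacter φ.2)
  have hord : ∀ v : P, ∃ k, orderOf v = p ^ k := fun v => (IsPGroup.iff_orderOf.1 hap) v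
  have hπ1 : ∀ φ : IrrCharacter G, π φ 1 = ev (φ : G → ℂ) i := by
    intro φ
    rw [hπdef]
    show ev (φ : G → ℂ) (single ((1 : P) : G) 1 * i) = _
    rw [Subgroup.coe_one, ← MonoidAlgebra.one_def, one_mul]
  have hunit : ∀ v : P, ¬ MemLocalIdeal M (π χ v) := by
    intro v
    have h1 := char_cong' hM (hπc χ) (Commute.one_right v) (hord v)
    rw [mul_one] at h1
    apply not_memLocalIdeal_of_sub h1
    rw [hπ1]; exact hπ
  have hπne : ∀ v : P, π χ v ≠ 0 := fun v => ne_zero_of_not_memLocalIdeal (hunit v)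
  have hpi : ∀ (φ : IrrCharacter G) (v : P), π φ v = n (Subgroup.zpowers (v : G)) * dd v φ := by
    intro φ v
    rw [hπdef]; exact (hpk v).1 φ
  have hn0 : ∀ v : P, (n (Subgroup.zpowers (v : G)) : ℂ) ≠ 0 := by
    intro v h
    apply hπne v
    rw [hpi χ v, h, zero_mul]
  have hddeq : ∀ (φ : IrrCharacter G) (v : P), dd v φ = π φ v / n (Subgroup.zpowers (v : G)) := by
    intro φ v
    rw [hpi φ v, mul_div_cancel_left₀ _ (hn0 v)]
  have hzp : ∀ (v : P) (k : ℕ), k.Coprime (Nat.card P) →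
      Subgroup.zpowers ((v ^ k : P) : G) = Subgroup.zpowers (v : G) := by
    intro v k hk
    rw [Subgroup.coe_pow]
    apply zp_pow _ hk
    rw [Subgroup.orderOf_coe]; exact orderOf_dvd_natCard v
  have hgaldd : ∀ (σ : ℂ ≃+* ℂ) (k : ℕ), k.Coprime (Nat.card P) → (∀ z : ℂ, z ^ Nat.card P = 1 → σ z = z ^ k) →
      ∀ (v : P) (φ : IrrCharacter G), σ (dd v φ) = dd ((v ^ k : P) : G) φ ∧
        σ (conj (dd v φ)) = conj (dd ((v ^ k : P) : G) φ) := by
    intro σ k hk hσ v φ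
    rw [hddeq φ v, hddeq φ (v ^ k), hzp v k hk]
    constructor
    · rw [map_div₀, map_natCast, char_aut_pow (fun g => orderOf_dvd_natCard g) σ hσ (hπc φ)]
    · rw [map_div₀, map_div₀, map_div₀, Complex.conj_natCast, map_natCast,
        galois_conj_char rfl σ hσ (hπc φ)]
  have hrow : ∀ {φ : IrrCharacter G}, φ ∈ B → ∀ φ' : IrrCharacter G,
      (Nat.card P : ℂ) * classInner (φ : G → ℂ) (φ' : G → ℂ) = ∑ v : P, dd v φ * conj (dd v φ') := by
    intro φ hφ φ'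
    rw [row_rel (a := (P, e)) hM hB hnil hmax hφ φ']
    exact Finset.sum_congr rfl fun v _ => (hpk v).2.2 φ φ'
  obtain ⟨-, hone⟩ := amgm (Finset.univ : Finset P) (fun k hk v => by simp) (fun v : P => dd v χ)
    (fun v _ => (hpk v).2.1 χ)
    (fun v _ h => hπne v (by rw [hpi χ v, h, mul_zero]))
    (fun σ k hk hσ v _ => by
      have := hgaldd σ k hk hσ v χ
      rw [map_mul, this.1, this.2]) (A := 1) one_pos (c := 1) one_pos (by
      have h1 := hrow hχ χ
      rw [classInner_irr_self χ.2, mul_one] at h1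
      rw [Finset.card_univ, ← Nat.card_eq_fintype_card, h1]
      simp)
  have hone' : ∀ v : P, dd v χ * conj (dd v χ) = 1 := fun v => hone v (Finset.mem_univ v)
  have hconjne : ∀ v : P, conj (π χ v) ≠ 0 := fun v h => hπne v (by
    have := congrArg conj h
    rwa [Complex.conj_conj, map_zero] at this)
  have hreg1 : (Nat.card P : ℂ) * regInner p (χ : G → ℂ) (χ : G → ℂ) = Nat.card G := by
    have h1 := wP_Yf_central hM hB hmax (1 : P) (by
      show ((1 : P) : G) ∈ Subgroup.center G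
      rw [Subgroup.coe_one]; exact Subgroup.one_mem _) hχ hχ
    have h2 : wP P (1 : P) * Yf p (χ : G → ℂ) (χ : G → ℂ) ((1 : P) : G)
        (lb (cz (Subgroup.zpowers ((1 : P) : G))) (bq p (P, e) (Subgroup.zpowers ((1 : P) : G)))) = 1 :=
      ((hpk 1).2.2 χ χ).trans (hone' 1)
    rw [h2] at h1
    have h3 : (χ : G → ℂ) ((1 : P) : G) / (χ : G → ℂ) 1 = 1 := by
      rw [Subgroup.coe_one, div_self (IsIrr.one_ne_zero χ.2)]
    have h4 : (1 : ℂ) = (Nat.card P : ℂ) / (Nat.card G : ℂ) * regInner p (χ : G → ℂ) (χ : G → ℂ) := by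
      rw [h3] at h1
      simpa using h1
    field_simp at h4
    exact h4.symm
  obtain ⟨D, hD⟩ : ∃ D : IrrCharacter G → P → ℂ, D = fun ψ (v : P) => dd v ψ * conj (dd v χ) := ⟨_, rfl⟩
  have hDv : ∀ (ψ : IrrCharacter G) (v : P), D ψ v = dd v ψ * conj (dd v χ) := fun ψ v => by rw [hD]
  have hDF : ∀ ψ : IrrCharacter G, D ψ = fun v => (π ψ v * conj (π χ v)) / (π χ v * conj (π χ v)) := by
    intro ψ
    funext v
    rw [hDv, eq_div_iff (mul_ne_zero (hπne v) (hconjne v)), hpi ψ v, hpi χ v, map_mul, Complex.conj_natCast]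
    linear_combination ((n (Subgroup.zpowers (v : G)) : ℂ) ^ 2 * dd v ψ * conj (dd v χ)) * hone' v
  have hDgen : ∀ ψ : IrrCharacter G, IsGeneralizedCharacter P (D ψ) := by
    intro ψ
    have hgψ := IsCharacter.isGen (hπc ψ)
    have hgχ := IsCharacter.isGen (hπc χ)
    have hgc := isGen_conj hgχ
    have hFro : ∀ μ : IrrCharacter P, MemLocalRing M (classInner (D ψ) (μ : P → ℂ)) := by
      intro μ
      rw [hDF]
      apply mem_ro (isGen_mul hgψ hgc) (isGen_mul hgχ hgc)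
      intro v
      show ¬ MemLocalIdeal M (π χ v * conj (π χ v))
      rw [memLocalIdeal_mul_iff (memLocalRing_char (hπc χ) v) (by
        rw [← IsCharacter.inv_eq (hπc χ)]; exact memLocalRing_char (hπc χ) _)]
      rintro (h | h)
      · exact hunit v h
      · rw [← IsCharacter.inv_eq (hπc χ)] at h
        exact hunit _ h
    have hDint : ∀ v, IsIntegral ℤ (D ψ v) := fun v => by
      rw [hDv]; exact ((hpk v).2.1 ψ).mul (isIntegral_conj ((hpk v).2.1 χ))
    have hDgal : GalEq (D ψ) := by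
      intro σ k hk hσ v
      rw [hDv, hDv, map_mul, (hgaldd σ k hk hσ v ψ).1, (hgaldd σ k hk hσ v χ).2]
    have hDcl : IsClassFunction P (D ψ) := by
      intro g h
      rw [hDF]
      show (π ψ (h * g * h⁻¹) * conj (π χ (h * g * h⁻¹))) / (π χ (h * g * h⁻¹) * conj (π χ (h * g * h⁻¹))) = _
      rw [IsCharacter.isClassFunction (hπc ψ), IsCharacter.isClassFunction (hπc χ)]
    exact (norm_int hDcl (fun μ => int_of_ro hM hcard hDint hDgal (hFro μ))).1
  have hDin : ∀ ψ ∈ B, ∀ ψ' : IrrCharacter G, classInner (D ψ) (D ψ') = classInner (ψ : G → ℂ) (ψ' : G → ℂ) := by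
    intro ψ hψ ψ'
    have h1 := hrow hψ ψ'
    have h2 : ∑ v : P, D ψ v * conj (D ψ' v) = ∑ v : P, dd v ψ * conj (dd v ψ') := by
      refine Finset.sum_congr rfl fun v _ => ?_
      rw [hDv, hDv, map_mul, Complex.conj_conj]
      linear_combination (dd v ψ * conj (dd v ψ')) * hone' v
    rw [classInner_def, h2, ← h1, ← mul_assoc, inv_mul_cancel₀ hcX0, one_mul]
  obtain ⟨θ, hθ⟩ := nil_R1 hM hB hnil
  have hdeg : ∀ ψ ∈ B, D ψ 1 * (χ : G → ℂ) 1 = (ψ : G → ℂ) 1 := by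
    intro ψ hψ
    have h1 : pRegularPart p (ψ : G → ℂ) = ((ψ : G → ℂ) 1 / (χ : G → ℂ) 1) • pRegularPart p (χ : G → ℂ) :=
      rank_one_prop hθ.rank hψ hχ
    have h2 : ev (ψ : G → ℂ) i = ((ψ : G → ℂ) 1 / (χ : G → ℂ) 1) * ev (χ : G → ℂ) i := by
      have h3 : ev (ψ : G → ℂ) i = ev (fun g => ((ψ : G → ℂ) 1 / (χ : G → ℂ) 1) * (χ : G → ℂ) g) i := by
        apply ev_idem_reg hM hi hii (IsIrr.isClassFunction ψ.2)
        · intro g h
          show _ * (χ : G → ℂ) (h * g * h⁻¹) = _ * (χ : G → ℂ) g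
          rw [IsIrr.isClassFunction χ.2]
        · intro g hg
          have h4 := congrFun h1 g
          rw [Pi.smul_apply, smul_eq_mul, rho_reg hg, rho_reg hg] at h4
          exact h4
      rw [h3, ev_eq_sum, ev_eq_sum, Finset.mul_sum]
      refine Finset.sum_congr rfl fun c _ => ?_
      ring
    have h5 : D ψ 1 = (ψ : G → ℂ) 1 / (χ : G → ℂ) 1 := by
      rw [hDF]
      show (π ψ 1 * conj (π χ 1)) / (π χ 1 * conj (π χ 1)) = _
      rw [div_eq_iff (mul_ne_zero (hπne 1) (hconjne 1)), hπ1, hπ1, h2]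
      ring
    rw [h5, div_mul_cancel₀ _ (IsIrr.one_ne_zero χ.2)]
  have hirr : ∀ ψ ∈ B, IsIrrCharacter P (D ψ) := by
    intro ψ hψ
    rcases IsGen.norm_one (hDgen ψ) (by rw [hDin ψ hψ ψ, classInner_irr_self ψ.2]) with h | h
    · exact h
    · exfalso
      have h1 := (IsIrr.one_eq h).1
      have h2 := (IsIrr.one_eq h).2
      have h3 := hdeg ψ hψ
      rw [(IsIrr.one_eq ψ.2).1, (IsIrr.one_eq χ.2).1] at h3
      have h4 : D ψ 1 = -(charDegree (-(D ψ)) : ℂ) := by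
        rw [← h1]; simp
      rw [h4] at h3
      have h5 : (-(charDegree (-(D ψ)) : ℤ)) * (charDegree (χ : G → ℂ) : ℤ) = charDegree (ψ : G → ℂ) := by
        exact_mod_cast h3
      have h6 : (0 : ℤ) < charDegree (χ : G → ℂ) := by exact_mod_cast (IsIrr.one_eq χ.2).2
      have h7 : (0 : ℤ) < charDegree (ψ : G → ℂ) := by exact_mod_cast (IsIrr.one_eq ψ.2).2
      have h8 : (0 : ℤ) < charDegree (-(D ψ)) := by exact_mod_cast h2
      nlinarith
  refine ⟨fun ψ hψ => ⟨D ψ, hirr ψ hψ, hdeg ψ hψ⟩, ⟨D, hirr, hdeg, ?_⟩, hreg1⟩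
  intro ψ hψ ψ' hψ' heq
  have h1 := hDin ψ hψ ψ'
  rw [← heq, hDin ψ hψ ψ, classInner_irr_self ψ.2, classInner_irr'] at h1
  by_contra hne
  rw [if_neg hne] at h1
  exact one_ne_zero h1

theorem nil_bij (hM : IsPModular p M) {B : Set (IrrCharacter G)} (hnil : IsNilpotentBlock p M B)
    {P : Subgroup G} (hP : IsDefectGroup p M B P) :
    ∃ Φ : B ≃ IrrCharacter P, ∀ χ : B, blockHeight p B ((χ : IrrCharacter G) : G → ℂ) =
      (charDegree ((Φ χ : IrrCharacter P) : P → ℂ)).factorization p := by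
  classical
  haveI : Fintype P := Fintype.ofFinite P
  obtain ⟨hB, hn⟩ := (nil_iff hM).1 hnil
  obtain ⟨χ, hχ, h0⟩ := exists_height_zero p (IsPBlock.nonempty hB)
  obtain ⟨-, ⟨D, hD1, hD2, hD3⟩, hreg⟩ := nil_D hM hB hn hP hχ h0
  let Φ : B → IrrCharacter P := fun ψ => ⟨D ψ, hD1 ψ ψ.2⟩
  have hinj : Function.Injective Φ := by
    intro ψ ψ' h
    apply Subtype.ext
    exact hD3 ψ ψ.2 ψ' ψ'.2 (congrArg Subtype.val h)
  have hχ1 : (χ : G → ℂ) 1 ≠ 0 := IsIrr.one_ne_zero χ.2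
  have hdeg : ∀ ψ : B, charDegree (Φ ψ : P → ℂ) * charDegree (χ : G → ℂ) = charDegree ((ψ : IrrCharacter G) : G → ℂ) := by
    intro ψ
    have h1 := hD2 ψ ψ.2
    have h2 : D ψ 1 = (charDegree (Φ ψ : P → ℂ) : ℂ) := (IsIrr.one_eq (Φ ψ).2).1
    rw [h2, (IsIrr.one_eq χ.2).1, (IsIrr.one_eq (ψ : IrrCharacter G).2).1] at h1
    exact_mod_cast h1
  -- the sum of squares
  obtain ⟨θ, hθ⟩ := nil_R1 hM hB hn
  obtain ⟨φ, d, nn, -, h2, h3, h4, h5⟩ := rank_one_struct hM hB hθ.rank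
  have hcard : Nat.card P = p ^ blockDefect p B := defectGroup_card hM hB hP
  have hcG0 : (Nat.card G : ℂ) ≠ 0 := by exact_mod_cast Nat.card_pos.ne'
  have hdχ : d χ = 1 := by
    have h6 := h5 χ hχ χ hχ
    rw [hcard] at hreg
    push_cast at hreg
    rw [hreg] at h6
    have h7 : (d χ : ℂ) * d χ = 1 := by
      have : (Nat.card G : ℂ) * ((d χ : ℂ) * d χ) = (Nat.card G : ℂ) * 1 := by rw [mul_one]; exact h6.symm
      exact mul_left_cancel₀ hcG0 this
    have h8 : d χ * d χ = 1 := by exact_mod_cast h7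
    exact Nat.eq_one_of_mul_eq_one_right h8
  have hφ1 : (χ : G → ℂ) 1 = φ 1 := by
    rw [h2 χ hχ 1 not_dvd_orderOf_one, hdχ]; simp
  have hdΦ : ∀ ψ : B, charDegree (Φ ψ : P → ℂ) = d ψ := by
    intro ψ
    have h6 := hdeg ψ
    have h7 := h2 ψ ψ.2 1 not_dvd_orderOf_one
    rw [← hφ1, (IsIrr.one_eq (ψ : IrrCharacter G).2).1, (IsIrr.one_eq χ.2).1] at h7
    have h8 : charDegree ((ψ : IrrCharacter G) : G → ℂ) = d ψ * charDegree (χ : G → ℂ) := by exact_mod_cast h7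
    rw [h8] at h6
    exact Nat.eq_of_mul_eq_mul_right (IsIrr.one_eq χ.2).2 h6
  have hsum : ∑ ψ : B, charDegree (Φ ψ : P → ℂ) ^ 2 = Nat.card P := by
    rw [hcard, ← h3, ← Finset.sum_filter, Finset.sum_congr rfl fun ψ _ => by rw [hdΦ ψ]]
    refine Finset.sum_bij (fun ψ _ => (ψ : IrrCharacter G)) (fun ψ _ => by
      rw [Finset.mem_filter]; exact ⟨Finset.mem_univ _, ψ.2⟩) (fun ψ _ ψ' _ h => Subtype.ext h)
      (fun ψ hψ => ⟨⟨ψ, (Finset.mem_filter.1 hψ).2⟩, Finset.mem_univ _, rfl⟩) (fun ψ _ => rfl)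
  have hsurj : Function.Surjective Φ := by
    by_contra hns
    rw [Function.Surjective] at hns
    push Not at hns
    obtain ⟨μ, hμ⟩ := hns
    have h6 := CfsgH5.sum_deg_sq (G := P)
    have h7 : ∑ ψ : B, charDegree (Φ ψ : P → ℂ) ^ 2 = ∑ ν ∈ Finset.univ.image Φ, charDegree (ν : P → ℂ) ^ 2 := by
      rw [Finset.sum_image (fun x _ y _ h => hinj h)]
    have h8 : ∑ ν ∈ Finset.univ.image Φ, charDegree (ν : P → ℂ) ^ 2 < ∑ ν : IrrCharacter P, charDegree (ν : P → ℂ) ^ 2 := by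
      apply Finset.sum_lt_sum_of_subset (Finset.subset_univ _) (Finset.mem_univ μ)
      · rw [Finset.mem_image]
        rintro ⟨ψ, -, h⟩
        exact hμ ψ h
      · exact pow_pos (IsIrr.one_eq μ.2).2 2
      · intro j _ _; exact Nat.zero_le _
    rw [← h7, hsum, h6] at h8
    exact lt_irrefl _ h8
  refine ⟨Equiv.ofBijective Φ ⟨hinj, hsurj⟩, fun ψ => ?_⟩
  show blockHeight p B ((ψ : IrrCharacter G) : G → ℂ) = (charDegree (Φ ψ : P → ℂ)).factorization p
  rw [blockHeight, ← hdeg ψ, Nat.factorization_mul (by rw [hdΦ]; exact (h4 ψ ψ.2).ne') (IsIrr.one_eq χ.2).2.ne',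
    Finsupp.add_apply, ← (height_zero_iff hχ).1 h0]
  omega

end Bij

end CfsgH4
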