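import Cfsg.Agent.H4.Ab2
import Cfsg.Agent.H4.Nil14

set_option autoImplicit false
set_option linter.all false

/-! # Counting characters in the free case -/

open Cfsg MonoidAlgebra
open CfsgH4 hiding centralChar sum_conj regInner_symm
open CfsgH5 ComplexConjugate

namespace CfsgAb

section Count

variable {G : Type*} [Group G] [Fintype G] {M : Ideal AlgInt} [hMp : M.IsPrime] {p : ℕ} [hp : Fact p.Prime]

theorem Yf_one (hM : IsPModular p M) {B : Set (IrrCharacter G)} (hB : IsPBlock M B)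
    {a : Subgroup G × MonoidAlgebra (kk M) G} (hmax : MP p ⊤ (idB M B) a) {χ ψ : IrrCharacter G} (hχ : χ ∈ B) (hψ : ψ ∈ B) :
    Yf p (χ : G → ℂ) (ψ : G → ℂ) ((1 : a.1) : G)
      (lb (cz (Subgroup.zpowers ((1 : a.1) : G))) (bq p a (Subgroup.zpowers ((1 : a.1) : G)))) = regInner p (χ : G → ℂ) (ψ : G → ℂ) := by
  have h1 := wP_Yf_central hM hB hmax (1 : a.1) (by rw [Subgroup.coe_one]; exact Subgroup.one_mem _) hχ hψ
  have hcG : (Nat.card G : ℂ) ≠ 0 := by exact_mod_cast Nat.card_pos.ne'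
  have hcP : (Nat.card a.1 : ℂ) ≠ 0 := by exact_mod_cast Nat.card_pos.ne'
  have h2 : wP a.1 (1 : a.1) = (Nat.card a.1 : ℂ) / (Nat.card G : ℂ) := by
    have e1 : Subgroup.centralizer ({(1 : a.1)} : Set a.1) = ⊤ := by
      rw [eq_top_iff]; intro g _
      rw [Subgroup.mem_centralizer_iff]
      intro h hh
      have hh' : h = 1 := hh
      rw [hh', one_mul, mul_one]
    have e2 : Subgroup.centralizer ({((1 : a.1) : G)} : Set G) = ⊤ := by
      rw [eq_top_iff]; intro g _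
      rw [Subgroup.mem_centralizer_iff]
      intro h hh
      have hh' : h = 1 := hh
      rw [hh', one_mul, mul_one]
    rw [wP, e1, e2, Subgroup.card_top, Subgroup.card_top]
  have h3 : (χ : G → ℂ) ((1 : a.1) : G) / (χ : G → ℂ) 1 = 1 := by
    rw [Subgroup.coe_one]; exact div_self (IsIrr.one_ne_zero χ.2)
  have h4 : (ψ : G → ℂ) ((1 : a.1) : G) / (ψ : G → ℂ) 1 = 1 := by
    rw [Subgroup.coe_one]; exact div_self (IsIrr.one_ne_zero ψ.2)
  rw [h2, h3, h4, map_one, one_mul, one_mul] at h1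
  exact mul_left_cancel₀ (div_ne_zero hcP hcG) h1

/-- the local matrix -/
noncomputable def Tm (p : ℕ) (a : Subgroup G × MonoidAlgebra (kk M) G) (v : G) (χ ψ : G → ℂ) : ℂ :=
  (Nat.card (Subgroup.centralizer ({v} : Set G)) : ℂ)⁻¹ *
    Yf p χ ψ v (lb (cz (Subgroup.zpowers v)) (bq p a (Subgroup.zpowers v)))

theorem free_row' (hM : IsPModular p M) {B : Set (IrrCharacter G)} (hB : IsPBlock M B)
    {a : Subgroup G × MonoidAlgebra (kk M) G} [Fintype a.1] (hmax : MP p ⊤ (idB M B) a) (hab : a.1 ≤ cz a.1)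
    (hfree : FreeA a) {χ ψ : IrrCharacter G} (hχ : χ ∈ B) (hψ : ψ ∈ B) :
    ((cz a.1).relIndex (st a) : ℂ) * classInner (χ : G → ℂ) (ψ : G → ℂ) =
      ((cz a.1).relIndex (st a) : ℂ) / (Nat.card G : ℂ) * regInner p (χ : G → ℂ) (ψ : G → ℂ) +
      ∑ v : a.1, (open Classical in if (v : G) = 1 then 0 else Tm p a (v : G) (χ : G → ℂ) (ψ : G → ℂ)) := by
  classical
  rw [free_row hM hB hmax hab hfree hχ ψ]
  have h1 : ∀ v : a.1, wF ((cz a.1).relIndex (st a)) a.1 v * Yf p (χ : G → ℂ) (ψ : G → ℂ) (v : G)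
        (lb (cz (Subgroup.zpowers (v : G))) (bq p a (Subgroup.zpowers (v : G)))) =
      (if v = 1 then ((cz a.1).relIndex (st a) : ℂ) / (Nat.card G : ℂ) * regInner p (χ : G → ℂ) (ψ : G → ℂ) else 0) +
      (if (v : G) = 1 then 0 else Tm p a (v : G) (χ : G → ℂ) (ψ : G → ℂ)) := by
    intro v
    by_cases hv : (v : G) = 1
    · have hv' : v = 1 := Subtype.ext hv
      subst hv'
      rw [if_pos rfl, if_pos (by simp), add_zero, Yf_one hM hB hmax hχ hψ, wF, if_pos (by simp)]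
    · have hv' : v ≠ 1 := fun h => hv (by rw [h]; rfl)
      rw [if_neg hv', if_neg hv, zero_add, wF, if_neg hv, Tm, one_div]
  rw [Finset.sum_congr rfl fun v _ => h1 v, Finset.sum_add_distrib, Finset.sum_ite_eq' Finset.univ (1 : a.1),
    if_pos (Finset.mem_univ _)]

theorem Tm_eq_ctr (hM : IsPModular p M) {a : Subgroup G × MonoidAlgebra (kk M) G} {v : G}
    {e : Set (IrrCharacter (cz (Subgroup.zpowers v)))} (he : IsPBlock M e)
    (hid : idH M (cz (Subgroup.zpowers v)) e = bq p a (Subgroup.zpowers v)) [Fintype (cz (Subgroup.zpowers v))]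
    (χ ψ : IrrCharacter G) :
    Tm p a v (χ : G → ℂ) (ψ : G → ℂ) = ctr p (uc v) e (χ : G → ℂ) (ψ : G → ℂ) := by
  rw [Tm, ← hid, Yf_eq_C he (IsIrr.isClassFunction χ.2) (IsIrr.isClassFunction ψ.2), ctr, card_cz_zp]

theorem Tm_trace (hM : IsPModular p M) {a : Subgroup G × MonoidAlgebra (kk M) G} (hap : IsPGroup p a.1) {v : G} (hv : v ∈ a.1)
    (hl : LocQ p a (Subgroup.zpowers v)) : ∑ χ : IrrCharacter G, Tm p a v (χ : G → ℂ) (χ : G → ℂ) = 1 := by
  obtain ⟨e, θ, he, hid, hθ⟩ := hl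
  haveI := Fintype.ofFinite (cz (Subgroup.zpowers v))
  have hup : ∃ k, orderOf v = p ^ k := by
    obtain ⟨k, hk⟩ := IsPGroup.iff_orderOf.1 hap ⟨v, hv⟩
    exact ⟨k, by rw [← hk, Subgroup.orderOf_mk]⟩
  rw [Finset.sum_congr rfl fun χ _ => Tm_eq_ctr hM he hid χ χ]
  have h1 := ctr_trace (u := uc v) hM (cz_zpowers_eq v) (by exact hup) he
  rw [h1, hθ.rank, Nat.cast_one]

theorem Tm_off (hM : IsPModular p M) {B : Set (IrrCharacter G)} (hB : IsPBlock M B)
    {a : Subgroup G × MonoidAlgebra (kk M) G} (hmax : MP p ⊤ (idB M B) a) {v : G} (hv : v ∈ a.1)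
    {χ : IrrCharacter G} (hχ : χ ∉ B) (ψ : G → ℂ) : Tm p a v (χ : G → ℂ) ψ = 0 := by
  classical
  have ha : IsBl (cz a.1) a.2 := hmax.1.2.2.2.1
  have hap : IsPGroup p a.1 := hmax.1.1
  have hup : ∃ k, orderOf v = p ^ k := by
    obtain ⟨k, hk⟩ := IsPGroup.iff_orderOf.1 hap ⟨v, hv⟩
    exact ⟨k, by rw [← hk, Subgroup.orderOf_mk]⟩
  have hle := bq_le hM hap ha (Q := Subgroup.zpowers v) (by rw [Subgroup.zpowers_le]; exact hv)
  have hof : Of p ⊤ (idB M B) (Subgroup.zpowers v, bq p a (Subgroup.zpowers v)) :=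
    (LE.of_iff hM (isBl_top hB) hle le_top le_top).2 hmax.1
  obtain ⟨B', hB', hχ'⟩ : ∃ B' : Set (IrrCharacter G), IsPBlock M B' ∧ χ ∈ B' := ⟨_, isPBlock_blockOf χ, mem_blockOf_self χ⟩
  have hne : B' ≠ B := fun h => hχ (h ▸ hχ')
  rw [Tm, Yf_zero_of_not hM hup hB' hof.2.2.2.1 ?_ hχ', mul_zero]
  intro h2
  apply hne
  obtain ⟨b, -, huniq⟩ := exists_unique_above hM (H := ⊤) (isPGroup_zp hup) le_top le_top hof.2.2.2.1
  have e1 := huniq (idB M B) ⟨isBl_top hB, hof.2.2.2.2⟩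
  have e2 := huniq (idB M B') ⟨isBl_top hB', h2.2.2.2.2⟩
  exact idB_injective (inS_eSet hB') (inS_eSet hB) (e2.trans e1.symm)

theorem free_count (hM : IsPModular p M) {B : Set (IrrCharacter G)} (hB : IsPBlock M B)
    {a : Subgroup G × MonoidAlgebra (kk M) G} (hmax : MP p ⊤ (idB M B) a) (hab : a.1 ≤ cz a.1)
    (hfree : FreeA a) :
    (cz a.1).relIndex (st a) * Nat.card B = (cz a.1).relIndex (st a) * blockRank p B + (Nat.card a.1 - 1) := by
  classical
  haveI : Fintype a.1 := Fintype.ofFinite _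
  have hBt := isBl_top hB
  have hcG : (Nat.card G : ℂ) ≠ 0 := by exact_mod_cast Nat.card_pos.ne'
  set e := (cz a.1).relIndex (st a) with he
  have h1 : ∑ χ : IrrCharacter G, (if χ ∈ B then (e : ℂ) * classInner (χ : G → ℂ) (χ : G → ℂ) else 0) = e * (Nat.card B : ℂ) := by
    have : ∀ χ : IrrCharacter G, (if χ ∈ B then (e : ℂ) * classInner (χ : G → ℂ) (χ : G → ℂ) else 0) = if χ ∈ B then (e : ℂ) else 0 := by
      intro χ
      split_ifs
      · rw [classInner_irr_self χ.2, mul_one]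
      · rfl
    rw [Finset.sum_congr rfl fun χ _ => this χ, Finset.sum_ite, Finset.sum_const_zero, add_zero, Finset.sum_const, nsmul_eq_mul,
      mul_comm]
    congr 2
    rw [Nat.card_eq_fintype_card, Fintype.card_subtype]
  have h2 : ∑ χ : IrrCharacter G, (if χ ∈ B then (e : ℂ) * classInner (χ : G → ℂ) (χ : G → ℂ) else 0) =
      (e : ℂ) / (Nat.card G : ℂ) * ∑ χ : IrrCharacter G, (if χ ∈ B then regInner p (χ : G → ℂ) (χ : G → ℂ) else 0) +
      ∑ v : a.1, (if (v : G) = 1 then 0 else ∑ χ : IrrCharacter G, Tm p a (v : G) (χ : G → ℂ) (χ : G → ℂ)) := by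
    have : ∀ χ : IrrCharacter G, (if χ ∈ B then (e : ℂ) * classInner (χ : G → ℂ) (χ : G → ℂ) else 0) =
        (e : ℂ) / (Nat.card G : ℂ) * (if χ ∈ B then regInner p (χ : G → ℂ) (χ : G → ℂ) else 0) +
        ∑ v : a.1, (if (v : G) = 1 then 0 else Tm p a (v : G) (χ : G → ℂ) (χ : G → ℂ)) := by
      intro χ
      by_cases hχ : χ ∈ B
      · rw [if_pos hχ, if_pos hχ, free_row' hM hB hmax hab hfree hχ hχ]
      · rw [if_neg hχ, if_neg hχ, mul_zero, zero_add]
        symm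
        apply Finset.sum_eq_zero
        intro v _
        split_ifs
        · rfl
        · exact Tm_off hM hB hmax v.2 hχ _
    rw [Finset.sum_congr rfl fun χ _ => this χ, Finset.sum_add_distrib, ← Finset.mul_sum, Finset.sum_comm]
    congr 1
    refine Finset.sum_congr rfl fun v _ => ?_
    split_ifs
    · simp
    · rfl
  have h3 : ∀ v : a.1, (if (v : G) = 1 then 0 else ∑ χ : IrrCharacter G, Tm p a (v : G) (χ : G → ℂ) (χ : G → ℂ)) =
      (1 : ℂ) - (if v = 1 then 1 else 0) := by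
    intro v
    by_cases hv : (v : G) = 1
    · rw [if_pos hv, if_pos (Subtype.ext hv), sub_self]
    · rw [if_neg hv, if_neg (fun h => hv (by rw [h]; rfl)), sub_zero]
      refine Tm_trace hM hmax.1.1 v.2 (free_loc hM hBt hmax hab hfree ?_ ?_)
      · rw [Subgroup.zpowers_le]; exact v.2
      · rw [Ne, Subgroup.zpowers_eq_bot]; exact hv
  rw [h1, ← card_mul_blockRank hM hB, Finset.sum_congr rfl fun v _ => h3 v, Finset.sum_sub_distrib, Finset.sum_const,
    Finset.card_univ, Finset.sum_ite_eq' Finset.univ (1 : a.1), if_pos (Finset.mem_univ _), nsmul_eq_mul, mul_one,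
    ← mul_assoc, div_mul_cancel₀ _ hcG, ← Nat.card_eq_fintype_card] at h2
  have h4 : ((e * Nat.card B + 1 : ℕ) : ℂ) = ((e * blockRank p B + Nat.card a.1 : ℕ) : ℂ) := by
    push_cast; linear_combination h2
  have h5 : e * Nat.card B + 1 = e * blockRank p B + Nat.card a.1 := by exact_mod_cast h4
  have h6 : 0 < Nat.card a.1 := Nat.card_pos
  omega

end Count

end CfsgAb
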