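import Cfsg.Agent.H4.Ab3
import Cfsg.Agent.H4.Sub9

set_option autoImplicit false
set_option linter.all false

/-! # Klein four defect groups -/

open Cfsg MonoidAlgebra
open CfsgH4 hiding centralChar sum_conj regInner_symm ev_ca
open CfsgH5 CfsgSub ComplexConjugate

namespace CfsgAb

section Four

variable {G : Type*} [Group G] [Fintype G] {M : Ideal AlgInt} [hMp : M.IsPrime] {p : ℕ} [hp : Fact p.Prime]

/-- the defect of the local blocks -/
theorem loc_defect (hM : IsPModular p M) {B : Set (IrrCharacter G)} (hB : IsPBlock M B)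
    {a : Subgroup G × MonoidAlgebra (kk M) G} (hmax : MP p ⊤ (idB M B) a) (hab : a.1 ≤ cz a.1) {Q : Subgroup G}
    (hQ : Q ≤ a.1) {e : Set (IrrCharacter (cz Q))} (he : IsPBlock M e) (hid : idH M (cz Q) e = bq p a Q) :
    Nat.card a.1 = p ^ blockDefect p e ∧ blockDefect p e = blockDefect p B := by
  have ha : IsBl (cz a.1) a.2 := hmax.1.2.2.2.1
  have hap : IsPGroup p a.1 := hmax.1.1
  have hBt := isBl_top hB
  have hle := bq_le hM hap ha hQ
  have h1 : MP p (cz Q) (bq p a Q) a := mp_of_abelian hM hBt (P := a.1) (e := a.2) hmax hab hle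
  have h2 : DG p (cz Q) (bq p a Q) a.1 := h1.dg hM (hle.isBl ha)
  have h3 : a.1 ≤ cz Q := hab.trans (cz_le_cz hQ)
  rw [← hid] at h2
  have h4 := (isDefectGroup_iff_DG' hM he h3).2 h2
  have h5 := defectGroup_card hM he h4
  rw [Nat.card_congr (Subgroup.subgroupOfEquivOfLe h3).toEquiv] at h5
  refine ⟨h5, ?_⟩
  have h6 := card_mp hM hB hmax
  rw [h5] at h6
  exact Nat.pow_right_injective hp.out.two_le h6

/-- off the block the coefficients vanish -/
theorem aF_off (hM : IsPModular p M) {C : Subgroup G} [Fintype C] {u : C} (hC : C = Subgroup.centralizer ({(u : G)} : Set G))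
    (hup : ∃ k, orderOf (u : G) = p ^ k) {b : Set (IrrCharacter C)} {B : Set (IrrCharacter G)} (hind : IsInducedBlock M C b B)
    (x : IrrCharacter C → ℤ) {χ : IrrCharacter G} (hχ : χ ∉ B) : aF p u b (χ : G → ℂ) x = 0 := by
  rw [← ctr_phx hM (mem_center_of_eq hC) hind.1, ctr]
  have h1 : ∑ y : C, (if p ∣ orderOf y then 0 else Xf u b (χ : G → ℂ) y * conj (Xf u b (phx u x) y)) = 0 := by
    apply Finset.sum_eq_zero
    intro y _
    split_ifs with hy
    · rfl
    · rw [Xf_zero hM hC hup hind hχ hy, zero_mul]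
  rw [h1, mul_zero, mul_zero]

theorem four_count (hM : IsPModular 2 M) {B : Set (IrrCharacter G)} (hB : IsPBlock M B)
    {a : Subgroup G × MonoidAlgebra (kk M) G} (hmax : MP 2 ⊤ (idB M B) a) (hab : a.1 ≤ cz a.1)
    (hc4 : Nat.card a.1 = 4) {v : G} (hv : v ∈ a.1) (hv2 : v ^ 2 = 1) (hl : LocQ 2 a (Subgroup.zpowers v))
    (hB2 : 2 ≤ Nat.card B) : Nat.card B = 4 := by
  classical
  haveI : Fact (Nat.Prime 2) := ⟨Nat.prime_two⟩
  obtain ⟨e, θ, he, hid, hθ⟩ := hl
  haveI := Fintype.ofFinite (cz (Subgroup.zpowers v))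
  have ha : IsBl (cz a.1) a.2 := hmax.1.2.2.2.1
  have hap : IsPGroup 2 a.1 := hmax.1.1
  have hQ : Subgroup.zpowers v ≤ a.1 := by rw [Subgroup.zpowers_le]; exact hv
  have hup : ∃ k, orderOf v = 2 ^ k := by
    obtain ⟨k, hk⟩ := IsPGroup.iff_orderOf.1 hap ⟨v, hv⟩
    exact ⟨k, by rw [← hk, Subgroup.orderOf_mk]⟩
  have hle := bq_le hM hap ha hQ
  have hof : Of 2 ⊤ (idB M B) (Subgroup.zpowers v, bq 2 a (Subgroup.zpowers v)) :=
    (LE.of_iff hM (isBl_top hB) hle le_top le_top).2 hmax.1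
  rw [← hid] at hof
  have hind := (of_iff_ind hM hup he hB).1 hof
  obtain ⟨h4, hdd⟩ := loc_defect hM hB hmax hab hQ he hid
  have hd2 : (2 : ℕ) ^ blockDefect 2 e = 4 := by rw [← h4, hc4]
  -- the vector
  have hC := cz_zpowers_eq v
  have hu := uc_center v
  have hcC : (Nat.card (cz (Subgroup.zpowers v)) : ℂ) ≠ 0 := by exact_mod_cast Nat.card_pos.ne'
  have hθθ : cA 2 e θ θ = 1 := by
    have h1 := cA_spec hM he hθ.1 hθ.1
    have h2 := hθ.reg hM he
    rw [h2] at h1
    have h3 : (Nat.card (cz (Subgroup.zpowers v)) : ℂ) * 1 = Nat.card (cz (Subgroup.zpowers v)) * (cA 2 e θ θ : ℂ) := by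
      rw [mul_one]; exact h1
    have h5 := mul_left_cancel₀ hcC h3
    exact_mod_cast h5.symm
  set x : IrrCharacter (cz (Subgroup.zpowers v)) → ℤ := fun ζ => if ζ = θ then 1 else 0 with hx
  have hm : mbil (cA 2 e) x x = 1 := by
    rw [mbil, Finset.sum_eq_single θ]
    · rw [Finset.sum_eq_single θ]
      · simp [hx, hθθ]
      · intro j _ hj; simp [hx, hj]
      · intro h; exact absurd (Finset.mem_univ _) h
    · intro i _ hi
      apply Finset.sum_eq_zero
      intro j _; simp [hx, hi]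
    · intro h; exact absurd (Finset.mem_univ _) h
  have hxS : x ∉ Sv hM e := by
    rw [mem_Sv_iff_dvd hM he, hm]
    intro h5
    have : (2 : ℕ) ∣ 1 := by exact_mod_cast h5
    omega
  -- integrality
  have hint : ∀ χ : IrrCharacter G, ∃ n : ℤ, aF 2 (uc v) e (χ : G → ℂ) x = n := by
    intro χ
    have hw : ∀ ζ : IrrCharacter (cz (Subgroup.zpowers v)), ∃ n : ℤ, wt (uc v) ζ = n := by
      intro ζ
      have h1 := wt_root hu (N := 2) (show ((uc v : cz (Subgroup.zpowers v)) : G) ^ 2 = 1 from hv2) ζ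
      have h2 : (wt (uc v) ζ - 1) * (wt (uc v) ζ + 1) = 0 := by linear_combination h1
      rcases mul_eq_zero.1 h2 with h | h
      · exact ⟨1, by rw [Int.cast_one]; linear_combination h⟩
      · exact ⟨-1, by rw [Int.cast_neg, Int.cast_one]; linear_combination h⟩
    choose w hw using hw
    refine ⟨∑ ζ, mz (cz (Subgroup.zpowers v)) (χ : G → ℂ) ζ * w ζ * An (cA 2 e) x ζ, ?_⟩
    rw [aF]
    push_cast
    refine Finset.sum_congr rfl fun ζ _ => ?_
    rw [mz_spec, hw]
  choose n hn using hint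
  have hsum : ∑ χ : IrrCharacter G, (n χ) ^ 2 = 4 := by
    have h1 := sum_aF hM hC hup he x (u := uc v)
    rw [hm] at h1
    have h2 : ∑ χ : IrrCharacter G, aF 2 (uc v) e (χ : G → ℂ) x * conj (aF 2 (uc v) e (χ : G → ℂ) x) =
        ((∑ χ : IrrCharacter G, (n χ) ^ 2 : ℤ) : ℂ) := by
      push_cast
      refine Finset.sum_congr rfl fun χ _ => ?_
      rw [hn, show conj ((n χ : ℤ) : ℂ) = ((n χ : ℤ) : ℂ) from map_intCast (starRingEnd ℂ) (n χ)]; ring
    rw [h2] at h1
    have h3 : (((2 : ℕ) : ℂ)) ^ blockDefect 2 e = 4 := by exact_mod_cast hd2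
    rw [h3, Int.cast_one, mul_one] at h1
    exact_mod_cast h1
  have hnB : ∀ χ ∈ B, n χ ≠ 0 := by
    intro χ hχ h0
    have h1 := aF_ne_zero hM hu (by exact hup) hind hdd hxS hχ
    rw [hn, h0, Int.cast_zero] at h1
    exact h1 rfl
  have hnot : ∀ χ, χ ∉ B → n χ = 0 := by
    intro χ hχ
    have h1 := aF_off (u := uc v) hM hC hup hind x hχ
    rw [hn] at h1
    exact_mod_cast h1
  set S : Finset (IrrCharacter G) := Finset.univ.filter (fun χ => χ ∈ B) with hS
  have hcardS : S.card = Nat.card B := by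
    rw [hS, ← Fintype.card_subtype, ← Nat.card_eq_fintype_card]
  have hsumS : ∑ χ ∈ S, (n χ) ^ 2 = 4 := by
    rw [← hsum, hS, Finset.sum_filter]
    refine Finset.sum_congr rfl fun χ _ => ?_
    split_ifs with h
    · rfl
    · rw [hnot χ h]; ring
  have hone : ∀ χ ∈ S, (n χ) ^ 2 = 1 := by
    intro χ hχ
    have h1 : n χ ≠ 0 := hnB χ (Finset.mem_filter.1 hχ).2
    obtain ⟨ψ, hψ, hne⟩ : ∃ ψ ∈ S, ψ ≠ χ := by
      have : 1 < S.card := by omega
      exact Finset.exists_mem_ne this χ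
    have h2 : n ψ ≠ 0 := hnB ψ (Finset.mem_filter.1 hψ).2
    have h3 : (n χ) ^ 2 + (n ψ) ^ 2 ≤ 4 := by
      have hpair := Finset.sum_pair (f := fun y => (n y) ^ 2) hne.symm
      rw [← hsumS, ← hpair]
      exact Finset.sum_le_sum_of_subset_of_nonneg (by
        intro y hy
        rcases Finset.mem_insert.1 hy with h | h
        · rw [h]; exact hχ
        · rw [Finset.mem_singleton.1 h]; exact hψ) (fun _ _ _ => sq_nonneg _)
    have h4 : 0 < (n ψ) ^ 2 := by positivity
    have h5 : (n χ) ^ 2 ≤ 3 := by omega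
    have h6 : -2 < n χ := by nlinarith
    have h7 : n χ < 2 := by nlinarith
    have h8 : n χ = 1 ∨ n χ = -1 := by omega
    rcases h8 with h | h <;> rw [h] <;> norm_num
  rw [Finset.sum_congr rfl hone, Finset.sum_const, nsmul_eq_mul, mul_one, hcardS] at hsumS
  exact_mod_cast hsumS

end Four

end CfsgAb
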