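import Cfsg.Agent.H4.Dade2
import Cfsg.Agent.H4.BrauerA
import Cfsg.Agent.H4.Isom

/-!
# The Dade isometry, III: images of generalized characters
-/

set_option autoImplicit false
open Cfsg ComplexConjugate

namespace CfsgH4

open Classical in
theorem sum_ite_mem {G : Type*} [Group G] [Fintype G] (N : Subgroup G) [Fintype N] (F : G → ℂ) :
    ∑ n : G, (if n ∈ N then F n else 0) = ∑ n : N, F n := by
  rw [← Finset.sum_filter]
  symm
  refine Finset.sum_bij (fun (n : N) _ => (n : G)) (fun n _ => by simp) (fun a _ b _ h => Subtype.ext h)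
    (fun b hb => ⟨⟨b, (Finset.mem_filter.1 hb).2⟩, Finset.mem_univ _, rfl⟩) (fun _ _ => rfl)

/-- the orbit sum with stabilizer weights -/
theorem orbit_sum_stab {L X : Type*} [Group L] [Fintype L] [Fintype X] [MulAction L X] (w : X → ℂ)
    (hw : ∀ (x : L) (B : X), w (x • B) = w B) [Fintype (Quotient (MulAction.orbitRel L X))] :
    ∑ B : X, (Nat.card (MulAction.stabilizer L B) : ℂ) * w B =
      (Nat.card L : ℂ) * ∑ ω : Quotient (MulAction.orbitRel L X), w (Quotient.out ω) := by
  classical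
  have h1 : ∀ x : X, ∑ z ∈ Finset.univ.filter (fun z : X => z ∈ MulAction.orbit L x),
      (Nat.card (MulAction.stabilizer L z) : ℂ) * w z = (Nat.card L : ℂ) * w x := by
    intro x
    have h2 := sum_smul_orbit (G := L) x (fun z => (Nat.card (MulAction.stabilizer L z) : ℂ) * w z)
    have h3 : ∀ y : L, (Nat.card (MulAction.stabilizer L (y • x)) : ℂ) * w (y • x) =
        (Nat.card (MulAction.stabilizer L x) : ℂ) * w x := by
      intro y
      rw [hw]
      congr 2
      exact Nat.card_congr (MulAction.stabilizerEquivStabilizer (a := x) (b := y • x) rfl).symm.toEquiv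
    rw [Finset.sum_congr rfl (fun y _ => h3 y), Finset.sum_const, nsmul_eq_mul, Finset.card_univ]
      at h2
    have h4 : (Nat.card (MulAction.stabilizer L x) : ℂ) ≠ 0 := by
      exact_mod_cast Nat.card_pos.ne'
    rw [Nat.card_eq_fintype_card]
    apply mul_left_cancel₀ h4
    rw [← h2]; ring
  rw [Finset.mul_sum, ← Finset.sum_fiberwise_of_maps_to (s := Finset.univ) (t := Finset.univ)
    (g := fun x : X => (Quotient.mk (MulAction.orbitRel L X) x)) (fun _ _ => Finset.mem_univ _)]
  refine Finset.sum_congr rfl fun ω _ => ?_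
  rw [← h1 (Quotient.out ω)]
  refine Finset.sum_congr ?_ fun _ _ => rfl
  ext z
  simp only [Finset.mem_filter, Finset.mem_univ, true_and]
  conv_lhs => rw [← Quotient.out_eq ω]
  rw [Quotient.eq]
  exact Iff.rfl

theorem exists_of_mem_sup {G : Type*} [Group G] {N D : Subgroup G}
    (hDN : D ≤ Subgroup.normalizer (N : Set G)) {z : G} (hz : z ∈ N ⊔ D) :
    ∃ n ∈ N, ∃ d ∈ D, z = n * d := by
  have h1 : z ∈ ((N ⊔ D : Subgroup G) : Set G) := hz
  rw [Subgroup.coe_mul_of_right_le_normalizer_left N D hDN] at h1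
  obtain ⟨n, hn, d, hd, he⟩ := h1
  exact ⟨n, hn, d, hd, he.symm⟩

theorem split_hom {G : Type*} [Group G] {N D : Subgroup G}
    (hDN : D ≤ Subgroup.normalizer (N : Set G)) (hd : N ⊓ D = ⊥) :
    ∃ π : ↥(N ⊔ D) →* D, ∀ n ∈ N, ∀ (d : D) (m : ↥(N ⊔ D)), (m : G) = n * d → π m = d := by
  have hn : (N ⊔ D) ≤ Subgroup.normalizer (N : Set G) := sup_le Subgroup.le_normalizer hDN
  haveI hnorm : (N.subgroupOf (N ⊔ D)).Normal := by
    refine ⟨fun a ha b => ?_⟩
    rw [Subgroup.mem_subgroupOf] at ha ⊢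
    exact (nconj (hn b.2)).2 ha
  set j : D →* (↥(N ⊔ D) ⧸ N.subgroupOf (N ⊔ D)) :=
    (QuotientGroup.mk' (N.subgroupOf (N ⊔ D))).comp (Subgroup.inclusion le_sup_right) with hj
  have hjm : ∀ n ∈ N, ∀ (d : D) (m : ↥(N ⊔ D)), (m : G) = n * d →
      QuotientGroup.mk' (N.subgroupOf (N ⊔ D)) m = j d := by
    intro n hn' d m hm
    show QuotientGroup.mk' (N.subgroupOf (N ⊔ D)) m =
      QuotientGroup.mk' (N.subgroupOf (N ⊔ D)) (Subgroup.inclusion le_sup_right d)
    symm
    rw [QuotientGroup.mk'_apply, QuotientGroup.mk'_apply, QuotientGroup.eq, Subgroup.mem_subgroupOf]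
    show (d : G)⁻¹ * (m : G) ∈ N
    rw [hm]
    have h1 := (nconj (Subgroup.inv_mem _ (hDN d.2)) (h := n)).2 hn'
    have e : (d : G)⁻¹ * (n * d) = (d : G)⁻¹ * n * (d : G)⁻¹⁻¹ := by group
    rw [e]; exact h1
  have hinj : Function.Injective j := by
    rw [injective_iff_map_eq_one]
    intro d hd'
    have h1 : QuotientGroup.mk' (N.subgroupOf (N ⊔ D)) (Subgroup.inclusion le_sup_right d) = 1 := hd'
    rw [QuotientGroup.mk'_apply, QuotientGroup.eq_one_iff, Subgroup.mem_subgroupOf] at h1
    have h2 : (d : G) ∈ N ⊓ D := ⟨h1, d.2⟩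
    rw [hd, Subgroup.mem_bot] at h2
    exact Subtype.ext h2
  have hdec : ∀ m : ↥(N ⊔ D), ∃ n ∈ N, ∃ d : D, (m : G) = n * d := by
    intro m
    obtain ⟨n, hn', d, hd, he⟩ := exists_of_mem_sup hDN m.2
    exact ⟨n, hn', ⟨d, hd⟩, he⟩
  have hsurj : Function.Surjective j := by
    intro q
    obtain ⟨m, rfl⟩ := QuotientGroup.mk'_surjective _ q
    obtain ⟨n, hn', d, hm⟩ := hdec m
    exact ⟨d, (hjm n hn' d m hm).symm⟩
  set e := MulEquiv.ofBijective j ⟨hinj, hsurj⟩ with he
  refine ⟨e.symm.toMonoidHom.comp (QuotientGroup.mk' (N.subgroupOf (N ⊔ D))), ?_⟩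
  intro n hn' d m hm
  show e.symm (QuotientGroup.mk' (N.subgroupOf (N ⊔ D)) m) = d
  rw [hjm n hn' d m hm]
  exact e.symm_apply_apply d

section Dade3

variable {G : Type*} [Group G] {A : Set G} {L : Subgroup G} {H : G → Subgroup G}

/-- `H(B)` -/
def HB (H : G → Subgroup G) (B : Set G) : Subgroup G := ⨅ b ∈ B, H b

theorem mem_HB {B : Set G} {u : G} : u ∈ HB H B ↔ ∀ b ∈ B, u ∈ H b := by
  simp [HB, Subgroup.mem_iInf]

/-- `N_L(B)` -/
def NB (L : Subgroup G) (B : Set G) : Subgroup G := L ⊓ Subgroup.normalizer B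

theorem nset {B : Set G} {x : G} (hx : x ∈ Subgroup.normalizer B) {b : G} :
    x * b * x⁻¹ ∈ B ↔ b ∈ B := (Subgroup.mem_set_normalizer_iff.1 hx b).symm

variable [Finite G]

theorem NB_le_norm (hD : DadeHypothesis A L H) {B : Set G} (hBA : B ⊆ A) :
    NB L B ≤ Subgroup.normalizer ((HB H B : Subgroup G) : Set G) := by
  intro x hx
  rw [Subgroup.mem_normalizer_iff]
  intro u
  rw [mem_HB, mem_HB]
  constructor
  · intro h b hb
    have h1 : x⁻¹ * b * x ∈ B := by
      rw [← nset hx.2]
      have e : x * (x⁻¹ * b * x) * x⁻¹ = b := by group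
      rwa [e]
    have h2 := (dade_mem_H hD (hBA h1) hx.1).2 (h _ h1)
    have e : x * (x⁻¹ * b * x) * x⁻¹ = b := by group
    rwa [e] at h2
  · intro h b hb
    exact (dade_mem_H hD (hBA hb) hx.1).1 (h _ ((nset hx.2).2 hb))

theorem HB_inf_NB (hD : DadeHypothesis A L H) {B : Set G} (hBA : B ⊆ A) (hBne : B.Nonempty) :
    HB H B ⊓ NB L B = ⊥ := by
  obtain ⟨b, hb⟩ := hBne
  rw [eq_bot_iff]
  intro z hz
  rw [← hD.inf_eq_bot b (hBA hb)]
  have h1 := mem_HB.1 hz.1 b hb
  exact ⟨h1, hz.2.1, hD.le_centralizer b (hBA hb) h1⟩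

theorem HB_cop (hD : DadeHypothesis A L H) {B : Set G} (hBA : B ⊆ A) (hBne : B.Nonempty)
    {a : G} (ha : a ∈ A) :
    Nat.Coprime (Nat.card (HB H B)) (Nat.card ↥(L ⊓ Subgroup.centralizer ({a} : Set G))) := by
  obtain ⟨b, hb⟩ := hBne
  exact Nat.Coprime.coprime_dvd_left
    (Subgroup.card_dvd_of_le (fun z hz => mem_HB.1 hz b hb)) (hD.coprime b (hBA hb) a ha)

theorem mem_HB_insert (hD : DadeHypothesis A L H) {B : Set G} (hBA : B ⊆ A) (hBne : B.Nonempty)
    {a : G} (ha : a ∈ A) (c : G) :
    c ∈ HB H (insert a B) ↔ c ∈ HB H B ∧ c * a = a * c := by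
  constructor
  · intro h
    rw [mem_HB] at h
    exact ⟨mem_HB.2 fun b hb => h b (Set.mem_insert_of_mem a hb),
      (dade_comm hD ha (h a (Set.mem_insert a B))).symm⟩
  · rintro ⟨h1, h2⟩
    rw [mem_HB]
    intro b hb
    rcases Set.mem_insert_iff.1 hb with rfl | hb
    · refine mem_of_sup_coprime (N := H b) (D := L ⊓ Subgroup.centralizer ({b} : Set G))
        (inf_le_right.trans (dade_le_norm hD ha)) ?_ ?_
      · rw [hD.sup_eq b ha, Subgroup.mem_centralizer_singleton_iff]; exact h2
      · exact Nat.Coprime.coprime_dvd_left (Subgroup.orderOf_dvd_natCard _ h1)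
          (HB_cop hD hBA hBne ha)
    · exact mem_HB.1 h1 b hb

variable [Fintype G]

open Classical in
/-- the average over a coset -/
noncomputable def cav (N : Subgroup G) (F : G → ℂ) (y : G) : ℂ :=
  (Nat.card N : ℂ)⁻¹ * ∑ n : G, if n ∈ N then F (n * y) else 0

theorem cav_insert (hD : DadeHypothesis A L H) {B : Set G} (hBA : B ⊆ A) (hBne : B.Nonempty)
    {a : G} (ha : a ∈ A) (haB : a ∈ Subgroup.normalizer B) {F : G → ℂ}
    (hF : ∀ x y : G, F (x * y * x⁻¹) = F y) :
    cav (HB H (insert a B)) F a = cav (HB H B) F a := by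
  classical
  haveI : Fintype (HB H B) := Fintype.ofFinite _
  haveI : Fintype (HB H (insert a B)) := Fintype.ofFinite _
  have h1 := coset_avg (N := HB H B) (C := HB H (insert a B)) (g := a)
    (NB_le_norm hD hBA ⟨hD.subset ha, haB⟩)
    (Nat.Coprime.coprime_dvd_left (dade_ord_self hD ha) (HB_cop hD hBA hBne ha).symm)
    (mem_HB_insert hD hBA hBne ha) hF
  unfold cav
  rw [sum_ite_mem (HB H B) (fun n => F (n * a)), sum_ite_mem (HB H (insert a B)) (fun n => F (n * a))]
  have h2 : (Nat.card (HB H B) : ℂ) ≠ 0 := by exact_mod_cast Nat.card_pos.ne'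
  have h3 : (Nat.card (HB H (insert a B)) : ℂ) ≠ 0 := by exact_mod_cast Nat.card_pos.ne'
  field_simp
  linear_combination h1

theorem norm_insert {B : Set G} {a : G} (ha : a ∉ B) :
    a ∈ Subgroup.normalizer (insert a B) ↔ a ∈ Subgroup.normalizer B := by
  rw [Subgroup.mem_set_normalizer_iff, Subgroup.mem_set_normalizer_iff]
  refine forall_congr' fun z => ?_
  simp only [Set.mem_insert_iff]
  by_cases hz : z = a
  · subst hz
    simp
  · have : a * z * a⁻¹ ≠ a := by
      intro h
      apply hz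
      have := congrArg (fun t => a⁻¹ * t * a) h
      simpa [mul_assoc] using this
    simp [hz, this]

variable [Fintype L]

open Classical in
/-- the contribution of `B` -/
noncomputable def QB (L : Subgroup G) [Fintype L] (H : G → Subgroup G) (α : L → ℂ) (F : G → ℂ)
    (B : Set G) : ℂ :=
  ∑ y : L, if (y : G) ∈ Subgroup.normalizer B then α y * cav (HB H B) F y else 0

open Classical in
/-- the key cancellation -/
theorem sum_QB (hD : DadeHypothesis A L H) {α : L → ℂ} (hαA : ∀ x : L, (x : G) ∉ A → α x = 0)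
    {F : G → ℂ} (hF : ∀ x y : G, F (x * y * x⁻¹) = F y) :
    ∑ B ∈ ((Finset.univ.filter (fun g : G => g ∈ A)).powerset.filter (fun B => B.Nonempty)),
      (-1 : ℂ) ^ (B.card + 1) * QB L H α F (B : Set G) = ∑ a : L, α a * cav (H a) F a := by
  set S := ((Finset.univ.filter (fun g : G => g ∈ A)).powerset.filter (fun B => B.Nonempty)) with hS
  have hSm : ∀ B : Finset G, B ∈ S ↔ (B : Set G) ⊆ A ∧ B.Nonempty := by
    intro B
    rw [hS, Finset.mem_filter, Finset.mem_powerset]
    refine and_congr_left fun _ => ?_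
    constructor
    · intro h b hb
      exact (Finset.mem_filter.1 (h hb)).2
    · intro h b hb
      exact Finset.mem_filter.2 ⟨Finset.mem_univ _, h hb⟩
  unfold QB
  have h1 : ∀ B ∈ S, (-1 : ℂ) ^ (B.card + 1) *
      (∑ y : L, if (y : G) ∈ Subgroup.normalizer (B : Set G) then
        α y * cav (HB H (B : Set G)) F y else 0) =
      ∑ y : L, α y * (if (y : G) ∈ Subgroup.normalizer (B : Set G) then
        (-1 : ℂ) ^ (B.card + 1) * cav (HB H (B : Set G)) F y else 0) := by
    intro B _
    rw [Finset.mul_sum]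
    refine Finset.sum_congr rfl fun y _ => ?_
    split_ifs
    · ring
    · ring
  rw [Finset.sum_congr rfl h1, Finset.sum_comm]
  refine Finset.sum_congr rfl fun a _ => ?_
  rw [← Finset.mul_sum]
  by_cases ha : (a : G) ∈ A
  swap
  · rw [hαA a ha, zero_mul, zero_mul]
  congr 1
  set h : Finset G → ℂ := fun B => if (a : G) ∈ Subgroup.normalizer (B : Set G) then
        (-1 : ℂ) ^ (B.card + 1) * cav (HB H (B : Set G)) F a else 0 with hh
  have hmem : ({(a : G)} : Finset G) ∈ S := by
    rw [hSm]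
    exact ⟨by simpa using ha, Finset.singleton_nonempty _⟩
  rw [← Finset.add_sum_erase S h hmem]
  have h2 : h {(a : G)} = cav (H a) F a := by
    rw [hh]
    have e1 : (a : G) ∈ Subgroup.normalizer ((({(a : G)} : Finset G)) : Set G) := by
      rw [Subgroup.mem_set_normalizer_iff]
      intro z
      simp only [Finset.coe_singleton, Set.mem_singleton_iff]
      constructor
      · rintro rfl; group
      · intro hz
        have := congrArg (fun t => (a : G)⁻¹ * t * a) hz
        simpa [mul_assoc] using this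
    have e2 : HB H ((({(a : G)} : Finset G)) : Set G) = H (a : G) := by
      ext z
      rw [mem_HB]
      simp
    simp only [if_pos e1, e2, Finset.card_singleton]
    norm_num
  rw [h2]
  have h3 : ∑ B ∈ S.erase {(a : G)}, h B = 0 := by
    have key : ∀ B : Finset G, (B : Set G) ⊆ A → B.Nonempty → (a : G) ∉ B →
        h B + h (insert (a : G) B) = 0 := by
      intro B hBA hBne haB
      rw [hh]
      have e1 : (a : G) ∈ Subgroup.normalizer ((insert (a : G) B : Finset G) : Set G) ↔
          (a : G) ∈ Subgroup.normalizer (B : Set G) := by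
        rw [Finset.coe_insert]
        exact norm_insert (by simpa using haB)
      by_cases hn : (a : G) ∈ Subgroup.normalizer (B : Set G)
      · simp only [if_pos hn, if_pos (e1.2 hn)]
        rw [Finset.card_insert_of_notMem haB, Finset.coe_insert,
          cav_insert hD hBA (by simpa using hBne) ha hn hF]
        ring
      · simp only [if_neg hn, if_neg (fun h => hn (e1.1 h))]
        ring
    refine Finset.sum_involution (fun B _ => if (a : G) ∈ B then B.erase (a : G) else insert (a : G) B)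
      ?_ ?_ ?_ ?_
    · intro B hB
      rw [Finset.mem_erase, hSm] at hB
      by_cases haB : (a : G) ∈ B
      · rw [if_pos haB]
        have hne : (B.erase (a : G)).Nonempty := by
          rw [Finset.nonempty_iff_ne_empty]
          intro he
          apply hB.1
          have h4 := Finset.insert_erase haB
          rw [he] at h4
          rw [← h4]; rfl
        have h5 := key (B.erase (a : G)) (fun z hz => hB.2.1 (Finset.mem_of_mem_erase hz)) hne
          (Finset.notMem_erase _ _)
        rw [Finset.insert_erase haB] at h5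
        rw [add_comm]; exact h5
      · rw [if_neg haB]
        exact key B hB.2.1 hB.2.2 haB
    · intro B hB _ he
      by_cases haB : (a : G) ∈ B
      · rw [if_pos haB] at he
        exact absurd haB (he ▸ Finset.notMem_erase _ _)
      · rw [if_neg haB] at he
        exact haB (he ▸ Finset.mem_insert_self _ _)
    · intro B hB
      rw [Finset.mem_erase, hSm] at hB
      by_cases haB : (a : G) ∈ B
      · rw [if_pos haB, Finset.mem_erase, hSm]
        refine ⟨?_, fun z hz => hB.2.1 (Finset.mem_of_mem_erase hz), ?_⟩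
        · intro he
          have : (a : G) ∈ B.erase (a : G) := by rw [he]; simp
          exact Finset.notMem_erase _ _ this
        · rw [Finset.nonempty_iff_ne_empty]
          intro he
          apply hB.1
          have h4 := Finset.insert_erase haB
          rw [he] at h4
          rw [← h4]; rfl
      · rw [if_neg haB, Finset.mem_erase, hSm]
        refine ⟨?_, ?_, Finset.insert_nonempty _ _⟩
        · intro he
          obtain ⟨b, hb⟩ := hB.2.2
          have : b ∈ insert (a : G) B := Finset.mem_insert_of_mem hb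
          rw [he, Finset.mem_singleton] at this
          exact haB (this ▸ hb)
        · rw [Finset.coe_insert, Set.insert_subset_iff]
          exact ⟨ha, hB.2.1⟩
    · intro B hB
      by_cases haB : (a : G) ∈ B
      · simp only [if_pos haB, Finset.notMem_erase, if_false, Finset.insert_erase haB]
      · simp only [if_neg haB, Finset.mem_insert_self, if_true, Finset.erase_insert haB]
  rw [h3, add_zero]

/-- the class function counting conjugations -/
noncomputable def Fg (g z : G) : ℂ := (Nat.card {x : G // x * g * x⁻¹ = z} : ℂ)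

omit [Fintype G] [Fintype L] in
theorem Fg_conj (g x y : G) : Fg g (x * y * x⁻¹) = Fg g y := by
  unfold Fg
  congr 1
  refine Nat.card_congr ⟨fun z => ⟨x⁻¹ * z, ?_⟩, fun z => ⟨x * z, ?_⟩, fun z => Subtype.ext (by simp),
    fun z => Subtype.ext (by simp)⟩
  · have := z.2
    calc x⁻¹ * (z : G) * g * (x⁻¹ * (z : G))⁻¹ = x⁻¹ * ((z : G) * g * (z : G)⁻¹) * x := by group
      _ = y := by rw [this]; group
  · have := z.2
    calc x * (z : G) * g * (x * (z : G))⁻¹ = x * ((z : G) * g * (z : G)⁻¹) * x⁻¹ := by group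
      _ = _ := by rw [this]

open Classical in
theorem sum_Fg (N : Subgroup G) (g y : G) :
    ∑ n : G, (if n ∈ N then Fg g (n * y) else 0) =
      ∑ x : G, if x * g * x⁻¹ * y⁻¹ ∈ N then (1 : ℂ) else 0 := by
  have h1 : ∀ z : G, Fg g z = ∑ x : G, if x * g * x⁻¹ = z then (1 : ℂ) else 0 := by
    intro z
    unfold Fg
    rw [Nat.card_eq_fintype_card, Fintype.card_subtype, Finset.card_filter, Nat.cast_sum]
    refine Finset.sum_congr rfl fun x _ => ?_
    split_ifs <;> simp
  have h2 : ∀ n : G, (if n ∈ N then Fg g (n * y) else 0) =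
      ∑ x : G, if n ∈ N ∧ x * g * x⁻¹ = n * y then (1 : ℂ) else 0 := by
    intro n
    by_cases hn : n ∈ N
    · rw [if_pos hn, h1]
      refine Finset.sum_congr rfl fun x _ => ?_
      simp only [hn, true_and]
    · rw [if_neg hn]
      symm
      refine Finset.sum_eq_zero fun x _ => if_neg fun h => hn h.1
  rw [Finset.sum_congr rfl (fun n _ => h2 n), Finset.sum_comm]
  refine Finset.sum_congr rfl fun x _ => ?_
  by_cases hx : x * g * x⁻¹ * y⁻¹ ∈ N
  · rw [if_pos hx, Finset.sum_eq_single (x * g * x⁻¹ * y⁻¹)]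
    · rw [if_pos ⟨hx, by group⟩]
    · intro n _ hne
      rw [if_neg]
      rintro ⟨-, h⟩
      apply hne
      rw [h]; group
    · intro h; exact absurd (Finset.mem_univ _) h
  · rw [if_neg hx]
    refine Finset.sum_eq_zero fun n _ => if_neg ?_
    rintro ⟨hn, h⟩
    apply hx
    rw [h]
    simpa using hn

theorem Nn_eq (a g : G) (hcomm : ∀ u ∈ H a, a * u = u * a) :
    (Nat.card (H a) : ℂ)⁻¹ * Nn H a g = cav (H a) (Fg g) a := by
  classical
  unfold cav
  congr 1
  rw [sum_Fg]
  unfold Nn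
  rw [Nat.card_eq_fintype_card, Fintype.card_subtype, Finset.card_filter, Nat.cast_sum]
  refine Finset.sum_congr rfl fun x _ => ?_
  have : (∃ u ∈ H a, x * g * x⁻¹ = a * u) ↔ x * g * x⁻¹ * a⁻¹ ∈ H a := by
    constructor
    · rintro ⟨u, hu, he⟩
      rw [he, hcomm u hu]
      simpa using hu
    · intro h
      refine ⟨_, h, ?_⟩
      rw [hcomm _ h]; group
  by_cases h : x * g * x⁻¹ * a⁻¹ ∈ H a
  · rw [if_pos h, if_pos (this.2 h)]; simp
  · rw [if_neg h, if_neg (fun h' => h (this.1 h'))]; simp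

/-- the induced characters -/
theorem QB_eq (hD : DadeHypothesis A L H) {α : L → ℂ} (hα : IsGeneralizedCharacter L α)
    {B : Set G} (hBA : B ⊆ A) (hBne : B.Nonempty) :
    ∃ θ : G → ℂ, IsGeneralizedCharacter G θ ∧
      ∀ g : G, QB L H α (Fg g) B = (Nat.card (NB L B) : ℂ) * θ g := by
  classical
  obtain ⟨π, hπ⟩ := split_hom (NB_le_norm hD hBA) (HB_inf_NB hD hBA hBne)
  set β : ↥(HB H B ⊔ NB L B) → ℂ := fun m => α (Subgroup.inclusion (inf_le_left : NB L B ≤ L) (π m)) with hβ
  have hβg : IsGeneralizedCharacter ↥(HB H B ⊔ NB L B) β :=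
    isGen_comp ((Subgroup.inclusion (inf_le_left : NB L B ≤ L)).comp π) hα
  refine ⟨indFun (HB H B ⊔ NB L B) β, isGen_indFun (HB H B ⊔ NB L B) hβg, fun g => ?_⟩
  have hext : ∀ z : G, extendByZero (HB H B ⊔ NB L B) β z =
      ∑ y : L, if (y : G) ∈ Subgroup.normalizer B ∧ z * (y : G)⁻¹ ∈ HB H B then α y else 0 := by
    intro z
    by_cases hz : z ∈ (HB H B ⊔ NB L B)
    · rw [extendByZero_of_mem (HB H B ⊔ NB L B) β hz]
      obtain ⟨n, hn', d, hd, hze⟩ := exists_of_mem_sup (NB_le_norm hD hBA) hz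
      have h1 := hπ _ hn' ⟨d, hd⟩ ⟨z, hz⟩ hze
      have h2 : β ⟨z, hz⟩ = α ⟨d, hd.1⟩ := by
        show α (Subgroup.inclusion (inf_le_left : NB L B ≤ L) (π ⟨z, hz⟩)) = α ⟨d, hd.1⟩
        rw [h1]
        rfl
      rw [h2, Finset.sum_eq_single (⟨d, hd.1⟩ : L)]
      · rw [if_pos]
        refine ⟨hd.2, ?_⟩
        rw [hze]
        simpa using hn'
      · intro y _ hne
        rw [if_neg]
        rintro ⟨hy1, hy2⟩
        apply hne
        have h3 : d * (y : G)⁻¹ ∈ HB H B ⊓ NB L B := by
          refine ⟨?_, Subgroup.mul_mem _ hd (Subgroup.inv_mem _ ⟨y.2, hy1⟩)⟩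
          have e : d * (y : G)⁻¹ = n⁻¹ * (z * (y : G)⁻¹) := by rw [hze]; group
          rw [e]
          exact Subgroup.mul_mem _ (Subgroup.inv_mem _ hn') hy2
        rw [HB_inf_NB hD hBA hBne, Subgroup.mem_bot] at h3
        exact Subtype.ext (mul_inv_eq_one.1 h3).symm
      · intro h; exact absurd (Finset.mem_univ _) h
    · rw [extendByZero_of_not_mem (HB H B ⊔ NB L B) β hz]
      symm
      refine Finset.sum_eq_zero fun y _ => if_neg ?_
      rintro ⟨hy1, hy2⟩
      apply hz
      have e : z = (z * (y : G)⁻¹) * y := by group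
      rw [e]
      exact Subgroup.mul_mem _ (Subgroup.mem_sup_left hy2) (Subgroup.mem_sup_right ⟨y.2, hy1⟩)
  have hcard : (Nat.card ↥(HB H B ⊔ NB L B) : ℂ) = (Nat.card (HB H B) : ℂ) * (Nat.card (NB L B) : ℂ) := by
    rw [card_sup_disj (NB_le_norm hD hBA) (HB_inf_NB hD hBA hBne)]
    push_cast; rfl
  have h3 : (Nat.card (HB H B) : ℂ) ≠ 0 := by exact_mod_cast Nat.card_pos.ne'
  have h4 : (Nat.card (NB L B) : ℂ) ≠ 0 := by exact_mod_cast Nat.card_pos.ne'
  rw [indFun_apply', hcard, Finset.sum_congr rfl (fun x _ => hext (x * g * x⁻¹)), Finset.sum_comm]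
  unfold QB cav
  have h5 : ∀ y : L, (∑ x : G, if (y : G) ∈ Subgroup.normalizer B ∧
      x * g * x⁻¹ * (y : G)⁻¹ ∈ HB H B then α y else 0) =
      if (y : G) ∈ Subgroup.normalizer B then
        α y * ∑ n : G, (if n ∈ HB H B then Fg g (n * y) else 0) else 0 := by
    intro y
    by_cases hy : (y : G) ∈ Subgroup.normalizer B
    · rw [if_pos hy, sum_Fg, Finset.mul_sum]
      refine Finset.sum_congr rfl fun x _ => ?_
      by_cases hx : x * g * x⁻¹ * (y : G)⁻¹ ∈ HB H B
      · rw [if_pos ⟨hy, hx⟩, if_pos hx, mul_one]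
      · rw [if_neg (fun h => hx h.2), if_neg hx, mul_zero]
    · rw [if_neg hy]
      exact Finset.sum_eq_zero fun x _ => if_neg fun h => hy h.1
  rw [Finset.sum_congr rfl (fun y _ => h5 y), mul_inv, Finset.mul_sum]
  have h6 : ∀ y : L, (if (y : G) ∈ Subgroup.normalizer B then
        α y * ((Nat.card (HB H B) : ℂ)⁻¹ * ∑ n : G, (if n ∈ HB H B then Fg g (n * y) else 0)) else 0) =
      (Nat.card (HB H B) : ℂ)⁻¹ * (if (y : G) ∈ Subgroup.normalizer B then
        α y * ∑ n : G, (if n ∈ HB H B then Fg g (n * y) else 0) else 0) := by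
    intro y
    split_ifs <;> ring
  rw [Finset.sum_congr rfl (fun y _ => h6 y)]
  rw [Finset.mul_sum]
  refine Finset.sum_congr rfl fun y _ => ?_
  field_simp

end Dade3

end CfsgH4
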