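import Cfsg.Agent.H4.Pet2
import Cfsg.Agent.H4.Dade3
import Cfsg.Prelude.Def_OddOrderLocal

/-!
# The cyclic TI situation, I
-/

set_option autoImplicit false
open Cfsg ComplexConjugate

namespace CfsgH4

section Cyc

variable {G : Type*} [Group G]

/-- the function `(1 - φ)(1 - ψ)` -/
def alf {W : Type*} [Group W] (φ ψ : W →* ℂˣ) : W → ℂ :=
  fun w => 1 - (φ w : ℂ) - (ψ w : ℂ) + (φ w : ℂ) * (ψ w : ℂ)

/-- the linear character as a function -/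
def lch {W : Type*} [Group W] (φ : W →* ℂˣ) : W → ℂ := fun w => (φ w : ℂ)

theorem lch_inner {W : Type*} [Group W] [Fintype W] (φ ψ : W →* ℂˣ) [Decidable (φ = ψ)] :
    classInner (lch φ) (lch ψ) = if φ = ψ then 1 else 0 := by
  by_cases h : φ = ψ
  · subst h
    rw [if_pos rfl]; exact classInner_irr_self (isCharacter_one_dim φ)
  · rw [if_neg h]
    exact classInner_irr_ne (isCharacter_one_dim φ) (isCharacter_one_dim ψ)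
      (fun h' => h (linHom_injective h'))

theorem alf_eq {W : Type*} [Group W] (φ ψ : W →* ℂˣ) :
    alf φ ψ = lch 1 - lch φ - lch ψ + lch (φ * ψ) := by
  ext w
  simp [alf, lch]

variable {W₁ W₂ : Subgroup G}

/-- trivial on `W₂` -/
def Tr2 (W₁ W₂ : Subgroup G) (φ : ↥(W₁ ⊔ W₂) →* ℂˣ) : Prop := ∀ w : ↥(W₁ ⊔ W₂), (w : G) ∈ W₂ → φ w = 1

/-- trivial on `W₁` -/
def Tr1 (W₁ W₂ : Subgroup G) (φ : ↥(W₁ ⊔ W₂) →* ℂˣ) : Prop := ∀ w : ↥(W₁ ⊔ W₂), (w : G) ∈ W₁ → φ w = 1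

theorem Tr2.one : Tr2 W₁ W₂ 1 := fun _ _ => rfl
theorem Tr1.one : Tr1 W₁ W₂ 1 := fun _ _ => rfl
theorem Tr2.mul {φ ψ : ↥(W₁ ⊔ W₂) →* ℂˣ} (h : Tr2 W₁ W₂ φ) (h' : Tr2 W₁ W₂ ψ) : Tr2 W₁ W₂ (φ * ψ) :=
  fun w hw => by rw [MonoidHom.mul_apply, h w hw, h' w hw, mul_one]
theorem Tr1.mul {φ ψ : ↥(W₁ ⊔ W₂) →* ℂˣ} (h : Tr1 W₁ W₂ φ) (h' : Tr1 W₁ W₂ ψ) : Tr1 W₁ W₂ (φ * ψ) :=
  fun w hw => by rw [MonoidHom.mul_apply, h w hw, h' w hw, mul_one]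
theorem Tr2.inv {φ : ↥(W₁ ⊔ W₂) →* ℂˣ} (h : Tr2 W₁ W₂ φ) : Tr2 W₁ W₂ φ⁻¹ :=
  fun w hw => by rw [MonoidHom.inv_apply, h w hw, inv_one]
theorem Tr1.inv {φ : ↥(W₁ ⊔ W₂) →* ℂˣ} (h : Tr1 W₁ W₂ φ) : Tr1 W₁ W₂ φ⁻¹ :=
  fun w hw => by rw [MonoidHom.inv_apply, h w hw, inv_one]

theorem norm_of_comm (hcomm : ∀ a ∈ W₁, ∀ b ∈ W₂, a * b = b * a) :
    W₂ ≤ Subgroup.normalizer (W₁ : Set G) := by
  intro b hb
  rw [Subgroup.mem_normalizer_iff]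
  intro a
  constructor
  · intro ha
    rw [← hcomm a ha b hb]; simpa using ha
  · intro ha
    have h1 := hcomm _ ha b hb
    have : a = b * a * b⁻¹ := by
      have h2 : b * a * b⁻¹ * b = b * (b * a * b⁻¹) := h1
      have h3 : b * a = b * (b * a * b⁻¹) := by rw [← h2]; group
      exact mul_left_cancel h3
    rw [this]; exact ha

theorem W_dec (hcomm : ∀ a ∈ W₁, ∀ b ∈ W₂, a * b = b * a) (w : ↥(W₁ ⊔ W₂)) :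
    ∃ (a : W₁) (b : W₂), w = ⟨a, Subgroup.mem_sup_left a.2⟩ * ⟨b, Subgroup.mem_sup_right b.2⟩ := by
  obtain ⟨a, ha, b, hb, h⟩ := exists_of_mem_sup (norm_of_comm hcomm) w.2
  exact ⟨⟨a, ha⟩, ⟨b, hb⟩, Subtype.ext h⟩

theorem hom_ext_W (hcomm : ∀ a ∈ W₁, ∀ b ∈ W₂, a * b = b * a) {φ ψ : ↥(W₁ ⊔ W₂) →* ℂˣ}
    (h1 : ∀ w : ↥(W₁ ⊔ W₂), (w : G) ∈ W₁ → φ w = ψ w)
    (h2 : ∀ w : ↥(W₁ ⊔ W₂), (w : G) ∈ W₂ → φ w = ψ w) : φ = ψ := by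
  ext w
  obtain ⟨a, b, hw⟩ := W_dec hcomm w
  rw [hw, map_mul, map_mul, h1 _ a.2, h2 _ b.2]

theorem Tr_both (hcomm : ∀ a ∈ W₁, ∀ b ∈ W₂, a * b = b * a) {φ : ↥(W₁ ⊔ W₂) →* ℂˣ}
    (h1 : Tr1 W₁ W₂ φ) (h2 : Tr2 W₁ W₂ φ) : φ = 1 :=
  hom_ext_W hcomm (fun w hw => h1 w hw) (fun w hw => h2 w hw)

/-- decomposition of a linear character -/
theorem hom_dec (hcomm : ∀ a ∈ W₁, ∀ b ∈ W₂, a * b = b * a) (hdisj : W₁ ⊓ W₂ = ⊥)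
    (ω : ↥(W₁ ⊔ W₂) →* ℂˣ) : ∃ φ ψ, Tr2 W₁ W₂ φ ∧ Tr1 W₁ W₂ ψ ∧ ω = φ * ψ := by
  obtain ⟨π, hπ⟩ := split_hom (norm_of_comm hcomm) hdisj
  set ψ : ↥(W₁ ⊔ W₂) →* ℂˣ := ω.comp ((Subgroup.inclusion le_sup_right).comp π) with hψ
  have h1 : Tr1 W₁ W₂ ψ := by
    intro w hw
    have := hπ w hw 1 w (by simp)
    rw [hψ]
    show ω (Subgroup.inclusion le_sup_right (π w)) = 1
    rw [this, map_one, map_one]
  have h2 : ∀ w : ↥(W₁ ⊔ W₂), (w : G) ∈ W₂ → ψ w = ω w := by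
    intro w hw
    have := hπ 1 W₁.one_mem ⟨w, hw⟩ w (by simp)
    rw [hψ]
    show ω (Subgroup.inclusion le_sup_right (π w)) = ω w
    rw [this]
    rfl
  refine ⟨ω * ψ⁻¹, ψ, fun w hw => ?_, h1, by ext w; simp⟩
  rw [MonoidHom.mul_apply, MonoidHom.inv_apply, h2 w hw, mul_inv_cancel]

theorem hom_dec_unique (hcomm : ∀ a ∈ W₁, ∀ b ∈ W₂, a * b = b * a) {φ ψ φ' ψ' : ↥(W₁ ⊔ W₂) →* ℂˣ}
    (hφ : Tr2 W₁ W₂ φ) (hψ : Tr1 W₁ W₂ ψ) (hφ' : Tr2 W₁ W₂ φ') (hψ' : Tr1 W₁ W₂ ψ')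
    (h : φ * ψ = φ' * ψ') : φ = φ' ∧ ψ = ψ' := by
  have h1 : φ = φ' := by
    refine hom_ext_W hcomm (fun w hw => ?_) (fun w hw => by rw [hφ w hw, hφ' w hw])
    have := congrArg (fun f => f w) h
    simp only [MonoidHom.mul_apply] at this
    rwa [hψ w hw, hψ' w hw, mul_one, mul_one] at this
  refine ⟨h1, ?_⟩
  rw [h1] at h
  exact mul_left_cancel h

open Classical in
/-- inner products of the `(1-φ)(1-ψ)` with linear characters -/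
theorem alf_inner [Fintype ↥(W₁ ⊔ W₂)] (hcomm : ∀ a ∈ W₁, ∀ b ∈ W₂, a * b = b * a)
    {φ ψ φ' ψ' : ↥(W₁ ⊔ W₂) →* ℂˣ} (hφ : Tr2 W₁ W₂ φ) (hψ : Tr1 W₁ W₂ ψ) (hφ' : Tr2 W₁ W₂ φ')
    (hψ' : Tr1 W₁ W₂ ψ') :
    classInner (alf φ ψ) (lch (φ' * ψ')) =
      ((if φ' = 1 then 1 else 0) - (if φ' = φ then 1 else 0)) *
      ((if ψ' = 1 then 1 else 0) - (if ψ' = ψ then 1 else 0)) := by
  have e1 : ∀ (x y x' y' : ↥(W₁ ⊔ W₂) →* ℂˣ), Tr2 W₁ W₂ x → Tr1 W₁ W₂ y → Tr2 W₁ W₂ x' →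
      Tr1 W₁ W₂ y' → classInner (lch (x * y)) (lch (x' * y')) =
        (if x' = x then (1 : ℂ) else 0) * (if y' = y then 1 else 0) := by
    intro x y x' y' hx hy hx' hy'
    rw [lch_inner]
    by_cases h : x * y = x' * y'
    · obtain ⟨h1, h2⟩ := hom_dec_unique hcomm hx hy hx' hy' h
      rw [if_pos h, if_pos h1.symm, if_pos h2.symm, mul_one]
    · rw [if_neg h]
      by_cases h1 : x' = x
      · by_cases h2 : y' = y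
        · exact absurd (by rw [h1, h2]) h
        · rw [if_neg h2, mul_zero]
      · rw [if_neg h1, zero_mul]
  rw [alf_eq, classInner_add_left, classInner_sub_left, classInner_sub_left]
  have a1 := e1 1 1 φ' ψ' Tr2.one Tr1.one hφ' hψ'
  have a2 := e1 φ 1 φ' ψ' hφ Tr1.one hφ' hψ'
  have a3 := e1 1 ψ φ' ψ' Tr2.one hψ hφ' hψ'
  have a4 := e1 φ ψ φ' ψ' hφ hψ hφ' hψ'
  rw [mul_one (1 : ↥(W₁ ⊔ W₂) →* ℂˣ)] at a1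
  rw [mul_one φ] at a2
  rw [one_mul ψ] at a3
  rw [a1, a2, a3, a4]
  ring

/-- vanishing on `W₁ ∪ W₂` -/
theorem alf_zero {φ ψ : ↥(W₁ ⊔ W₂) →* ℂˣ} (hφ : Tr2 W₁ W₂ φ) (hψ : Tr1 W₁ W₂ ψ) {w : ↥(W₁ ⊔ W₂)}
    (hw : (w : G) ∈ W₁ ∨ (w : G) ∈ W₂) : alf φ ψ w = 0 := by
  unfold alf
  rcases hw with hw | hw
  · rw [hψ w hw]; simp
  · rw [hφ w hw]; simp

/-- a function orthogonal to all `(1-φ)(1-ψ)` vanishes off `W₁ ∪ W₂` -/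
theorem zero_of_orth [Fintype ↥(W₁ ⊔ W₂)] (hcomm : ∀ a ∈ W₁, ∀ b ∈ W₂, a * b = b * a)
    (hdisj : W₁ ⊓ W₂ = ⊥) (hab : ∀ a b : ↥(W₁ ⊔ W₂), a * b = b * a) {f : ↥(W₁ ⊔ W₂) → ℂ}
    (h : ∀ φ ψ, Tr2 W₁ W₂ φ → Tr1 W₁ W₂ ψ → classInner (alf φ ψ) f = 0)
    {w : ↥(W₁ ⊔ W₂)} (h1 : (w : G) ∉ W₁) (h2 : (w : G) ∉ W₂) : f w = 0 := by
  classical
  -- expansion of `f`
  set a : (↥(W₁ ⊔ W₂) →* ℂˣ) → ℂ := fun ω => classInner (lch ω) f with ha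
  have hrect : ∀ φ ψ, Tr2 W₁ W₂ φ → Tr1 W₁ W₂ ψ → a (φ * ψ) = a φ + a ψ - a 1 := by
    intro φ ψ hφ hψ
    have := h φ ψ hφ hψ
    rw [alf_eq, classInner_add_left, classInner_sub_left, classInner_sub_left] at this
    show classInner (lch (φ * ψ)) f = classInner (lch φ) f + classInner (lch ψ) f -
      classInner (lch 1) f
    linear_combination this
  -- the delta function at `w`
  obtain ⟨x, y, hw⟩ := W_dec hcomm w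
  have hx1 : (x : G) ≠ 1 := by
    intro hx
    apply h2
    rw [hw]
    show (x : G) * y ∈ W₂
    rw [hx, one_mul]; exact y.2
  have hy1 : (y : G) ≠ 1 := by
    intro hy
    apply h1
    rw [hw]
    show (x : G) * y ∈ W₁
    rw [hy, mul_one]; exact x.2
  have hcf : ∀ g : ↥(W₁ ⊔ W₂) → ℂ, IsClassFunction ↥(W₁ ⊔ W₂) g := by
    intro g u v
    congr 1
    rw [hab v u]; group
  -- `card W * conj (f w) = Σ_ω conj (ω w) a(ω)`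
  have hexp : (Nat.card ↥(W₁ ⊔ W₂) : ℂ) * 0 = 0 := by simp
  -- expand `f`
  have hf := classFun_expand_apply (hcf f) w
  rw [hf]
  have hsum : ∑ χ : IrrCharacter ↥(W₁ ⊔ W₂), classInner f (χ : ↥(W₁ ⊔ W₂) → ℂ) * (χ : ↥(W₁ ⊔ W₂) → ℂ) w =
      ∑ᶠ ω : ↥(W₁ ⊔ W₂) →* ℂˣ, conj (a ω) * (ω w : ℂ) := by
    rw [← finsum_eq_sum_of_fintype]
    symm
    refine finsum_eq_of_bijective (fun ω : ↥(W₁ ⊔ W₂) →* ℂˣ =>
      (⟨lch ω, isCharacter_one_dim ω⟩ : IrrCharacter ↥(W₁ ⊔ W₂))) ⟨?_, ?_⟩ ?_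
    · intro ω ω' hh
      exact linHom_injective (congrArg Subtype.val hh)
    · intro χ
      obtain ⟨ω, hω⟩ := IsIrr.linear_of_comm hab χ.2
      exact ⟨ω, Subtype.ext hω.symm⟩
    · intro ω
      show conj (classInner (lch ω) f) * (ω w : ℂ) = classInner f (lch ω) * lch ω w
      rw [classInner_conj_symm]; rfl
  rw [hsum]
  haveI : Finite (↥(W₁ ⊔ W₂) →* ℂˣ) := by
    refine Finite.of_injective (fun ω : ↥(W₁ ⊔ W₂) →* ℂˣ =>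
      (⟨lch ω, isCharacter_one_dim ω⟩ : IrrCharacter ↥(W₁ ⊔ W₂))) ?_
    intro ω ω' hh
    exact linHom_injective (congrArg Subtype.val hh)
  haveI : Fintype (↥(W₁ ⊔ W₂) →* ℂˣ) := Fintype.ofFinite _
  rw [finsum_eq_sum_of_fintype]
  -- bijection with pairs
  let T2 := {φ : ↥(W₁ ⊔ W₂) →* ℂˣ // Tr2 W₁ W₂ φ}
  let T1 := {ψ : ↥(W₁ ⊔ W₂) →* ℂˣ // Tr1 W₁ W₂ ψ}
  haveI : Fintype T2 := Fintype.ofFinite _
  haveI : Fintype T1 := Fintype.ofFinite _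
  let e : T2 × T1 ≃ (↥(W₁ ⊔ W₂) →* ℂˣ) := Equiv.ofBijective (fun q => q.1.1 * q.2.1) ⟨by
    rintro ⟨⟨φ, hφ⟩, ⟨ψ, hψ⟩⟩ ⟨⟨φ', hφ'⟩, ⟨ψ', hψ'⟩⟩ hh
    obtain ⟨h3, h4⟩ := hom_dec_unique hcomm hφ hψ hφ' hψ' hh
    subst h3; subst h4; rfl, by
    intro ω
    obtain ⟨φ, ψ, hφ, hψ, hω⟩ := hom_dec hcomm hdisj ω
    exact ⟨(⟨φ, hφ⟩, ⟨ψ, hψ⟩), hω.symm⟩⟩
  rw [← Equiv.sum_comp e, Fintype.sum_prod_type]
  -- sums of nontrivial characters vanish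
  have hS2 : ∑ φ : T2, ((φ.1 w : ℂˣ) : ℂ) = 0 := by
    obtain ⟨ω, hω⟩ : ∃ ω : ↥(W₁ ⊔ W₂) →* ℂˣ, ω ⟨x, Subgroup.mem_sup_left x.2⟩ ≠ 1 := by
      by_contra hcon
      push Not at hcon
      have h3 : (⟨x, Subgroup.mem_sup_left x.2⟩ : ↥(W₁ ⊔ W₂)) = 1 := by
        apply eq_one_of_forall_ker
        intro χ hχ
        obtain ⟨ω, hω⟩ := IsIrr.linear_of_comm hab hχ
        rw [hω]
        simp only [hcon, map_one]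
      exact hx1 (congrArg Subtype.val h3)
    obtain ⟨φ₀, ψ₀, hφ₀, hψ₀, hdec⟩ := hom_dec hcomm hdisj ω
    have h4 : φ₀ w ≠ 1 := by
      have h5 : φ₀ w = φ₀ ⟨x, Subgroup.mem_sup_left x.2⟩ := by
        rw [hw, map_mul, hφ₀ (⟨y, Subgroup.mem_sup_right y.2⟩ : ↥(W₁ ⊔ W₂)) y.2, mul_one]
      rw [h5]
      intro h6
      apply hω
      rw [hdec, MonoidHom.mul_apply, h6, hψ₀ _ x.2, mul_one]
    let s : T2 ≃ T2 := ⟨fun φ => ⟨φ₀ * φ.1, hφ₀.mul φ.2⟩, fun φ => ⟨φ₀⁻¹ * φ.1, hφ₀.inv.mul φ.2⟩,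
      fun φ => Subtype.ext (by ext; simp), fun φ => Subtype.ext (by ext; simp)⟩
    have h5 := Equiv.sum_comp s (fun φ : T2 => ((φ.1 w : ℂˣ) : ℂ))
    have h6 : ∑ φ : T2, (((s φ).1 w : ℂˣ) : ℂ) = (φ₀ w : ℂ) * ∑ φ : T2, ((φ.1 w : ℂˣ) : ℂ) := by
      rw [Finset.mul_sum]
      refine Finset.sum_congr rfl fun φ _ => ?_
      show (((φ₀ * φ.1) w : ℂˣ) : ℂ) = _
      rw [MonoidHom.mul_apply, Units.val_mul]
    rw [h6] at h5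
    have h7 : ((φ₀ w : ℂˣ) : ℂ) - 1 ≠ 0 := by
      intro h8
      apply h4
      apply Units.ext
      rw [Units.val_one]
      exact sub_eq_zero.1 h8
    have h8 : (((φ₀ w : ℂˣ) : ℂ) - 1) * ∑ φ : T2, ((φ.1 w : ℂˣ) : ℂ) = 0 := by
      linear_combination h5
    exact (mul_eq_zero.1 h8).resolve_left h7
  have hS1 : ∑ ψ : T1, ((ψ.1 w : ℂˣ) : ℂ) = 0 := by
    obtain ⟨ω, hω⟩ : ∃ ω : ↥(W₁ ⊔ W₂) →* ℂˣ, ω ⟨y, Subgroup.mem_sup_right y.2⟩ ≠ 1 := by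
      by_contra hcon
      push Not at hcon
      have h3 : (⟨y, Subgroup.mem_sup_right y.2⟩ : ↥(W₁ ⊔ W₂)) = 1 := by
        apply eq_one_of_forall_ker
        intro χ hχ
        obtain ⟨ω, hω⟩ := IsIrr.linear_of_comm hab hχ
        rw [hω]
        simp only [hcon, map_one]
      exact hy1 (congrArg Subtype.val h3)
    obtain ⟨φ₀, ψ₀, hφ₀, hψ₀, hdec⟩ := hom_dec hcomm hdisj ω
    have h4 : ψ₀ w ≠ 1 := by
      have h5 : ψ₀ w = ψ₀ ⟨y, Subgroup.mem_sup_right y.2⟩ := by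
        rw [hw, map_mul, hψ₀ (⟨x, Subgroup.mem_sup_left x.2⟩ : ↥(W₁ ⊔ W₂)) x.2, one_mul]
      rw [h5]
      intro h6
      apply hω
      rw [hdec, MonoidHom.mul_apply, h6, hφ₀ _ y.2, mul_one]
    let s : T1 ≃ T1 := ⟨fun φ => ⟨ψ₀ * φ.1, hψ₀.mul φ.2⟩, fun φ => ⟨ψ₀⁻¹ * φ.1, hψ₀.inv.mul φ.2⟩,
      fun φ => Subtype.ext (by ext; simp), fun φ => Subtype.ext (by ext; simp)⟩
    have h5 := Equiv.sum_comp s (fun φ : T1 => ((φ.1 w : ℂˣ) : ℂ))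
    have h6 : ∑ φ : T1, (((s φ).1 w : ℂˣ) : ℂ) = (ψ₀ w : ℂ) * ∑ φ : T1, ((φ.1 w : ℂˣ) : ℂ) := by
      rw [Finset.mul_sum]
      refine Finset.sum_congr rfl fun φ _ => ?_
      show (((ψ₀ * φ.1) w : ℂˣ) : ℂ) = _
      rw [MonoidHom.mul_apply, Units.val_mul]
    rw [h6] at h5
    have h7 : ((ψ₀ w : ℂˣ) : ℂ) - 1 ≠ 0 := by
      intro h8
      apply h4
      apply Units.ext
      rw [Units.val_one]
      exact sub_eq_zero.1 h8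
    have h8 : (((ψ₀ w : ℂˣ) : ℂ) - 1) * ∑ φ : T1, ((φ.1 w : ℂˣ) : ℂ) = 0 := by
      linear_combination h5
    exact (mul_eq_zero.1 h8).resolve_left h7
  -- put together
  have hterm : ∀ (φ : T2) (ψ : T1), conj (a (e (φ, ψ))) * ((e (φ, ψ)) w : ℂ) =
      (conj (a φ.1) - conj (a 1)) * ((φ.1 w : ℂˣ) : ℂ) * ((ψ.1 w : ℂˣ) : ℂ) +
      ((φ.1 w : ℂˣ) : ℂ) * (conj (a ψ.1) * ((ψ.1 w : ℂˣ) : ℂ)) := by
    intro φ ψ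
    show conj (a (φ.1 * ψ.1)) * (((φ.1 * ψ.1) w : ℂˣ) : ℂ) = _
    rw [hrect φ.1 ψ.1 φ.2 ψ.2, MonoidHom.mul_apply, Units.val_mul, map_sub, map_add]
    ring
  rw [Finset.sum_congr rfl (fun φ _ => Finset.sum_congr rfl (fun ψ _ => hterm φ ψ))]
  have h9 : ∀ φ : T2, ∑ ψ : T1, ((conj (a φ.1) - conj (a 1)) * ((φ.1 w : ℂˣ) : ℂ) * ((ψ.1 w : ℂˣ) : ℂ) +
      ((φ.1 w : ℂˣ) : ℂ) * (conj (a ψ.1) * ((ψ.1 w : ℂˣ) : ℂ))) =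
      ((φ.1 w : ℂˣ) : ℂ) * ∑ ψ : T1, conj (a ψ.1) * ((ψ.1 w : ℂˣ) : ℂ) := by
    intro φ
    rw [Finset.sum_add_distrib, ← Finset.mul_sum, hS1, mul_zero, zero_add, Finset.mul_sum]
  rw [Finset.sum_congr rfl (fun φ _ => h9 φ), ← Finset.sum_mul, hS2, zero_mul]

end Cyc

end CfsgH4
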