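import Cfsg.Agent.H4.Pet1
import Cfsg.Agent.H4.Bp12
import Cfsg.Agent.H1.SZ3
import Cfsg.Prelude.Def_OddOrderChar

/-!
# The Dade isometry, I
-/

set_option autoImplicit false
open Cfsg ComplexConjugate

namespace CfsgH4

theorem fsum_ite {X M : Type*} [Fintype X] [AddCommMonoid M] (S : Set X) (F : X → M)
    (dec : ∀ x, Decidable (x ∈ S)) :
    ∑ᶠ g ∈ S, F g = ∑ g : X, @ite M (g ∈ S) (dec g) (F g) 0 := by
  classical
  rw [finsum_mem_def, finsum_eq_sum_of_fintype]
  refine Finset.sum_congr rfl fun x _ => ?_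
  by_cases hx : x ∈ S
  · rw [Set.indicator_of_mem hx, if_pos hx]
  · rw [Set.indicator_of_notMem hx, if_neg hx]

section Crt

variable {G : Type*} [Group G]

theorem crt_pow {m n : ℕ} (h : Nat.Coprime m n) :
    ∃ κ : ℕ, ∀ u g : G, u * g = g * u → orderOf u ∣ m → orderOf g ∣ n → (u * g) ^ κ = g := by
  obtain ⟨κ, h0, h1⟩ := Nat.chineseRemainder h 0 1
  refine ⟨κ, fun u g hug hu hg => ?_⟩
  have hc : Commute u g := hug
  rw [hc.mul_pow]
  have h2 : u ^ κ = 1 := by
    have h3 : u ^ κ = u ^ 0 := pow_eq_pow_iff_modEq.2 (h0.of_dvd hu)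
    rw [h3, pow_zero]
  have h3 : g ^ κ = g := by
    conv_rhs => rw [← pow_one g]
    exact pow_eq_pow_iff_modEq.2 (h1.of_dvd hg)
  rw [h2, h3, one_mul]

theorem crt_conj {m n : ℕ} (h : Nat.Coprime m n) {u g u' g' x : G} (h1 : u * g = g * u)
    (h1' : u' * g' = g' * u') (hu : orderOf u ∣ m) (hg : orderOf g ∣ n) (hu' : orderOf u' ∣ m)
    (hg' : orderOf g' ∣ n) (hx : x * (u * g) * x⁻¹ = u' * g') : x * g * x⁻¹ = g' := by
  obtain ⟨κ, hκ⟩ := crt_pow (G := G) h
  have h2 := hκ u g h1 hu hg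
  have h3 := hκ u' g' h1' hu' hg'
  rw [← h3, ← hx, conj_pow, h2]

theorem nconj {H : Subgroup G} {g : G} (hg : g ∈ Subgroup.normalizer (H : Set G)) {h : G} :
    g * h * g⁻¹ ∈ H ↔ h ∈ H := (Subgroup.mem_normalizer_iff.1 hg h).symm

theorem mem_of_sup_coprime [Finite G] {N D : Subgroup G} (hDN : D ≤ Subgroup.normalizer (N : Set G))
    {k : G} (hk : k ∈ N ⊔ D) (hcop : Nat.Coprime (orderOf k) (Nat.card D)) : k ∈ N := by
  have hle : N ≤ N ⊔ D := le_sup_left
  have hn : (N ⊔ D) ≤ Subgroup.normalizer (N : Set G) := sup_le Subgroup.le_normalizer hDN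
  haveI : (N.subgroupOf (N ⊔ D)).Normal := by
    refine ⟨fun a ha b => ?_⟩
    rw [Subgroup.mem_subgroupOf] at ha ⊢
    exact (nconj (hn b.2)).2 ha
  have h1 : k ^ (N.relIndex (N ⊔ D)) ∈ N := by
    have h2 := Subgroup.pow_index_mem (N.subgroupOf (N ⊔ D)) (⟨k, hk⟩ : (N ⊔ D : Subgroup G))
    rw [Subgroup.mem_subgroupOf] at h2
    exact h2
  have h3 : N.relIndex (N ⊔ D) ∣ Nat.card D := by
    rw [sup_comm, relIndex_sup_norm hDN]
    exact Subgroup.relIndex_dvd_card N D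
  have h4 : Nat.Coprime (N.relIndex (N ⊔ D)) (orderOf k) :=
    (Nat.Coprime.coprime_dvd_right h3 hcop).symm
  have h5 := h4
  have h6 : (1 : ℤ) = (N.relIndex (N ⊔ D)) * Nat.gcdA (N.relIndex (N ⊔ D)) (orderOf k) +
      (orderOf k) * Nat.gcdB (N.relIndex (N ⊔ D)) (orderOf k) := by
    have := Nat.gcd_eq_gcd_ab (N.relIndex (N ⊔ D)) (orderOf k)
    rw [h4] at this
    exact_mod_cast this
  have h7 : k = (k ^ (N.relIndex (N ⊔ D))) ^ (Nat.gcdA (N.relIndex (N ⊔ D)) (orderOf k)) := by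
    conv_lhs => rw [← zpow_one k, h6]
    rw [zpow_add, zpow_mul, zpow_mul, zpow_natCast, zpow_natCast, pow_orderOf_eq_one, one_zpow,
      mul_one]
  rw [h7]
  exact zpow_mem h1 _

theorem card_sup_disj [Finite G] {N D : Subgroup G} (hDN : D ≤ Subgroup.normalizer (N : Set G))
    (hd : N ⊓ D = ⊥) : Nat.card (N ⊔ D : Subgroup G) = Nat.card N * Nat.card D := by
  have h1 : N.relIndex (N ⊔ D) = Nat.card D := by
    rw [sup_comm, relIndex_sup_norm hDN, Subgroup.relIndex,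
      show N.subgroupOf D = ⊥ from by rw [Subgroup.subgroupOf_eq_bot, disjoint_iff]; exact hd,
      Subgroup.index_bot]
  have h2 := Subgroup.card_mul_index (N.subgroupOf (N ⊔ D))
  rw [Nat.card_congr (Subgroup.subgroupOfEquivOfLe le_sup_left).toEquiv] at h2
  rw [← h2]
  congr 1

/-- every element of the coset `H g` is `H`-conjugate to one commuting with `g` -/
theorem coset_conj [Finite G] (H : Subgroup G) {g : G} (hg : g ∈ Subgroup.normalizer (H : Set G))
    (hcop : Nat.Coprime (orderOf g) (Nat.card H)) {h : G} (hh : h ∈ H) :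
    ∃ x ∈ H, ∃ c ∈ H, c * g = g * c ∧ x * (h * g) * x⁻¹ = c * g := by
  classical
  obtain ⟨κ, h0, h1⟩ := Nat.chineseRemainder hcop.symm 0 1
  have hpow : ∀ j : ℕ, (h * g) ^ j * (g ^ j)⁻¹ ∈ H := by
    intro j
    induction j with
    | zero => simp
    | succ j ih =>
      have e1 : (h * g) ^ (j + 1) * (g ^ (j + 1))⁻¹ =
          h * (g * ((h * g) ^ j * (g ^ j)⁻¹) * g⁻¹) := by
        rw [pow_succ', pow_succ']; group
      rw [e1]
      exact H.mul_mem hh ((nconj hg).2 ih)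
  set v := (h * g) ^ κ with hv
  have hgκ : g ^ κ = g := by
    conv_rhs => rw [← pow_one g]
    exact pow_eq_pow_iff_modEq.2 h1
  have hvg : v * g⁻¹ ∈ H := by
    have := hpow κ
    rwa [hgκ] at this
  have hvn : v ^ orderOf g = 1 := by
    have h2 : (h * g) ^ orderOf g ∈ H := by
      have := hpow (orderOf g)
      rwa [pow_orderOf_eq_one, inv_one, mul_one] at this
    have h3 : ((h * g) ^ orderOf g) ^ κ = 1 := by
      obtain ⟨j, hj⟩ := (Nat.modEq_zero_iff_dvd.1 h0)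
      rw [hj, pow_mul]
      have h4 : ((h * g) ^ orderOf g) ^ Nat.card H = 1 := by
        have := pow_card_eq_one' (x := (⟨_, h2⟩ : H))
        exact congrArg Subtype.val this
      rw [h4, one_pow]
    rw [hv, ← pow_mul, mul_comm, pow_mul, h3]
  have hgN : Subgroup.zpowers g ≤ Subgroup.normalizer (H : Set G) := by
    rw [Subgroup.zpowers_le]; exact hg
  have hvN : Subgroup.zpowers v ≤ Subgroup.normalizer (H : Set G) := by
    rw [Subgroup.zpowers_le]
    have : v = (v * g⁻¹) * g := by group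
    rw [this]
    exact Subgroup.mul_mem _ (Subgroup.le_normalizer hvg) hg
  have hco : (Nat.card H).Coprime (Nat.card (Subgroup.zpowers v)) := by
    rw [Nat.card_zpowers]
    exact Nat.Coprime.coprime_dvd_right (orderOf_dvd_of_pow_eq_one hvn) hcop.symm
  have he : H ⊔ Subgroup.zpowers v = H ⊔ Subgroup.zpowers g := by
    apply le_antisymm
    · refine sup_le le_sup_left ?_
      rw [Subgroup.zpowers_le]
      have : v = (v * g⁻¹) * g := by group
      rw [this]
      exact Subgroup.mul_mem _ (Subgroup.mem_sup_left hvg)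
        (Subgroup.mem_sup_right (Subgroup.mem_zpowers g))
    · refine sup_le le_sup_left ?_
      rw [Subgroup.zpowers_le]
      have : g = (v * g⁻¹)⁻¹ * v := by group
      rw [this]
      exact Subgroup.mul_mem _ (Subgroup.mem_sup_left (H.inv_mem hvg))
        (Subgroup.mem_sup_right (Subgroup.mem_zpowers v))
  have hd : H ⊓ Subgroup.zpowers g = ⊥ := by
    apply Subgroup.inf_eq_bot_of_coprime
    rw [Nat.card_zpowers]; exact hcop.symm
  have hs : Group.IsSolvable (Subgroup.zpowers v) := inferInstance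
  obtain ⟨x, hx, hxe⟩ := CfsgH1.sz_conj_internal hvN hgN hco (Or.inr hs) he hd
  have hxv : x * v * x⁻¹ = g := by
    have h2 : x * v * x⁻¹ ∈ Subgroup.zpowers g := by
      rw [← hxe, Subgroup.mem_smul_pointwise_iff_exists]
      exact ⟨v, Subgroup.mem_zpowers v, by simp⟩
    have h3 : x * v * x⁻¹ * g⁻¹ ∈ H ⊓ Subgroup.zpowers g := by
      refine ⟨?_, Subgroup.mul_mem _ h2 (Subgroup.inv_mem _ (Subgroup.mem_zpowers g))⟩
      have : x * v * x⁻¹ * g⁻¹ = x * (v * g⁻¹) * (g * x⁻¹ * g⁻¹) := by group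
      rw [this]
      exact H.mul_mem (H.mul_mem hx hvg) ((nconj hg).2 (H.inv_mem hx))
    rw [hd, Subgroup.mem_bot] at h3
    exact mul_inv_eq_one.1 h3
  refine ⟨x, hx, x * (h * g) * x⁻¹ * g⁻¹, ?_, ?_, by group⟩
  · have : x * (h * g) * x⁻¹ * g⁻¹ = x * h * (g * x⁻¹ * g⁻¹) := by group
    rw [this]
    exact H.mul_mem (H.mul_mem hx hh) ((nconj hg).2 (H.inv_mem hx))
  · have h4 : (h * g) * v = v * (h * g) := by rw [hv, ← pow_succ', ← pow_succ]
    have h5 : (x * (h * g) * x⁻¹) * (x * v * x⁻¹) = (x * v * x⁻¹) * (x * (h * g) * x⁻¹) := by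
      calc x * (h * g) * x⁻¹ * (x * v * x⁻¹) = x * ((h * g) * v) * x⁻¹ := by group
        _ = x * (v * (h * g)) * x⁻¹ := by rw [h4]
        _ = x * v * x⁻¹ * (x * (h * g) * x⁻¹) := by group
    rw [hxv] at h5
    set z := x * (h * g) * x⁻¹ with hz
    rw [mul_assoc, inv_mul_cancel, mul_one, ← mul_assoc, ← h5, mul_assoc, mul_inv_cancel, mul_one]

/-- averages over a coset -/
theorem coset_avg [Finite G] {N C : Subgroup G} [Fintype N] [Fintype C] {g : G}
    (hg : g ∈ Subgroup.normalizer (N : Set G)) (hcop : Nat.Coprime (orderOf g) (Nat.card N))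
    (hC : ∀ c, c ∈ C ↔ c ∈ N ∧ c * g = g * c) {F : G → ℂ} (hF : ∀ x y : G, F (x * y * x⁻¹) = F y) :
    (Nat.card N : ℂ) * ∑ c : C, F (c * g) = (Nat.card C : ℂ) * ∑ n : N, F (n * g) := by
  classical
  -- the map `(n, c) ↦ n c g n⁻¹ g⁻¹`
  set φ : N × C → N := fun q => ⟨(q.1 : G) * ((q.2 : G) * g) * (q.1 : G)⁻¹ * g⁻¹, by
    have e : (q.1 : G) * ((q.2 : G) * g) * (q.1 : G)⁻¹ * g⁻¹ =
        (q.1 : G) * (q.2 : G) * (g * (q.1 : G)⁻¹ * g⁻¹) := by group
    rw [e]
    exact N.mul_mem (N.mul_mem q.1.2 ((hC _).1 q.2.2).1) ((nconj hg).2 (N.inv_mem q.1.2))⟩ with hφ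
  have hφe : ∀ q : N × C, (φ q : G) * g = (q.1 : G) * ((q.2 : G) * g) * (q.1 : G)⁻¹ := by
    intro q; rw [hφ]; group
  have hfib : ∀ n : N, (Finset.univ.filter fun q : N × C => φ q = n).card = Nat.card C := by
    intro n
    obtain ⟨x, hx, c, hc, hcg, hxe⟩ := coset_conj N hg hcop n.2
    have hcC : c ∈ C := (hC c).2 ⟨hc, hcg⟩
    -- base point `(x⁻¹, c)`
    have h1 : ∀ m : C, ((x⁻¹ * (m : G)) * (((m : G)⁻¹ * c * m) * g) * (x⁻¹ * (m : G))⁻¹) =
        (n : G) * g := by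
      intro m
      have h2 := ((hC m).1 m.2).2
      have h3 : (m : G) * g * (m : G)⁻¹ = g := by rw [h2]; group
      calc (x⁻¹ * (m : G)) * (((m : G)⁻¹ * c * m) * g) * (x⁻¹ * (m : G))⁻¹
          = x⁻¹ * (c * ((m : G) * g * (m : G)⁻¹)) * x := by group
        _ = x⁻¹ * (c * g) * x := by rw [h3]
        _ = (n : G) * g := by rw [← hxe]; group
    rw [Nat.card_eq_fintype_card, ← Finset.card_univ]
    symm
    refine Finset.card_bij (fun m _ => ((⟨x⁻¹ * (m : G), N.mul_mem (N.inv_mem hx) ((hC _).1 m.2).1⟩,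
      ⟨(m : G)⁻¹ * c * m, C.mul_mem (C.mul_mem (C.inv_mem m.2) hcC) m.2⟩) : N × C)) ?_ ?_ ?_
    · intro m _
      rw [Finset.mem_filter]
      refine ⟨Finset.mem_univ _, ?_⟩
      apply Subtype.ext
      have h4 := hφe ((⟨x⁻¹ * (m : G), N.mul_mem (N.inv_mem hx) ((hC _).1 m.2).1⟩,
        ⟨(m : G)⁻¹ * c * m, C.mul_mem (C.mul_mem (C.inv_mem m.2) hcC) m.2⟩) : N × C)
      have h5 := h4.trans (h1 m)
      exact mul_right_cancel h5
    · intro m _ m' _ h
      have h4 := congrArg (fun q : N × C => (q.1 : G)) h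
      exact Subtype.ext (mul_left_cancel h4)
    · intro q hq
      rw [Finset.mem_filter] at hq
      have h4 := hφe q
      rw [hq.2] at h4
      -- `x q.1` commutes with `g`
      have h5 : (x * (q.1 : G)) * ((q.2 : G) * g) * (x * (q.1 : G))⁻¹ = c * g := by
        rw [← hxe, h4]; group
      have hq2 := (hC _).1 q.2.2
      have h6 := crt_conj (m := Nat.card N) (n := orderOf g) hcop.symm hq2.2 hcg
        (Subgroup.orderOf_dvd_natCard N hq2.1) dvd_rfl (Subgroup.orderOf_dvd_natCard N hc)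
        dvd_rfl h5
      have h7 : x * (q.1 : G) ∈ C := (hC _).2 ⟨N.mul_mem hx q.1.2, mul_inv_eq_iff_eq_mul.1 h6⟩
      refine ⟨⟨x * (q.1 : G), h7⟩, Finset.mem_univ _, ?_⟩
      have h8 : (x * (q.1 : G)) * (q.2 : G) * (x * (q.1 : G))⁻¹ = c := by
        have h9 : (x * (q.1 : G)) * ((q.2 : G) * g) * (x * (q.1 : G))⁻¹ =
            ((x * (q.1 : G)) * (q.2 : G) * (x * (q.1 : G))⁻¹) *
              ((x * (q.1 : G)) * g * (x * (q.1 : G))⁻¹) := by group
        rw [h9, h6] at h5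
        exact mul_right_cancel h5
      refine Prod.ext (Subtype.ext ?_) (Subtype.ext ?_)
      · show x⁻¹ * (x * (q.1 : G)) = (q.1 : G)
        group
      · show (x * (q.1 : G))⁻¹ * c * (x * (q.1 : G)) = (q.2 : G)
        rw [← h8]; group
  have h1 : ∑ q : N × C, F ((φ q : G) * g) = (Nat.card N : ℂ) * ∑ c : C, F (c * g) := by
    rw [Fintype.sum_prod_type]
    have : ∀ n : N, ∑ c : C, F ((φ (n, c) : G) * g) = ∑ c : C, F (c * g) := by
      intro n
      refine Finset.sum_congr rfl fun c _ => ?_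
      rw [hφe, hF]
    rw [Finset.sum_congr rfl (fun n _ => this n), Finset.sum_const, nsmul_eq_mul,
      Finset.card_univ, Nat.card_eq_fintype_card]
  rw [← h1, ← Finset.sum_fiberwise_of_maps_to (s := Finset.univ) (t := Finset.univ) (g := φ)
    (fun _ _ => Finset.mem_univ _), Finset.mul_sum]
  refine Finset.sum_congr rfl fun n _ => ?_
  rw [Finset.sum_congr rfl (fun q hq => by rw [(Finset.mem_filter.1 hq).2]), Finset.sum_const,
    hfib, nsmul_eq_mul]

end Crt

end CfsgH4
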