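import Cfsg.Agent.H4.Dade1

/-!
# The Dade isometry, II
-/

set_option autoImplicit false
open Cfsg ComplexConjugate

namespace CfsgH4

section Dade

variable {G : Type*} [Group G] [Finite G] {A : Set G} {L : Subgroup G} {H : G → Subgroup G}

theorem dade_comm (hD : DadeHypothesis A L H) {a u : G} (ha : a ∈ A) (hu : u ∈ H a) :
    a * u = u * a := by
  have := hD.le_centralizer a ha hu
  rw [Subgroup.mem_centralizer_singleton_iff] at this
  exact this.symm

theorem dade_ord_self (hD : DadeHypothesis A L H) {a : G} (ha : a ∈ A) :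
    orderOf a ∣ Nat.card ↥(L ⊓ Subgroup.centralizer ({a} : Set G)) := by
  apply Subgroup.orderOf_dvd_natCard
  exact ⟨hD.subset ha, Subgroup.mem_centralizer_singleton_iff.2 rfl⟩

theorem dade_conj (hD : DadeHypothesis A L H) {a b u v g : G} (ha : a ∈ A) (hb : b ∈ A)
    (hu : u ∈ H a) (hv : v ∈ H b) (h : g * (a * u) * g⁻¹ = b * v) : g * a * g⁻¹ = b := by
  have hco : Nat.Coprime (Nat.card (H a) * Nat.card (H b))
      (Nat.card ↥(L ⊓ Subgroup.centralizer ({a} : Set G)) *
        Nat.card ↥(L ⊓ Subgroup.centralizer ({b} : Set G))) :=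
    Nat.Coprime.mul_left
      (Nat.Coprime.mul_right (hD.coprime a ha a ha) (hD.coprime a ha b hb))
      (Nat.Coprime.mul_right (hD.coprime b hb a ha) (hD.coprime b hb b hb))
  refine crt_conj hco (dade_comm hD ha hu).symm (dade_comm hD hb hv).symm
    ((Subgroup.orderOf_dvd_natCard _ hu).mul_right _) ((dade_ord_self hD ha).mul_right _)
    ((Subgroup.orderOf_dvd_natCard _ hv).mul_left _) ((dade_ord_self hD hb).mul_left _) ?_
  rw [← dade_comm hD ha hu, ← dade_comm hD hb hv, h]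

theorem dade_H_le (hD : DadeHypothesis A L H) {a : G} (ha : a ∈ A) {x : G} (hx : x ∈ L) :
    (H a).map (MulAut.conj x).toMonoidHom ≤ H (x * a * x⁻¹) := by
  rintro _ ⟨u, hu, rfl⟩
  have hb := hD.conj_mem x hx a ha
  show x * u * x⁻¹ ∈ _
  have hN : (L ⊓ Subgroup.centralizer ({x * a * x⁻¹} : Set G)) ≤
      Subgroup.normalizer ((H (x * a * x⁻¹) : Subgroup G) : Set G) := by
    intro c hc
    rw [Subgroup.mem_normalizer_iff]
    intro z
    refine ⟨fun hz => hD.conj_mem_H _ hb c hc.2 z hz, fun hz => ?_⟩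
    have := hD.conj_mem_H _ hb c⁻¹ (Subgroup.inv_mem _ hc.2) _ hz
    have e : c⁻¹ * (c * z * c⁻¹) * c⁻¹⁻¹ = z := by group
    rwa [e] at this
  refine mem_of_sup_coprime hN ?_ ?_
  · rw [hD.sup_eq _ hb, Subgroup.mem_centralizer_singleton_iff]
    have := dade_comm hD ha hu
    calc x * u * x⁻¹ * (x * a * x⁻¹) = x * (u * a) * x⁻¹ := by group
      _ = x * (a * u) * x⁻¹ := by rw [this]
      _ = x * a * x⁻¹ * (x * u * x⁻¹) := by group
  · have h1 : orderOf (x * u * x⁻¹) = orderOf u := orderOf_conj' u x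
    rw [h1]
    exact Nat.Coprime.coprime_dvd_left (Subgroup.orderOf_dvd_natCard _ hu)
      (hD.coprime a ha _ hb)

theorem dade_H_conj (hD : DadeHypothesis A L H) {a : G} (ha : a ∈ A) {x : G} (hx : x ∈ L) :
    H (x * a * x⁻¹) = (H a).map (MulAut.conj x).toMonoidHom := by
  apply le_antisymm _ (dade_H_le hD ha hx)
  intro v hv
  have h1 := dade_H_le hD (hD.conj_mem x hx a ha) (L.inv_mem hx)
    (Subgroup.mem_map_of_mem (MulAut.conj x⁻¹).toMonoidHom hv)
  have e : x⁻¹ * (x * a * x⁻¹) * x⁻¹⁻¹ = a := by group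
  rw [e] at h1
  refine ⟨_, h1, ?_⟩
  show x * (x⁻¹ * v * x⁻¹⁻¹) * x⁻¹ = v
  group

theorem dade_mem_H (hD : DadeHypothesis A L H) {a : G} (ha : a ∈ A) {x : G} (hx : x ∈ L) {u : G} :
    x * u * x⁻¹ ∈ H (x * a * x⁻¹) ↔ u ∈ H a := by
  rw [dade_H_conj hD ha hx]
  constructor
  · rintro ⟨v, hv, hve⟩
    have : x * v * x⁻¹ = x * u * x⁻¹ := hve
    have h2 : v = u := by
      have := congrArg (fun z => x⁻¹ * z * x) this
      simpa [mul_assoc] using this
    exact h2 ▸ hv
  · intro hu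
    exact ⟨u, hu, rfl⟩

theorem dade_card_H (hD : DadeHypothesis A L H) {a : G} (ha : a ∈ A) {x : G} (hx : x ∈ L) :
    Nat.card (H (x * a * x⁻¹)) = Nat.card (H a) := by
  rw [dade_H_conj hD ha hx]
  exact (Nat.card_congr ((H a).equivMapOfInjective _
    (MulAut.conj x).injective).toEquiv).symm

theorem dade_le_norm (hD : DadeHypothesis A L H) {a : G} (ha : a ∈ A) :
    Subgroup.centralizer ({a} : Set G) ≤ Subgroup.normalizer ((H a : Subgroup G) : Set G) := by
  intro c hc
  rw [Subgroup.mem_normalizer_iff]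
  intro z
  refine ⟨fun hz => hD.conj_mem_H _ ha c hc z hz, fun hz => ?_⟩
  have := hD.conj_mem_H _ ha c⁻¹ (Subgroup.inv_mem _ hc) _ hz
  have e : c⁻¹ * (c * z * c⁻¹) * c⁻¹⁻¹ = z := by group
  rwa [e] at this

theorem dade_card_cent (hD : DadeHypothesis A L H) {a : G} (ha : a ∈ A) :
    Nat.card (Subgroup.centralizer ({a} : Set G)) =
      Nat.card (H a) * Nat.card ↥(L ⊓ Subgroup.centralizer ({a} : Set G)) := by
  conv_lhs => rw [← hD.sup_eq a ha]
  exact card_sup_disj (inf_le_right.trans (dade_le_norm hD ha)) (hD.inf_eq_bot a ha)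

theorem dade_value (hD : DadeHypothesis A L H) {α : L → ℂ} (hα : IsClassFunction L α) {a : L}
    (ha : (a : G) ∈ A) {u g x : G} (hu : u ∈ H a) (h : x * g * x⁻¹ = a * u) :
    dadeIsometry A L H α g = α a := by
  classical
  have hex : ∃ a : ↥L, (a : G) ∈ A ∧ ∃ x : G, ∃ u ∈ H (a : G), x * g * x⁻¹ = (a : G) * u :=
    ⟨a, ha, x, u, hu, h⟩
  unfold dadeIsometry
  rw [dif_pos hex]
  obtain ⟨hb, y, v, hv, hy⟩ := Classical.choose_spec hex
  set b := Classical.choose hex with hbdef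
  have h1 : (x * y⁻¹) * ((b : G) * v) * (x * y⁻¹)⁻¹ = a * u := by
    rw [← h, ← hy]; group
  have h2 := dade_conj hD hb ha hv hu h1
  obtain ⟨z, hz, hze⟩ := hD.fusion b hb (x * y⁻¹) (by rw [h2]; exact ha)
  rw [h2] at hze
  have h3 : a = (⟨z, hz⟩ : L) * b * (⟨z, hz⟩ : L)⁻¹ := Subtype.ext hze.symm
  rw [h3, hα]

theorem dade_zero {α : L → ℂ} {g : G}
    (h : ∀ a : L, (a : G) ∈ A → ∀ u ∈ H a, ∀ x : G, x * g * x⁻¹ ≠ a * u) :
    dadeIsometry A L H α g = 0 := by
  unfold dadeIsometry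
  rw [dif_neg]
  rintro ⟨a, ha, x, u, hu, hx⟩
  exact h a ha u hu x hx

/-- the support -/
theorem dade_dich (hD : DadeHypothesis A L H) (g : G) :
    (∃ (a : L) (u x : G), (a : G) ∈ A ∧ u ∈ H a ∧ x * g * x⁻¹ = a * u) ∨
    (∀ a : L, (a : G) ∈ A → ∀ u ∈ H a, ∀ x : G, x * g * x⁻¹ ≠ a * u) := by
  by_cases h : ∃ (a : L) (u x : G), (a : G) ∈ A ∧ u ∈ H a ∧ x * g * x⁻¹ = a * u
  · exact Or.inl h
  · refine Or.inr fun a ha u hu x hx => h ⟨a, u, x, ha, hu, hx⟩

theorem dade_classFun (hD : DadeHypothesis A L H) {α : L → ℂ} (hα : IsClassFunction L α) :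
    IsClassFunction G (dadeIsometry A L H α) := by
  intro x g
  rcases dade_dich hD x with ⟨a, u, y, ha, hu, hy⟩ | h
  · rw [dade_value hD hα ha hu hy]
    refine dade_value hD hα ha hu (x := y * g⁻¹) ?_
    rw [← hy]; group
  · rw [dade_zero h]
    refine dade_zero fun a ha u hu y hy => h a ha u hu (y * g) ?_
    rw [← hy]; group

/-- the number of `x` with `x g x⁻¹ ∈ a H(a)` -/
noncomputable def Nn (H : G → Subgroup G) (a g : G) : ℂ :=
  (Nat.card {x : G // ∃ u ∈ H a, x * g * x⁻¹ = a * u} : ℂ)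

variable [Fintype G] [Fintype L]

open Classical in
theorem sum_Nn (hD : DadeHypothesis A L H) {a : L} (ha : (a : G) ∈ A) {g x₀ u₀ : G} (hu₀ : u₀ ∈ H a)
    (hx₀ : x₀ * g * x₀⁻¹ = a * u₀) :
    ∑ b : L, (if (b : G) ∈ A then Nn H (b : G) g else 0) = (Nat.card L : ℂ) * Nat.card (H a) := by
  have h1 : ∀ b : L, (if (b : G) ∈ A then Nn H (b : G) g else 0) =
      if IsConj a b then (Nat.card (Subgroup.centralizer ({(a : G)} : Set G)) : ℂ) else 0 := by
    intro b
    by_cases hab : IsConj a b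
    · obtain ⟨c, hc⟩ := isConj_iff.1 hab
      have hc' : (c : G) * a * (c : G)⁻¹ = b := congrArg Subtype.val hc
      have hbA : (b : G) ∈ A := by
        rw [← hc']; exact hD.conj_mem c c.2 a ha
      rw [if_pos hab, if_pos hbA]
      unfold Nn
      congr 1
      -- `x ↦ c⁻¹ x x₀⁻¹ ∈ C(a)`
      refine Nat.card_congr ⟨fun x => ⟨(c : G)⁻¹ * x * x₀⁻¹, ?_⟩, fun y => ⟨(c : G) * y * x₀, ?_⟩,
        fun x => Subtype.ext (by group), fun y => Subtype.ext (by group)⟩
      · obtain ⟨x, v, hv, hx⟩ := x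
        have h2 : (x * x₀⁻¹) * ((a : G) * u₀) * (x * x₀⁻¹)⁻¹ = b * v := by
          rw [← hx₀, ← hx]; group
        have h3 := dade_conj hD ha hbA hu₀ hv h2
        rw [Subgroup.mem_centralizer_singleton_iff]
        rw [← hc'] at h3
        have h4 : x * x₀⁻¹ * a = (c : G) * a * (c : G)⁻¹ * (x * x₀⁻¹) := by
          rw [← h3]; group
        calc (c : G)⁻¹ * x * x₀⁻¹ * a = (c : G)⁻¹ * (x * x₀⁻¹ * a) := by group
          _ = a * ((c : G)⁻¹ * x * x₀⁻¹) := by rw [h4]; group
      · have hy := Subgroup.mem_centralizer_singleton_iff.1 y.2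
        refine ⟨(c : G) * ((y : G) * u₀ * (y : G)⁻¹) * (c : G)⁻¹, ?_, ?_⟩
        · rw [← hc', dade_mem_H hD ha c.2]
          exact hD.conj_mem_H _ ha _ y.2 _ hu₀
        · have h5 : (y : G) * a * (y : G)⁻¹ = a := by rw [hy]; group
          calc (c : G) * y * x₀ * g * ((c : G) * y * x₀)⁻¹
              = (c : G) * y * (x₀ * g * x₀⁻¹) * (y : G)⁻¹ * (c : G)⁻¹ := by group
            _ = (c : G) * ((y : G) * a * (y : G)⁻¹) * ((y : G) * u₀ * (y : G)⁻¹) * (c : G)⁻¹ := by
                rw [hx₀]; group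
            _ = (c : G) * a * ((y : G) * u₀ * (y : G)⁻¹) * (c : G)⁻¹ := by rw [h5]
            _ = b * ((c : G) * ((y : G) * u₀ * (y : G)⁻¹) * (c : G)⁻¹) := by rw [← hc']; group
    · rw [if_neg hab]
      by_cases hbA : (b : G) ∈ A
      · rw [if_pos hbA]
        unfold Nn
        haveI : IsEmpty {x : G // ∃ u ∈ H (b : G), x * g * x⁻¹ = b * u} := by
          refine ⟨?_⟩
          rintro ⟨x, v, hv, hx⟩
          have h2 : (x * x₀⁻¹) * ((a : G) * u₀) * (x * x₀⁻¹)⁻¹ = b * v := by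
            rw [← hx₀, ← hx]; group
          have h3 := dade_conj hD ha hbA hu₀ hv h2
          obtain ⟨z, hz, hze⟩ := hD.fusion a ha (x * x₀⁻¹) (by rw [h3]; exact hbA)
          rw [h3] at hze
          exact hab (isConj_iff.2 ⟨⟨z, hz⟩, Subtype.ext hze⟩)
        simp
      · rw [if_neg hbA]
  rw [Finset.sum_congr rfl (fun b _ => h1 b)]
  have h2 : ∑ b : L, (if IsConj a b then (Nat.card (Subgroup.centralizer ({(a : G)} : Set G)) : ℂ)
      else 0) = (Nat.card {b : L // IsConj a b} : ℂ) *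
        (Nat.card (Subgroup.centralizer ({(a : G)} : Set G)) : ℂ) := by
    rw [← Finset.sum_filter, Finset.sum_const, nsmul_eq_mul]
    congr 2
    rw [Nat.card_eq_fintype_card, Fintype.card_subtype]
  rw [h2, dade_card_cent hD ha]
  have h3 := card_isConj_mul_centralizer a
  have h4 : Nat.card (Subgroup.centralizer ({a} : Set L)) =
      Nat.card ↥(L ⊓ Subgroup.centralizer ({(a : G)} : Set G)) := by
    refine Nat.card_congr ⟨fun c => ⟨((c : L) : G), (c : L).2, ?_⟩, fun c => ⟨⟨(c : G), c.2.1⟩, ?_⟩,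
      fun c => rfl, fun c => rfl⟩
    · refine Subgroup.mem_centralizer_singleton_iff.2 ?_
      exact congrArg Subtype.val (Subgroup.mem_centralizer_singleton_iff.1 c.2)
    · rw [Subgroup.mem_centralizer_singleton_iff]
      exact Subtype.ext (Subgroup.mem_centralizer_singleton_iff.1 c.2.2)
  rw [h4] at h3
  rw [← h3]
  push_cast
  ring

theorem dade_formula (hD : DadeHypothesis A L H) {α : L → ℂ} (hα : IsClassFunction L α)
    (hαA : ∀ x : L, (x : G) ∉ A → α x = 0) (g : G) :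
    (Nat.card L : ℂ) * dadeIsometry A L H α g =
      ∑ b : L, α b * ((Nat.card (H b) : ℂ)⁻¹ * Nn H (b : G) g) := by
  classical
  rcases dade_dich hD g with ⟨a, u₀, x₀, ha, hu₀, hx₀⟩ | h
  · have h1 : ∀ b : L, α b * ((Nat.card (H b) : ℂ)⁻¹ * Nn H (b : G) g) =
        α a * (Nat.card (H a) : ℂ)⁻¹ * (if (b : G) ∈ A then Nn H (b : G) g else 0) := by
      intro b
      by_cases hbA : (b : G) ∈ A
      · rw [if_pos hbA]
        by_cases hN : Nn H (b : G) g = 0
        · rw [hN]; ring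
        · have h2 : Nonempty {x : G // ∃ u ∈ H (b : G), x * g * x⁻¹ = b * u} := by
            by_contra hne
            rw [not_nonempty_iff] at hne
            exact hN (by unfold Nn; simp)
          obtain ⟨x, v, hv, hx⟩ := h2
          have h3 : (x * x₀⁻¹) * ((a : G) * u₀) * (x * x₀⁻¹)⁻¹ = b * v := by
            rw [← hx₀, ← hx]; group
          have h4 := dade_conj hD ha hbA hu₀ hv h3
          obtain ⟨z, hz, hze⟩ := hD.fusion a ha (x * x₀⁻¹) (by rw [h4]; exact hbA)
          rw [h4] at hze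
          have h5 : b = (⟨z, hz⟩ : L) * a * (⟨z, hz⟩ : L)⁻¹ := Subtype.ext hze.symm
          have h6 : α b = α a := by rw [h5, hα]
          have h7 : Nat.card (H (b : G)) = Nat.card (H (a : G)) := by
            rw [← hze]; exact dade_card_H hD ha hz
          rw [h6, h7]; ring
      · rw [hαA b hbA, if_neg hbA]; ring
    rw [Finset.sum_congr rfl (fun b _ => h1 b), ← Finset.mul_sum, sum_Nn hD ha hu₀ hx₀,
      dade_value hD hα ha hu₀ hx₀]
    have h0 : (Nat.card (H (a : G)) : ℂ) ≠ 0 := by exact_mod_cast Nat.card_pos.ne'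
    field_simp
  · rw [dade_zero h, mul_zero]
    symm
    refine Finset.sum_eq_zero fun b _ => ?_
    by_cases hbA : (b : G) ∈ A
    · haveI : IsEmpty {x : G // ∃ u ∈ H (b : G), x * g * x⁻¹ = b * u} :=
        ⟨fun ⟨x, v, hv, hx⟩ => h b hbA v hv x hx⟩
      unfold Nn; simp
    · rw [hαA b hbA]; ring

theorem sum_Nn_mul (a : G) [Fintype (H a)] {f : G → ℂ} (hf : IsClassFunction G f) :
    ∑ g : G, Nn H a g * f g = (Nat.card G : ℂ) * ∑ u : H a, f (a * u) := by
  classical
  have h1 : ∀ g : G, Nn H a g = ∑ x : G, ∑ u : H a, if x * g * x⁻¹ = a * u then (1 : ℂ) else 0 := by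
    intro g
    unfold Nn
    rw [Nat.card_eq_fintype_card, Fintype.card_subtype, Finset.card_filter, Nat.cast_sum]
    refine Finset.sum_congr rfl fun x _ => ?_
    by_cases hx : ∃ u ∈ H a, x * g * x⁻¹ = a * u
    · obtain ⟨u, hu, he⟩ := hx
      rw [if_pos ⟨u, hu, he⟩, Finset.sum_eq_single (⟨u, hu⟩ : H a)]
      · rw [if_pos he]; simp
      · intro v _ hne
        rw [if_neg]
        intro hv
        apply hne
        rw [he] at hv
        exact Subtype.ext (mul_left_cancel hv).symm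
      · intro h; exact absurd (Finset.mem_univ _) h
    · rw [if_neg hx]
      symm
      rw [Nat.cast_zero]
      refine Finset.sum_eq_zero fun u _ => ?_
      rw [if_neg]
      intro he
      exact hx ⟨u, u.2, he⟩
  have h2 : ∀ x : G, ∑ g : G, ∑ u : H a, (if x * g * x⁻¹ = a * u then (1 : ℂ) else 0) * f g =
      ∑ u : H a, f (a * u) := by
    intro x
    rw [Finset.sum_comm]
    refine Finset.sum_congr rfl fun u _ => ?_
    rw [Finset.sum_eq_single (x⁻¹ * (a * u) * x)]
    · rw [if_pos (by group), one_mul]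
      have := hf (x⁻¹ * (a * u) * x) x
      rw [← this]
      congr 1; group
    · intro g _ hne
      rw [if_neg, zero_mul]
      intro he
      apply hne
      rw [← he]; group
    · intro h; exact absurd (Finset.mem_univ _) h
  calc ∑ g : G, Nn H a g * f g
      = ∑ g : G, ∑ x : G, ∑ u : H a, (if x * g * x⁻¹ = a * u then (1 : ℂ) else 0) * f g := by
        refine Finset.sum_congr rfl fun g _ => ?_
        rw [h1, Finset.sum_mul]
        refine Finset.sum_congr rfl fun x _ => ?_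
        rw [Finset.sum_mul]
    _ = ∑ x : G, ∑ u : H a, f (a * u) := by
        rw [Finset.sum_comm]
        exact Finset.sum_congr rfl fun x _ => h2 x
    _ = (Nat.card G : ℂ) * ∑ u : H a, f (a * u) := by
        rw [Finset.sum_const, nsmul_eq_mul, Finset.card_univ, Nat.card_eq_fintype_card]

/-- summation of a class function against the Dade image -/
theorem dade_sum (hD : DadeHypothesis A L H) {α : L → ℂ} (hα : IsClassFunction L α)
    (hαA : ∀ x : L, (x : G) ∉ A → α x = 0) {f : G → ℂ} (hf : IsClassFunction G f) {ψ : L → ℂ}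
    (hψ : ∀ a : L, (a : G) ∈ A → ψ a = (Nat.card (H a) : ℂ)⁻¹ * ∑ᶠ u ∈ (H a : Set G), f (a * u)) :
    (Nat.card G : ℂ)⁻¹ * ∑ g : G, dadeIsometry A L H α g * f g =
      (Nat.card L : ℂ)⁻¹ * ∑ a : L, α a * ψ a := by
  classical
  have hL : (Nat.card L : ℂ) ≠ 0 := by exact_mod_cast Nat.card_pos.ne'
  have hG : (Nat.card G : ℂ) ≠ 0 := by exact_mod_cast Nat.card_pos.ne'
  have h1 : (Nat.card L : ℂ) * ∑ g : G, dadeIsometry A L H α g * f g =
      (Nat.card G : ℂ) * ∑ a : L, α a * ψ a := by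
    rw [Finset.mul_sum]
    have h2 : ∀ g : G, (Nat.card L : ℂ) * (dadeIsometry A L H α g * f g) =
        ∑ b : L, α b * (Nat.card (H b) : ℂ)⁻¹ * (Nn H (b : G) g * f g) := by
      intro g
      rw [← mul_assoc, dade_formula hD hα hαA, Finset.sum_mul]
      exact Finset.sum_congr rfl fun b _ => by ring
    rw [Finset.sum_congr rfl (fun g _ => h2 g), Finset.sum_comm, Finset.mul_sum]
    refine Finset.sum_congr rfl fun b _ => ?_
    rw [← Finset.mul_sum]
    by_cases hbA : (b : G) ∈ A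
    · haveI : Fintype (H (b : G)) := Fintype.ofFinite _
      rw [sum_Nn_mul (b : G) hf, hψ b hbA]
      have h3 : ∑ᶠ u ∈ (H (b : G) : Set G), f (b * u) = ∑ u : H (b : G), f (b * u) := by
        rw [← finsum_set_coe_eq_finsum_mem, finsum_eq_sum_of_fintype]
        rfl
      rw [h3]; ring
    · rw [hαA b hbA]; ring
  field_simp
  linear_combination h1

theorem dade_inner (hD : DadeHypothesis A L H) {α : L → ℂ} (hα : IsClassFunction L α)
    (hαA : ∀ x : L, (x : G) ∉ A → α x = 0) {χ : G → ℂ} (hχ : IsClassFunction G χ) {ψ : L → ℂ}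
    (hψ : ∀ a : L, (a : G) ∈ A → ψ a = (Nat.card (H a) : ℂ)⁻¹ * ∑ᶠ u ∈ (H a : Set G), χ (a * u)) :
    classInner (dadeIsometry A L H α) χ = classInner α ψ := by
  classical
  rw [classInner_def, classInner_def]
  refine dade_sum hD hα hαA (f := fun g => conj (χ g)) (ψ := fun a => conj (ψ a))
    (isClassFunction_conj hχ) (fun a ha => ?_)
  show conj (ψ a) = _
  rw [hψ a ha, map_mul, map_inv₀, Complex.conj_natCast]
  congr 1
  haveI : Fintype (H (a : G)) := Fintype.ofFinite _
  have h3 : ∀ f : G → ℂ, ∑ᶠ u ∈ (H (a : G) : Set G), f (a * u) = ∑ u : H (a : G), f (a * u) := by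
    intro f
    rw [← finsum_set_coe_eq_finsum_mem, finsum_eq_sum_of_fintype]
    rfl
  rw [h3 χ, h3 (fun g => conj (χ g)), map_sum]

theorem dade_avg (hD : DadeHypothesis A L H) {β : L → ℂ} (hβ : IsClassFunction L β) {a : L}
    (ha : (a : G) ∈ A) : β a = (Nat.card (H a) : ℂ)⁻¹ *
      ∑ᶠ u ∈ (H a : Set G), dadeIsometry A L H β (a * u) := by
  classical
  haveI : Fintype (H (a : G)) := Fintype.ofFinite _
  have h3 : ∀ f : G → ℂ, ∑ᶠ u ∈ (H (a : G) : Set G), f (a * u) = ∑ u : H (a : G), f (a * u) := by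
    intro f
    rw [← finsum_set_coe_eq_finsum_mem, finsum_eq_sum_of_fintype]
    rfl
  rw [h3, Finset.sum_congr rfl (fun u _ => dade_value hD hβ ha u.2 (x := 1) (by group)),
    Finset.sum_const, nsmul_eq_mul, Finset.card_univ, Nat.card_eq_fintype_card]
  have h0 : (Fintype.card (H (a : G)) : ℂ) ≠ 0 := by
    exact_mod_cast Fintype.card_ne_zero
  field_simp

theorem dade_isom (hD : DadeHypothesis A L H) {α β : L → ℂ} (hα : IsClassFunction L α)
    (hαA : ∀ x : L, (x : G) ∉ A → α x = 0) (hβ : IsClassFunction L β) :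
    classInner (dadeIsometry A L H α) (dadeIsometry A L H β) = classInner α β :=
  dade_inner hD hα hαA (dade_classFun hD hβ) (fun a ha => dade_avg hD hβ ha)

end Dade

end CfsgH4
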