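import Cfsg.Agent.H4.Ab4

set_option autoImplicit false
set_option linter.all false

/-! # The lattice of a block of defect one: algebra -/

open CfsgSub

namespace CfsgDo

section Alg

variable {ι : Type*} [Fintype ι] [DecidableEq ι]

theorem lagrange (F : Finset ι) (a x : ι → ℤ) :
    ∑ i ∈ F, ∑ j ∈ F, (a i * x j - a j * x i) ^ 2 =
      2 * ((∑ i ∈ F, a i ^ 2) * (∑ i ∈ F, x i ^ 2) - (∑ i ∈ F, a i * x i) ^ 2) := by
  have h1 : ∀ i ∈ F, ∑ j ∈ F, (a i * x j - a j * x i) ^ 2 =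
      a i ^ 2 * (∑ j ∈ F, x j ^ 2) + x i ^ 2 * (∑ j ∈ F, a j ^ 2) - 2 * (a i * x i) * ∑ j ∈ F, a j * x j := by
    intro i _
    rw [Finset.mul_sum, Finset.mul_sum, Finset.mul_sum, ← Finset.sum_add_distrib, ← Finset.sum_sub_distrib]
    exact Finset.sum_congr rfl fun j _ => by ring
  rw [Finset.sum_congr rfl h1, Finset.sum_sub_distrib, Finset.sum_add_distrib, ← Finset.sum_mul, ← Finset.sum_mul,
    ← Finset.sum_mul, ← Finset.mul_sum]
  ring

theorem form_eq {A : ι → ι → ℤ} {F O : Finset ι} (hd : Disjoint F O) (hoff : ∀ i j, (i ∉ F ∪ O ∨ j ∉ F ∪ O) → A i j = 0)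
    {a : ι → ℤ} {s g : ℤ} {p t : ℤ} (hFF : ∀ i ∈ F, ∀ j ∈ F, A i j = (if i = j then p else 0) - t * (a i * a j))
    (hFO : ∀ i ∈ F, ∀ j ∈ O, A i j = -(a i * s)) (hOF : ∀ i ∈ O, ∀ j ∈ F, A i j = -(a j * s))
    (hOO : ∀ i ∈ O, ∀ j ∈ O, A i j = g) (hg : g = ∑ i ∈ F, a i ^ 2) (hp : p = t * g + s ^ 2) (x : ι → ℤ) :
    2 * mbil A x x = t * ∑ i ∈ F, ∑ j ∈ F, (a i * x j - a j * x i) ^ 2 +
      2 * ∑ i ∈ F, (s * x i - (∑ j ∈ O, x j) * a i) ^ 2 := by
  have h0 : mbil A x x = ∑ i ∈ F ∪ O, ∑ j ∈ F ∪ O, x i * x j * A i j := by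
    rw [mbil]
    symm
    have h1 : ∀ i : ι, ∑ j ∈ F ∪ O, x i * x j * A i j = ∑ j, x i * x j * A i j := by
      intro i
      apply Finset.sum_subset (Finset.subset_univ _)
      intro j _ hj
      rw [hoff i j (Or.inr hj), mul_zero]
    rw [Finset.sum_congr rfl fun i _ => h1 i]
    apply Finset.sum_subset (Finset.subset_univ _)
    intro i _ hi
    apply Finset.sum_eq_zero
    intro j _
    rw [hoff i j (Or.inl hi), mul_zero]
  obtain ⟨X, hX⟩ : ∃ X, X = ∑ j ∈ O, x j := ⟨_, rfl⟩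
  obtain ⟨Y, hY⟩ : ∃ Y, Y = ∑ i ∈ F, a i * x i := ⟨_, rfl⟩
  obtain ⟨Z, hZ⟩ : ∃ Z, Z = ∑ i ∈ F, x i ^ 2 := ⟨_, rfl⟩
  have e1 : ∑ i ∈ F, ∑ j ∈ F, x i * x j * A i j = p * Z - t * Y ^ 2 := by
    have : ∀ i ∈ F, ∑ j ∈ F, x i * x j * A i j = p * x i ^ 2 - t * (a i * x i) * Y := by
      intro i hi
      have h2 : ∀ j ∈ F, x i * x j * A i j = (if i = j then p * x i ^ 2 else 0) - t * (a i * x i) * (a j * x j) := by
        intro j hj
        rw [hFF i hi j hj]
        split_ifs with h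
        · rw [h]; ring
        · ring
      rw [Finset.sum_congr rfl h2, Finset.sum_sub_distrib, Finset.sum_ite_eq, if_pos hi, ← Finset.mul_sum, ← hY]
    rw [Finset.sum_congr rfl this, Finset.sum_sub_distrib, ← Finset.mul_sum, ← hZ, ← Finset.sum_mul, ← Finset.mul_sum, ← hY]
    ring
  have e2 : ∑ i ∈ F, ∑ j ∈ O, x i * x j * A i j = -(s * X * Y) := by
    have : ∀ i ∈ F, ∑ j ∈ O, x i * x j * A i j = -(s * X) * (a i * x i) := by
      intro i hi
      rw [Finset.sum_congr rfl fun j hj => by rw [hFO i hi j hj], ← Finset.sum_mul, ← Finset.mul_sum, ← hX]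
      ring
    rw [Finset.sum_congr rfl this, ← Finset.mul_sum, ← hY]; ring
  have e3 : ∑ i ∈ O, ∑ j ∈ F, x i * x j * A i j = -(s * X * Y) := by
    rw [Finset.sum_comm]
    have : ∀ j ∈ F, ∑ i ∈ O, x i * x j * A i j = -(s * X) * (a j * x j) := by
      intro j hj
      have h3 : ∀ i ∈ O, x i * x j * A i j = x i * (-(x j * (a j * s))) := by
        intro i hi
        rw [hOF i hi j hj]; ring
      rw [Finset.sum_congr rfl h3, ← Finset.sum_mul, ← hX]
      ring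
    rw [Finset.sum_congr rfl this, ← Finset.mul_sum, ← hY]; ring
  have e4 : ∑ i ∈ O, ∑ j ∈ O, x i * x j * A i j = g * X ^ 2 := by
    have : ∀ i ∈ O, ∑ j ∈ O, x i * x j * A i j = g * X * x i := by
      intro i hi
      rw [Finset.sum_congr rfl fun j hj => by rw [hOO i hi j hj], ← Finset.sum_mul, ← Finset.mul_sum, ← hX]
      ring
    rw [Finset.sum_congr rfl this, ← Finset.mul_sum, ← hX]; ring
  have e5 : ∑ i ∈ F, (s * x i - X * a i) ^ 2 = s ^ 2 * Z - 2 * s * X * Y + X ^ 2 * g := by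
    have : ∀ i ∈ F, (s * x i - X * a i) ^ 2 = s ^ 2 * x i ^ 2 - 2 * s * X * (a i * x i) + X ^ 2 * a i ^ 2 := by
      intro i _; ring
    rw [Finset.sum_congr rfl this, Finset.sum_add_distrib, Finset.sum_sub_distrib, ← Finset.mul_sum, ← Finset.mul_sum,
      ← Finset.mul_sum, ← hZ, ← hY, ← hg]
  rw [h0, Finset.sum_union hd, Finset.sum_congr rfl fun i _ => Finset.sum_union hd, Finset.sum_add_distrib]
  have h6 : ∑ i ∈ O, ∑ j ∈ F ∪ O, x i * x j * A i j = ∑ i ∈ O, ∑ j ∈ F, x i * x j * A i j + ∑ i ∈ O, ∑ j ∈ O, x i * x j * A i j := by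
    rw [← Finset.sum_add_distrib]
    exact Finset.sum_congr rfl fun i _ => Finset.sum_union hd
  rw [h6, e1, e2, e3, e4, lagrange, ← hX, e5, ← hg, ← hZ, ← hY, hp]
  ring

theorem form_bound {A : ι → ι → ℤ} {F O : Finset ι} (hd : Disjoint F O) (hoff : ∀ i j, (i ∉ F ∪ O ∨ j ∉ F ∪ O) → A i j = 0)
    {a : ι → ℤ} {s g : ℤ} {p t : ℤ} (ht : 1 ≤ t) (ha : ∀ i ∈ F, a i ≠ 0) (hs : s ≠ 0)
    (hFF : ∀ i ∈ F, ∀ j ∈ F, A i j = (if i = j then p else 0) - t * (a i * a j))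
    (hFO : ∀ i ∈ F, ∀ j ∈ O, A i j = -(a i * s)) (hOF : ∀ i ∈ O, ∀ j ∈ F, A i j = -(a j * s))
    (hOO : ∀ i ∈ O, ∀ j ∈ O, A i j = g) (hg : g = ∑ i ∈ F, a i ^ 2) (hp : p = t * g + s ^ 2) (x : ι → ℤ)
    (hx : mbil A x x ≠ 0) : (F.card : ℤ) ≤ mbil A x x := by
  have h1 := form_eq hd hoff hFF hFO hOF hOO hg hp x
  obtain ⟨X, hX⟩ : ∃ X, X = ∑ j ∈ O, x j := ⟨_, rfl⟩
  rw [← hX] at h1
  set y : ι → ℤ := fun i => s * x i - X * a i with hy
  set J := F.filter (fun i => y i ≠ 0) with hJ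
  set I := F.filter (fun i => ¬ y i ≠ 0) with hI
  have hcard : J.card + I.card = F.card := Finset.card_filter_add_card_filter_not _
  have hrel : ∀ i j, (a i * x j - a j * x i) * s = a i * y j - a j * y i := by
    intro i j; simp only [hy]; ring
  have hy2 : (J.card : ℤ) ≤ ∑ i ∈ F, (s * x i - X * a i) ^ 2 := by
    calc (J.card : ℤ) = ∑ i ∈ J, (1 : ℤ) := by simp
      _ ≤ ∑ i ∈ J, (s * x i - X * a i) ^ 2 := by
          refine Finset.sum_le_sum fun i hi => ?_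
          have h2 : y i ≠ 0 := (Finset.mem_filter.1 hi).2
          have h3 : 0 < (y i) ^ 2 := by positivity
          exact h3
      _ ≤ _ := Finset.sum_le_sum_of_subset_of_nonneg (Finset.filter_subset _ _) (fun _ _ _ => sq_nonneg _)
  have hne : ∀ i ∈ I, ∀ j ∈ J, 1 ≤ (a i * x j - a j * x i) ^ 2 := by
    intro i hi j hj
    have h2 : y i = 0 := not_not.1 (Finset.mem_filter.1 hi).2
    have h3 : y j ≠ 0 := (Finset.mem_filter.1 hj).2
    have h4 : a i * x j - a j * x i ≠ 0 := by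
      intro h
      have h5 := hrel i j
      rw [h, h2, zero_mul, mul_zero, sub_zero] at h5
      exact (mul_ne_zero (ha i (Finset.mem_filter.1 hi).1) h3) h5.symm
    have h5 : 0 < (a i * x j - a j * x i) ^ 2 := by positivity
    exact h5
  have hIJ : 2 * ((I.card : ℤ) * J.card) ≤ ∑ i ∈ F, ∑ j ∈ F, (a i * x j - a j * x i) ^ 2 := by
    have hsplit : ∑ i ∈ F, ∑ j ∈ F, (a i * x j - a j * x i) ^ 2 =
        ∑ i ∈ J, ∑ j ∈ F, (a i * x j - a j * x i) ^ 2 + ∑ i ∈ I, ∑ j ∈ F, (a i * x j - a j * x i) ^ 2 :=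
      (Finset.sum_filter_add_sum_filter_not F (fun i => y i ≠ 0) _).symm
    have hone : ∀ K L : Finset ι, L ⊆ F → (∀ i ∈ K, ∀ j ∈ L, 1 ≤ (a i * x j - a j * x i) ^ 2) →
        (K.card : ℤ) * L.card ≤ ∑ i ∈ K, ∑ j ∈ F, (a i * x j - a j * x i) ^ 2 := by
      intro K L hL h
      calc (K.card : ℤ) * L.card = ∑ i ∈ K, ∑ j ∈ L, (1 : ℤ) := by simp
        _ ≤ ∑ i ∈ K, ∑ j ∈ L, (a i * x j - a j * x i) ^ 2 :=
            Finset.sum_le_sum fun i hi => Finset.sum_le_sum fun j hj => h i hi j hj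
        _ ≤ _ := Finset.sum_le_sum fun i _ => Finset.sum_le_sum_of_subset_of_nonneg hL (fun _ _ _ => sq_nonneg _)
    have h2 := hone I J (Finset.filter_subset _ _) hne
    have h3 := hone J I (Finset.filter_subset _ _) (fun i hi j hj => by
      have := hne j hj i hi
      have e : (a i * x j - a j * x i) ^ 2 = (a j * x i - a i * x j) ^ 2 := by ring
      rw [e]; exact this)
    rw [hsplit]
    linarith [mul_comm (I.card : ℤ) J.card]
  by_cases hJ0 : J.card = 0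
  · exfalso
    apply hx
    have hall : ∀ i ∈ F, y i = 0 := by
      intro i hi
      by_contra h
      have : i ∈ J := Finset.mem_filter.2 ⟨hi, h⟩
      rw [Finset.card_eq_zero.1 hJ0] at this
      exact absurd this (Finset.notMem_empty _)
    have h2 : ∑ i ∈ F, (s * x i - X * a i) ^ 2 = 0 :=
      Finset.sum_eq_zero fun i hi => by
        have := hall i hi
        simp only [hy] at this
        rw [this]; ring
    have h3 : ∑ i ∈ F, ∑ j ∈ F, (a i * x j - a j * x i) ^ 2 = 0 :=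
      Finset.sum_eq_zero fun i hi => Finset.sum_eq_zero fun j hj => by
        have h4 := hrel i j
        rw [hall i hi, hall j hj, mul_zero, mul_zero, sub_zero] at h4
        have h5 := (mul_eq_zero.1 h4).resolve_right hs
        rw [h5]; ring
    rw [h2, h3] at h1
    linarith
  · have hJ1 : 1 ≤ (J.card : ℤ) := by exact_mod_cast Nat.one_le_iff_ne_zero.2 hJ0
    have hI0 : 0 ≤ (I.card : ℤ) := Int.natCast_nonneg _
    have hF : (F.card : ℤ) = J.card + I.card := by rw [← hcard]; push_cast; ring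
    have h4 : (I.card : ℤ) ≤ (I.card : ℤ) * J.card := by nlinarith
    have h5 : (I.card : ℤ) * J.card ≤ t * ((I.card : ℤ) * J.card) := by nlinarith
    have h6 : t * (2 * ((I.card : ℤ) * J.card)) ≤ t * ∑ i ∈ F, ∑ j ∈ F, (a i * x j - a j * x i) ^ 2 :=
      mul_le_mul_of_nonneg_left hIJ (by linarith)
    linarith

end Alg

end CfsgDo
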