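import Cfsg.Agent.H4.Do1
import Cfsg.Agent.H4.Galois

set_option autoImplicit false
set_option linter.all false

/-! # Defect one: the Galois action and the local functions -/

open Cfsg MonoidAlgebra
open CfsgH4 hiding centralChar sum_conj regInner_symm ev_ca
open CfsgH5 CfsgSub CfsgAb ComplexConjugate

namespace CfsgDo

section Tw

variable {G : Type*} [Group G] [Fintype G] {M : Ideal AlgInt} [hMp : M.IsPrime] {p : ℕ} [hp : Fact p.Prime]

/-- the twist of a character -/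
noncomputable def tw {m : ℕ} (hm : m.Coprime (Nat.card G)) (χ : IrrCharacter G) : IrrCharacter G :=
  ⟨fun g => (χ : G → ℂ) (g ^ m), isIrrCharacter_pow_arg hm χ.2⟩

theorem tw_apply {m : ℕ} (hm : m.Coprime (Nat.card G)) (χ : IrrCharacter G) (g : G) :
    (tw hm χ : G → ℂ) g = (χ : G → ℂ) (g ^ m) := rfl

/-- an exponent fixing the `p`-regular elements -/
def Good (p : ℕ) (G : Type*) [Group G] (m : ℕ) : Prop :=
  m.Coprime (Nat.card G) ∧ ∀ g : G, ¬ p ∣ orderOf g → g ^ m = g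

theorem exists_good_exp (k : ℕ) (hk : ¬ p ∣ k) : ∃ m : ℕ, Good p G m ∧ m ≡ k [MOD p] := by
  obtain ⟨n, hn⟩ : ∃ n, n = ordCompl[p] (Nat.card G) := ⟨_, rfl⟩
  have hn0 : n ≠ 0 := by rw [hn]; exact (Nat.ordCompl_pos p Nat.card_pos.ne').ne'
  have hcop : Nat.Coprime p n := by rw [hn]; exact Nat.coprime_ordCompl hp.out Nat.card_pos.ne'
  obtain ⟨m, hm1, hm2⟩ := Nat.chineseRemainder hcop k 1
  have hmp : ¬ p ∣ m := by
    intro h
    apply hk
    have h1 := (Nat.modEq_zero_iff_dvd.2 h)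
    exact Nat.modEq_zero_iff_dvd.1 (hm1.symm.trans h1)
  refine ⟨m, ⟨?_, ?_⟩, hm1⟩
  · have h1 : Nat.Coprime m n := by
      have h2 : Nat.gcd m n = Nat.gcd 1 n := Nat.ModEq.gcd_eq hm2
      rw [Nat.Coprime, h2, Nat.gcd_one_left]
    have h3 : Nat.Coprime m (p ^ (Nat.card G).factorization p) :=
      Nat.Coprime.pow_right _ ((Nat.Prime.coprime_iff_not_dvd hp.out).2 hmp).symm
    have h4 := Nat.Coprime.mul_right h3 h1
    rwa [hn, Nat.ordProj_mul_ordCompl_eq_self] at h4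
  · intro g hg
    have h1 : orderOf g ∣ n := by
      have h2 : orderOf g ∣ p ^ (Nat.card G).factorization p * n := by
        rw [hn, Nat.ordProj_mul_ordCompl_eq_self]; exact orderOf_dvd_natCard g
      exact (Nat.Coprime.pow_right _ ((Nat.Prime.coprime_iff_not_dvd hp.out).2 hg).symm).dvd_of_dvd_mul_left h2
    conv_rhs => rw [← pow_one g]
    rw [pow_eq_pow_iff_modEq]
    exact hm2.of_dvd h1

theorem Good.pow {m : ℕ} (h : Good p G m) (j : ℕ) : Good p G (m ^ j) := by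
  induction j with
  | zero => exact ⟨by simp, fun g _ => by simp⟩
  | succ j ih =>
    refine ⟨by rw [pow_succ]; exact Nat.Coprime.mul_left ih.1 h.1, fun g hg => ?_⟩
    rw [pow_succ, pow_mul, ih.2 g hg, h.2 g hg]

theorem tw_reg {m : ℕ} (h : Good p G m) (χ : IrrCharacter G) {g : G} (hg : ¬ p ∣ orderOf g) :
    (tw h.1 χ : G → ℂ) g = (χ : G → ℂ) g := by
  rw [tw_apply, h.2 g hg]

theorem regInner_tw {m : ℕ} (h : Good p G m) (χ ψ : IrrCharacter G) :
    regInner p (χ : G → ℂ) (tw h.1 ψ : G → ℂ) = regInner p (χ : G → ℂ) (ψ : G → ℂ) := by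
  rw [regInner, regInner]
  refine Finset.sum_congr rfl fun g _ => ?_
  split_ifs with hg
  · rfl
  · rw [tw_reg h ψ hg]

theorem tw_mem (hM : IsPModular p M) {B : Set (IrrCharacter G)} (hB : IsPBlock M B) {m : ℕ} (h : Good p G m)
    {χ : IrrCharacter G} (hχ : χ ∈ B) : tw h.1 χ ∈ B := by
  by_contra hn
  have h1 := (regInner_zero hM hB hχ hn).1
  rw [regInner_tw h] at h1
  obtain ⟨r, hr1, -, hr⟩ := regInner_self (p := p) χ
  rw [hr] at h1
  have : r = 0 := by exact_mod_cast h1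
  linarith

theorem tw_cA {B : Set (IrrCharacter G)} (hM : IsPModular p M) (hB : IsPBlock M B) {m : ℕ} (h : Good p G m)
    {χ ψ : IrrCharacter G} (hχ : χ ∈ B) (hψ : ψ ∈ B) : cA p B χ (tw h.1 ψ) = cA p B χ ψ := by
  rw [cA, cA, if_pos ⟨hχ, tw_mem hM hB h hψ⟩, if_pos ⟨hχ, hψ⟩, regInner_tw h]

theorem Xf_one_eq {C : Subgroup G} [Fintype C] (u : C) (c : Set (IrrCharacter C)) {χ : G → ℂ} (hχ : IsClassFunction G χ) :
    Xf u c χ 1 = ∑ k : C, blockCoeff c k * χ ((k : G) * u) := by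
  rw [Xf_eq_blockPart, blockPart_eq c (isClassFunction_res hχ C), mul_one]
  rfl

theorem Xf_tw (hM : IsPModular p M) {C : Subgroup G} [Fintype C] {u : C} (hu : u ∈ Subgroup.center C)
    {c : Set (IrrCharacter C)} (hc : IsPBlock M c) {m : ℕ} (h : Good p G m) (χ : IrrCharacter G) :
    Xf u c (tw h.1 χ : G → ℂ) 1 = Xf (u ^ m) c (χ : G → ℂ) 1 := by
  rw [Xf_one_eq u c (IsIrr.isClassFunction (tw h.1 χ).2), Xf_one_eq (u ^ m) c (IsIrr.isClassFunction χ.2)]
  refine Finset.sum_congr rfl fun k _ => ?_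
  by_cases hk : p ∣ orderOf k
  · rw [blockCoeff_singular hM (inS_eSet hc) hk, zero_mul, zero_mul]
  · have h1 : ¬ p ∣ orderOf (k : G) := by rw [Subgroup.orderOf_coe]; exact hk
    have h2 : Commute (k : G) (u : G) := by
      have := Subgroup.mem_center_iff.1 hu k
      exact congrArg Subtype.val this
    rw [tw_apply, h2.mul_pow, h.2 _ h1, Subgroup.coe_pow]

theorem Xf_ev {Q : Subgroup G} [Fintype (cz Q)] (u : cz Q) {c : Set (IrrCharacter (cz Q))} (hc : IsPBlock M c) {χ : G → ℂ}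
    (hχ : IsClassFunction G χ) : Xf u c χ 1 = ev χ (single (u : G) 1 * lb (cz Q) (idH M (cz Q) c)) := by
  rw [lb_idH hc, ev_mul_comm (fun x g => hχ g x), ev_embK_mul, Xf_one_eq u c hχ]
  rfl

theorem Xf_st (hM : IsPModular p M) {a : Subgroup G × MonoidAlgebra (kk M) G} [Fintype (cz a.1)] {c : Set (IrrCharacter (cz a.1))}
    (hc : IsPBlock M c) (hid : idH M (cz a.1) c = a.2) {t : G} (ht : t ∈ st a) {u u' : cz a.1}
    (huu : (u' : G) = t * u * t⁻¹) {χ : G → ℂ} (hχ : IsClassFunction G χ) : Xf u' c χ 1 = Xf u c χ 1 := by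
  rw [Xf_ev u' hc hχ, Xf_ev u hc hχ]
  have h1 : cj t (cz a.1) = cz a.1 := by rw [← cz_cj, cj_eq_of_mem_normalizer ht.1]
  have h2 : IsBl (cz a.1) (idH M (cz a.1) c) := isBl_idH hc
  have h3 := lb_ca h2 t
  have h4 : ca t (idH M (cz a.1) c) = idH M (cz a.1) c := by rw [hid]; exact ht.2
  rw [h1, h4] at h3
  have h5 : (single (t * (u : G) * t⁻¹) (1 : ℂ) : MonoidAlgebra ℂ G) = ca t (single (u : G) 1) := (CfsgH4.ca_single t (u : G) 1).symm
  rw [huu, h5]
  conv_lhs => rw [h3, ← ca_mul, CfsgH4.ev_ca hχ]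

end Tw

end CfsgDo
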