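import Cfsg.Agent.H4.Do2

set_option autoImplicit false
set_option linter.all false

/-! # Defect one: orthogonality and fixed points -/

open Cfsg MonoidAlgebra
open CfsgH4 hiding centralChar sum_conj regInner_symm ev_ca
open CfsgH5 CfsgSub CfsgAb ComplexConjugate

namespace CfsgDo

section Orth

variable {G : Type*} [Group G] [Fintype G] {M : Ideal AlgInt} [hMp : M.IsPrime] {p : ℕ} [hp : Fact p.Prime]

/-- the local function -/
noncomputable def Rf {C : Subgroup G} [Fintype C] (c : Set (IrrCharacter C)) (θ : IrrCharacter C) (u : C) (χ : G → ℂ) : ℂ :=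
  Xf u c χ 1 / (θ : C → ℂ) 1

theorem ctr_Rf (hM : IsPModular p M) {C : Subgroup G} [Fintype C] {c : Set (IrrCharacter C)} (hc : IsPBlock M c) {θ : IrrCharacter C}
    (hθ : IsR1 p c θ) {u : C} (hu : u ∈ Subgroup.center C) (χ ψ : G → ℂ) :
    (p : ℂ) ^ blockDefect p c * ctr p u c χ ψ = Rf c θ u χ * conj (Rf c θ u ψ) := by
  have hreg := hθ.reg hM hc
  have hcC : (Nat.card C : ℂ) ≠ 0 := by exact_mod_cast Nat.card_pos.ne'
  have hY : ∑ s : C, (if p ∣ orderOf s then 0 else Xf u c χ s * conj (Xf u c ψ s)) =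
      Rf c θ u χ * conj (Rf c θ u ψ) * regInner p (θ : C → ℂ) (θ : C → ℂ) := by
    rw [regInner, Finset.mul_sum]
    refine Finset.sum_congr rfl fun s _ => ?_
    split_ifs with h
    · rw [mul_zero]
    · rw [Xf_R1 hu hθ χ h, Xf_R1 hu hθ ψ h, map_mul, Rf, Rf]
      ring
  rw [ctr, hY]
  calc (p : ℂ) ^ blockDefect p c * ((Nat.card C : ℂ)⁻¹ * (Rf c θ u χ * conj (Rf c θ u ψ) * regInner p (θ : C → ℂ) (θ : C → ℂ))) =
      (Nat.card C : ℂ)⁻¹ * ((p : ℂ) ^ blockDefect p c * regInner p (θ : C → ℂ) (θ : C → ℂ)) * (Rf c θ u χ * conj (Rf c θ u ψ)) := by ring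
    _ = _ := by rw [hreg, inv_mul_cancel₀ hcC, one_mul]

/-- the data of a block of prime order defect group -/
structure Dat (hM : IsPModular p M) (B : Set (IrrCharacter G)) (a : Subgroup G × MonoidAlgebra (kk M) G) [Fintype (cz a.1)]
    (c : Set (IrrCharacter (cz a.1))) (θ : IrrCharacter (cz a.1)) : Prop where
  hB : IsPBlock M B
  hmax : MP p ⊤ (idB M B) a
  hab : a.1 ≤ cz a.1
  hfree : FreeA a
  hcp : Nat.card a.1 = p
  hc : IsPBlock M c
  hid : idH M (cz a.1) c = a.2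
  hθ : IsR1 p c θ
  hdc : blockDefect p c = 1

variable {hM : IsPModular p M} {B : Set (IrrCharacter G)} {a : Subgroup G × MonoidAlgebra (kk M) G} [Fintype (cz a.1)]
  {c : Set (IrrCharacter (cz a.1))} {θ : IrrCharacter (cz a.1)}

theorem bq_self {a : Subgroup G × MonoidAlgebra (kk M) G} (hM : IsPModular p M) : bq p a a.1 = a.2 := bq_eq hM (LE.refl a)

theorem Dat.zp (D : Dat hM B a c θ) {v : G} (hv : v ∈ a.1) (hv1 : v ≠ 1) : Subgroup.zpowers v = a.1 := by
  have h1 : Subgroup.zpowers v ≤ a.1 := by rw [Subgroup.zpowers_le]; exact hv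
  have h2 : Nat.card (Subgroup.zpowers v) ∣ p := by rw [← D.hcp]; exact Subgroup.card_dvd_of_le h1
  rcases (Nat.dvd_prime hp.out).1 h2 with h | h
  · exact absurd (Subgroup.zpowers_eq_bot.1 (Subgroup.card_eq_one.1 h)) hv1
  · exact Subgroup.eq_of_le_of_card_ge h1 (by rw [h, D.hcp])

theorem Dat.cen (D : Dat hM B a c θ) {u : cz a.1} (hu : (u : G) ∈ a.1) : u ∈ Subgroup.center (cz a.1) := by
  rw [Subgroup.mem_center_iff]
  intro g
  apply Subtype.ext
  exact (Subgroup.mem_centralizer_iff.1 g.2 u hu).symm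

theorem Tm_ctr (hM : IsPModular p M) {a : Subgroup G × MonoidAlgebra (kk M) G} {Q : Subgroup G} {v : G}
    (hQ : Subgroup.zpowers v = Q) [Fintype (cz Q)] {c : Set (IrrCharacter (cz Q))} (hc : IsPBlock M c)
    (hid : idH M (cz Q) c = bq p a Q) {u : cz Q} (hu : (u : G) = v) (χ ψ : IrrCharacter G) :
    Tm p a v (χ : G → ℂ) (ψ : G → ℂ) = ctr p u c (χ : G → ℂ) (ψ : G → ℂ) := by
  subst hQ
  have : u = uc v := Subtype.ext hu
  rw [this]
  exact Tm_eq_ctr hM hc hid χ ψ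

/-- the inclusion of the defect group -/
def Dat.ic (D : Dat hM B a c θ) (v : a.1) : cz a.1 := ⟨v, D.hab v.2⟩

theorem Dat.ind (D : Dat hM B a c θ) : IsInducedBlock M (cz a.1) c B := by
  have hap : IsPGroup p a.1 := D.hmax.1.1
  rw [ind_iff hM hap D.hab le_rfl (cz_le_nz a.1) D.hc D.hB, D.hid]
  exact D.hmax.1.2.2.2.2

theorem Dat.cze (D : Dat hM B a c θ) {v : G} (hv : v ∈ a.1) (hv1 : v ≠ 1) :
    cz a.1 = Subgroup.centralizer ({v} : Set G) := by
  rw [← cz_zpowers_eq, D.zp hv hv1]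

theorem Dat.pord (D : Dat hM B a c θ) (v : a.1) : ∃ k, orderOf (v : G) = p ^ k := by
  have hap : IsPGroup p a.1 := D.hmax.1.1
  obtain ⟨k, hk⟩ := IsPGroup.iff_orderOf.1 hap v
  exact ⟨k, by rw [← hk, Subgroup.orderOf_coe]⟩

theorem Dat.Rf_off (D : Dat hM B a c θ) {v : a.1} (hv1 : (v : G) ≠ 1) {χ : IrrCharacter G} (hχ : χ ∉ B) :
    Rf c θ (D.ic v) (χ : G → ℂ) = 0 := by
  rw [Rf, Xf_zero (u := D.ic v) hM (D.cze v.2 hv1) (D.pord v) D.ind hχ (not_dvd_orderOf_one), zero_div]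

theorem Dat.row (D : Dat hM B a c θ) [Fintype a.1] {χ ψ : IrrCharacter G} (hχ : χ ∈ B) (hψ : ψ ∈ B) :
    ((cz a.1).relIndex (st a) : ℂ) * ((p : ℂ) * classInner (χ : G → ℂ) (ψ : G → ℂ)) =
      ((cz a.1).relIndex (st a) : ℂ) * ((p : ℂ) / (Nat.card G : ℂ) * regInner p (χ : G → ℂ) (ψ : G → ℂ)) +
      ∑ v : a.1, (open Classical in if (v : G) = 1 then 0 else Rf c θ (D.ic v) (χ : G → ℂ) * conj (Rf c θ (D.ic v) (ψ : G → ℂ))) := by
  classical
  have h1 := free_row' hM D.hB D.hmax D.hab D.hfree hχ hψ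
  have h2 : ∀ v : a.1, (if (v : G) = 1 then 0 else Rf c θ (D.ic v) (χ : G → ℂ) * conj (Rf c θ (D.ic v) (ψ : G → ℂ))) =
      (p : ℂ) * (if (v : G) = 1 then 0 else Tm p a (v : G) (χ : G → ℂ) (ψ : G → ℂ)) := by
    intro v
    split_ifs with hv
    · rw [mul_zero]
    · rw [Tm_ctr hM (D.zp v.2 hv) D.hc (by rw [D.hid, bq_self hM]) (u := D.ic v) rfl, ← ctr_Rf hM D.hc D.hθ (D.cen v.2), D.hdc, pow_one]
  rw [Finset.sum_congr rfl fun v _ => h2 v, ← Finset.mul_sum]
  calc _ = (p : ℂ) * (((cz a.1).relIndex (st a) : ℂ) * classInner (χ : G → ℂ) (ψ : G → ℂ)) := by ring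
    _ = _ := by
      rw [h1, mul_add]
      congr 1
      ring

theorem Dat.nrm (D : Dat hM B a c θ) {v : a.1} (hv1 : (v : G) ≠ 1) :
    ∑ χ : IrrCharacter G, Rf c θ (D.ic v) (χ : G → ℂ) * conj (Rf c θ (D.ic v) (χ : G → ℂ)) = p := by
  have h1 := ctr_trace (u := D.ic v) hM (D.cze v.2 hv1) (D.pord v) D.hc
  rw [D.hθ.rank, Nat.cast_one] at h1
  calc _ = ∑ χ : IrrCharacter G, (p : ℂ) * ctr p (D.ic v) c (χ : G → ℂ) (χ : G → ℂ) := by
        refine Finset.sum_congr rfl fun χ _ => ?_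
        rw [← ctr_Rf hM D.hc D.hθ (D.cen v.2), D.hdc, pow_one]
    _ = _ := by rw [← Finset.mul_sum, h1, mul_one]

theorem Dat.conj_eq (D : Dat hM B a c θ) {v w : a.1} {t : G} (ht : t ∈ st a) (hw : (w : G) = t * v * t⁻¹) (χ : IrrCharacter G) :
    Rf c θ (D.ic w) (χ : G → ℂ) = Rf c θ (D.ic v) (χ : G → ℂ) := by
  rw [Rf, Rf, Xf_st hM D.hc D.hid ht (u := D.ic v) (u' := D.ic w) hw (IsIrr.isClassFunction χ.2)]

/-- orthogonality off the orbits -/
theorem Dat.orth (D : Dat hM B a c θ) {v w : a.1} (hv1 : (v : G) ≠ 1) (hw1 : (w : G) ≠ 1)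
    (hno : ¬ ∃ t ∈ st a, (w : G) = t * v * t⁻¹) :
    ∑ χ : IrrCharacter G, Rf c θ (D.ic w) (χ : G → ℂ) * conj (Rf c θ (D.ic v) (χ : G → ℂ)) = 0 := by
  classical
  haveI : Fintype a.1 := Fintype.ofFinite _
  set e := (cz a.1).relIndex (st a) with he
  have hcG : (Nat.card G : ℂ) ≠ 0 := by exact_mod_cast Nat.card_pos.ne'
  have hp0 : (0 : ℝ) < p := by exact_mod_cast hp.out.pos
  set R : IrrCharacter G → ℂ := fun χ => Rf c θ (D.ic v) (χ : G → ℂ) with hR
  set S : a.1 → ℂ := fun w => ∑ χ : IrrCharacter G, Rf c θ (D.ic w) (χ : G → ℂ) * conj (R χ) with hS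
  have hRoff : ∀ χ, χ ∉ B → R χ = 0 := fun χ hχ => D.Rf_off hv1 hχ
  -- the sum of the row relations
  have hkey : ∀ χ ψ : IrrCharacter G, (e : ℂ) * ((p : ℂ) * classInner (χ : G → ℂ) (ψ : G → ℂ)) * (conj (R χ) * R ψ) =
      ((e : ℂ) * ((p : ℂ) / (Nat.card G : ℂ) * regInner p (χ : G → ℂ) (ψ : G → ℂ))) * (conj (R χ) * R ψ) +
      ∑ w : a.1, (if (w : G) = 1 then 0 else (Rf c θ (D.ic w) (χ : G → ℂ) * conj (R χ)) *
        conj (Rf c θ (D.ic w) (ψ : G → ℂ) * conj (R ψ))) := by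
    intro χ ψ
    by_cases hχ : χ ∈ B
    · by_cases hψ : ψ ∈ B
      · rw [D.row hχ hψ, add_mul, Finset.sum_mul]
        congr 1
        refine Finset.sum_congr rfl fun w _ => ?_
        split_ifs
        · rw [zero_mul]
        · simp only [map_mul, Complex.conj_conj]; ring
      · rw [hRoff ψ hψ]; simp
    · rw [hRoff χ hχ]; simp
  have hsum : (e : ℂ) * (p : ℂ) * ∑ χ : IrrCharacter G, R χ * conj (R χ) =
      (e : ℂ) * ((p : ℂ) / (Nat.card G : ℂ)) * (∑ g : G, if p ∣ orderOf g then (0 : ℂ) else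
        ((Complex.normSq (∑ χ : IrrCharacter G, (χ : G → ℂ) g * conj (R χ)) : ℝ) : ℂ)) +
      ∑ w : a.1, (if (w : G) = 1 then (0 : ℂ) else ((Complex.normSq (S w) : ℝ) : ℂ)) := by
    have h1 : ∑ χ : IrrCharacter G, ∑ ψ : IrrCharacter G, (e : ℂ) * ((p : ℂ) * classInner (χ : G → ℂ) (ψ : G → ℂ)) * (conj (R χ) * R ψ) =
        (e : ℂ) * (p : ℂ) * ∑ χ : IrrCharacter G, R χ * conj (R χ) := by
      rw [Finset.mul_sum]
      refine Finset.sum_congr rfl fun χ _ => ?_
      rw [Finset.sum_eq_single χ]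
      · rw [classInner_irr_self χ.2]; ring
      · intro ψ _ hne
        rw [classInner_irr', if_neg (Ne.symm hne)]; ring
      · intro h; exact absurd (Finset.mem_univ _) h
    have h2 : ∑ χ : IrrCharacter G, ∑ ψ : IrrCharacter G, ((e : ℂ) * ((p : ℂ) / (Nat.card G : ℂ) * regInner p (χ : G → ℂ) (ψ : G → ℂ))) * (conj (R χ) * R ψ) =
        (e : ℂ) * ((p : ℂ) / (Nat.card G : ℂ)) * (∑ g : G, if p ∣ orderOf g then (0 : ℂ) else
        ((Complex.normSq (∑ χ : IrrCharacter G, (χ : G → ℂ) g * conj (R χ)) : ℝ) : ℂ)) := by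
      have h3 : ∀ g : G, ((Complex.normSq (∑ χ : IrrCharacter G, (χ : G → ℂ) g * conj (R χ)) : ℝ) : ℂ) =
          ∑ χ : IrrCharacter G, ∑ ψ : IrrCharacter G, (χ : G → ℂ) g * conj ((ψ : G → ℂ) g) * (conj (R χ) * R ψ) := by
        intro g
        rw [Complex.normSq_eq_conj_mul_self, mul_comm, Finset.sum_mul]
        refine Finset.sum_congr rfl fun χ _ => ?_
        rw [map_sum, Finset.mul_sum]
        refine Finset.sum_congr rfl fun ψ _ => ?_
        simp only [map_mul, Complex.conj_conj]; ring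
      rw [Finset.mul_sum]
      have h4 : ∀ g : G, (e : ℂ) * ((p : ℂ) / (Nat.card G : ℂ)) * (if p ∣ orderOf g then (0 : ℂ) else
        ((Complex.normSq (∑ χ : IrrCharacter G, (χ : G → ℂ) g * conj (R χ)) : ℝ) : ℂ)) =
          ∑ χ : IrrCharacter G, ∑ ψ : IrrCharacter G, (e : ℂ) * ((p : ℂ) / (Nat.card G : ℂ)) *
            ((if p ∣ orderOf g then 0 else (χ : G → ℂ) g * conj ((ψ : G → ℂ) g)) * (conj (R χ) * R ψ)) := by
        intro g
        split_ifs
        · simp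
        · rw [h3, Finset.mul_sum]
          refine Finset.sum_congr rfl fun χ _ => ?_
          rw [Finset.mul_sum]
      rw [Finset.sum_congr rfl fun g _ => h4 g]
      symm
      rw [Finset.sum_comm]
      refine Finset.sum_congr rfl fun χ _ => ?_
      rw [Finset.sum_comm]
      refine Finset.sum_congr rfl fun ψ _ => ?_
      rw [regInner, ← Finset.mul_sum, ← Finset.sum_mul]
      ring
    have h5 : ∑ χ : IrrCharacter G, ∑ ψ : IrrCharacter G, ∑ w : a.1, (if (w : G) = 1 then 0 else (Rf c θ (D.ic w) (χ : G → ℂ) * conj (R χ)) *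
        conj (Rf c θ (D.ic w) (ψ : G → ℂ) * conj (R ψ))) = ∑ w : a.1, (if (w : G) = 1 then (0 : ℂ) else ((Complex.normSq (S w) : ℝ) : ℂ)) := by
      have h6 : ∀ w : a.1, (if (w : G) = 1 then (0 : ℂ) else ((Complex.normSq (S w) : ℝ) : ℂ)) =
          ∑ χ : IrrCharacter G, ∑ ψ : IrrCharacter G, (if (w : G) = 1 then 0 else (Rf c θ (D.ic w) (χ : G → ℂ) * conj (R χ)) *
        conj (Rf c θ (D.ic w) (ψ : G → ℂ) * conj (R ψ))) := by
        intro w
        split_ifs
        · simp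
        · rw [Complex.normSq_eq_conj_mul_self, mul_comm, hS]
          simp only
          rw [Finset.sum_mul]
          refine Finset.sum_congr rfl fun χ _ => ?_
          rw [map_sum, Finset.mul_sum]
      rw [Finset.sum_congr rfl fun w _ => h6 w]
      symm
      rw [Finset.sum_comm]
      refine Finset.sum_congr rfl fun χ _ => ?_
      rw [Finset.sum_comm]
    rw [← h1, ← h2, ← h5, ← Finset.sum_add_distrib]
    refine Finset.sum_congr rfl fun χ _ => ?_
    rw [← Finset.sum_add_distrib]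
    exact Finset.sum_congr rfl fun ψ _ => hkey χ ψ
  rw [D.nrm hv1] at hsum
  have hreal : (e : ℝ) * p * p = (e : ℝ) * ((p : ℝ) / (Nat.card G : ℝ)) * (∑ g : G, if p ∣ orderOf g then (0 : ℝ) else
        Complex.normSq (∑ χ : IrrCharacter G, (χ : G → ℂ) g * conj (R χ))) +
      ∑ w : a.1, (if (w : G) = 1 then (0 : ℝ) else Complex.normSq (S w)) := by
    have h1 : (((e : ℝ) * p * p : ℝ) : ℂ) = (((e : ℝ) * ((p : ℝ) / (Nat.card G : ℝ)) * (∑ g : G, if p ∣ orderOf g then (0 : ℝ) else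
        Complex.normSq (∑ χ : IrrCharacter G, (χ : G → ℂ) g * conj (R χ))) +
      ∑ w : a.1, (if (w : G) = 1 then (0 : ℝ) else Complex.normSq (S w)) : ℝ) : ℂ) := by
      push_cast
      rw [hsum]
      congr 1
      · congr 1
        refine Finset.sum_congr rfl fun g _ => ?_
        split_ifs <;> simp
      · refine Finset.sum_congr rfl fun w _ => ?_
        split_ifs <;> simp
    exact_mod_cast h1
  have hnn : 0 ≤ (e : ℝ) * ((p : ℝ) / (Nat.card G : ℝ)) * (∑ g : G, if p ∣ orderOf g then (0 : ℝ) else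
        Complex.normSq (∑ χ : IrrCharacter G, (χ : G → ℂ) g * conj (R χ))) := by
    apply mul_nonneg (by positivity)
    exact Finset.sum_nonneg fun g _ => by split_ifs <;> [exact le_rfl; exact Complex.normSq_nonneg _]
  -- the orbit
  set O : Finset a.1 := Finset.univ.filter (fun w : a.1 => ∃ t ∈ st a, (w : G) = t * v * t⁻¹) with hO
  have hOcard : O.card = e := by
    rw [hO, he, ← card_orbit D.hfree v.2 hv1, Nat.card_eq_fintype_card, Fintype.card_subtype]
  have hOne : ∀ w ∈ O, (w : G) ≠ 1 := by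
    intro w hw h
    obtain ⟨t, ht, h2⟩ := (Finset.mem_filter.1 hw).2
    rw [h] at h2
    apply hv1
    have h3 : (v : G) = t⁻¹ * (t * v * t⁻¹) * t := by group
    rw [h3, ← h2]; group
  have hOS : ∀ w ∈ O, Complex.normSq (S w) = (p : ℝ) * p := by
    intro w hw
    obtain ⟨t, ht, h2⟩ := (Finset.mem_filter.1 hw).2
    have h3 : S w = p := by
      rw [← D.nrm hv1]
      exact Finset.sum_congr rfl fun χ _ => by rw [D.conj_eq ht h2]
    rw [h3, Complex.normSq_natCast]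
  have hwO : w ∉ O := fun h => hno (Finset.mem_filter.1 h).2
  have hle : ∑ x ∈ insert w O, (if (x : G) = 1 then (0 : ℝ) else Complex.normSq (S x)) ≤
      ∑ x : a.1, (if (x : G) = 1 then (0 : ℝ) else Complex.normSq (S x)) :=
    Finset.sum_le_sum_of_subset_of_nonneg (Finset.subset_univ _) fun x _ _ => by
      split_ifs <;> [exact le_rfl; exact Complex.normSq_nonneg _]
  rw [Finset.sum_insert hwO, if_neg hw1, Finset.sum_congr rfl (fun x hx => by rw [if_neg (hOne x hx), hOS x hx]),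
    Finset.sum_const, hOcard, nsmul_eq_mul] at hle
  have hzero : Complex.normSq (S w) ≤ 0 := by nlinarith
  have h5 : Complex.normSq (S w) = 0 := le_antisymm hzero (Complex.normSq_nonneg _)
  exact Complex.normSq_eq_zero.1 h5

end Orth

end CfsgDo
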