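import Cfsg.Agent.H4.Do3

set_option autoImplicit false
set_option linter.all false

/-! # Defect one: fixed points of the Galois action -/

open Cfsg MonoidAlgebra
open CfsgH4 hiding centralChar sum_conj regInner_symm ev_ca
open CfsgH5 CfsgSub CfsgAb ComplexConjugate

namespace CfsgDo

section Fix

variable {G : Type*} [Group G] [Fintype G] {M : Ideal AlgInt} [hMp : M.IsPrime] {p : ℕ} [hp : Fact p.Prime]
variable {hM : IsPModular p M} {B : Set (IrrCharacter G)} {a : Subgroup G × MonoidAlgebra (kk M) G} [Fintype (cz a.1)]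
  {c : Set (IrrCharacter (cz a.1))} {θ : IrrCharacter (cz a.1)}

theorem Dat.Rf_tw (D : Dat hM B a c θ) {m : ℕ} (h : Good p G m) (v : a.1) (χ : IrrCharacter G) :
    Rf c θ (D.ic v) (tw h.1 χ : G → ℂ) = Rf c θ (D.ic (v ^ m)) (χ : G → ℂ) := by
  rw [Rf, Rf, Xf_tw hM (D.cen v.2) D.hc h]
  rfl

theorem Dat.pow_ne (D : Dat hM B a c θ) {k : ℕ} (hk : ¬ p ∣ k) {v : a.1} (hv1 : (v : G) ≠ 1) : ((v ^ k : a.1) : G) ≠ 1 := by
  intro h
  rw [Subgroup.coe_pow] at h
  have h1 : orderOf (v : G) = p := by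
    rw [← Nat.card_zpowers, D.zp v.2 hv1, D.hcp]
  have h2 := orderOf_dvd_of_pow_eq_one h
  rw [h1] at h2
  exact hk h2

theorem Good.not_dvd (hpG : p ∣ Nat.card G) {m : ℕ} (h : Good p G m) : ¬ p ∣ m := by
  intro hd
  have h1 := h.1
  have := Nat.eq_one_of_dvd_coprimes h1 hd hpG
  exact hp.out.one_lt.ne' this

theorem Dat.pG (D : Dat hM B a c θ) : p ∣ Nat.card G := by
  conv_lhs => rw [← D.hcp]
  exact Subgroup.card_subgroup_dvd_card a.1

theorem Dat.hd (D : Dat hM B a c θ) : blockDefect p B = 1 := by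
  have h1 := card_mp hM D.hB D.hmax
  rw [D.hcp] at h1
  have h2 : p ^ 1 = p ^ blockDefect p B := by rw [pow_one]; exact h1
  exact (Nat.pow_right_injective hp.out.two_le h2).symm

theorem Dat.count (D : Dat hM B a c θ) :
    (cz a.1).relIndex (st a) * Nat.card B = (cz a.1).relIndex (st a) * blockRank p B + (p - 1) := by
  have := free_count hM D.hB D.hmax D.hab D.hfree
  rwa [D.hcp] at this

theorem Dat.e_pos (D : Dat hM B a c θ) : 0 < (cz a.1).relIndex (st a) :=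
  Nat.pos_of_ne_zero Subgroup.index_ne_zero_of_finite

theorem Dat.row' (D : Dat hM B a c θ) [Fintype a.1] {χ ψ : IrrCharacter G} (hχ : χ ∈ B) (hψ : ψ ∈ B) :
    ((cz a.1).relIndex (st a) : ℂ) * ((p : ℂ) * classInner (χ : G → ℂ) (ψ : G → ℂ)) =
      ((cz a.1).relIndex (st a) : ℂ) * (cA p B χ ψ : ℂ) +
      ∑ v : a.1, (open Classical in if (v : G) = 1 then 0 else Rf c θ (D.ic v) (χ : G → ℂ) * conj (Rf c θ (D.ic v) (ψ : G → ℂ))) := by
  rw [D.row hχ hψ]
  congr 2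
  have h1 := cA_spec hM D.hB hχ hψ
  have hcG : (Nat.card G : ℂ) ≠ 0 := by exact_mod_cast Nat.card_pos.ne'
  rw [D.hd, pow_one] at h1
  rw [div_mul_eq_mul_div, h1, mul_div_cancel_left₀ _ hcG]

/-- the number of fixed points -/
theorem Dat.fix_count (D : Dat hM B a c θ) {m : ℕ} (h : Good p G m)
    (hno : ∀ v : a.1, (v : G) ≠ 1 → ¬ ∃ t ∈ st a, ((v ^ m : a.1) : G) = t * v * t⁻¹) :
    Nat.card {χ : IrrCharacter G // χ ∈ B ∧ tw h.1 χ = χ} = blockRank p B := by
  classical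
  haveI : Fintype a.1 := Fintype.ofFinite _
  set e := (cz a.1).relIndex (st a) with he
  have hpm := h.not_dvd D.pG
  have hcG : (Nat.card G : ℂ) ≠ 0 := by exact_mod_cast Nat.card_pos.ne'
  have hp0 : (p : ℂ) ≠ 0 := by exact_mod_cast hp.out.ne_zero
  have he0 : (e : ℂ) ≠ 0 := by exact_mod_cast D.e_pos.ne'
  have h1 : ∀ χ : IrrCharacter G, (if χ ∈ B then (e : ℂ) * ((p : ℂ) * classInner (χ : G → ℂ) (tw h.1 χ : G → ℂ)) else 0) =
      (e : ℂ) * ((p : ℂ) / (Nat.card G : ℂ)) * (if χ ∈ B then regInner p (χ : G → ℂ) (χ : G → ℂ) else 0) +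
      ∑ v : a.1, (if (v : G) = 1 then 0 else Rf c θ (D.ic v) (χ : G → ℂ) * conj (Rf c θ (D.ic (v ^ m)) (χ : G → ℂ))) := by
    intro χ
    by_cases hχ : χ ∈ B
    · rw [if_pos hχ, if_pos hχ, D.row hχ (tw_mem hM D.hB h hχ), regInner_tw h, ← mul_assoc (e : ℂ)]
      congr 1
      refine Finset.sum_congr rfl fun v _ => ?_
      split_ifs
      · rfl
      · rw [D.Rf_tw h]
    · rw [if_neg hχ, if_neg hχ, mul_zero, zero_add]
      symm
      apply Finset.sum_eq_zero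
      intro v _
      split_ifs with hv
      · rfl
      · rw [D.Rf_off hv hχ, zero_mul]
  have h2 : ∑ χ : IrrCharacter G, (if χ ∈ B then (e : ℂ) * ((p : ℂ) * classInner (χ : G → ℂ) (tw h.1 χ : G → ℂ)) else 0) =
      (e : ℂ) * (p : ℂ) * blockRank p B := by
    rw [Finset.sum_congr rfl fun χ _ => h1 χ, Finset.sum_add_distrib, ← Finset.mul_sum, ← card_mul_blockRank hM D.hB,
      Finset.sum_comm]
    have h3 : ∑ v : a.1, ∑ χ : IrrCharacter G, (if (v : G) = 1 then 0 else Rf c θ (D.ic v) (χ : G → ℂ) * conj (Rf c θ (D.ic (v ^ m)) (χ : G → ℂ))) = 0 := by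
      apply Finset.sum_eq_zero
      intro v _
      by_cases hv : (v : G) = 1
      · simp [hv]
      · simp only [if_neg hv]
        apply D.orth (D.pow_ne hpm hv) hv
        rintro ⟨t, ht, h4⟩
        apply hno v hv
        exact ⟨t⁻¹, (st a).inv_mem ht, by rw [h4]; group⟩
    rw [h3, add_zero]
    field_simp
  have h4 : ∀ χ : IrrCharacter G, (if χ ∈ B then (e : ℂ) * ((p : ℂ) * classInner (χ : G → ℂ) (tw h.1 χ : G → ℂ)) else 0) =
      (e : ℂ) * (p : ℂ) * (if χ ∈ B ∧ tw h.1 χ = χ then 1 else 0) := by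
    intro χ
    by_cases hχ : χ ∈ B
    · rw [if_pos hχ, classInner_irr']
      by_cases h5 : χ = tw h.1 χ
      · rw [if_pos h5, if_pos ⟨hχ, h5.symm⟩]; ring
      · rw [if_neg h5, if_neg (fun h6 => h5 h6.2.symm)]; ring
    · rw [if_neg hχ, if_neg (fun h6 => hχ h6.1), mul_zero]
  rw [Finset.sum_congr rfl fun χ _ => h4 χ, ← Finset.mul_sum, Finset.sum_boole] at h2
  have h5 := mul_left_cancel₀ (mul_ne_zero he0 hp0) h2
  rw [Nat.card_eq_fintype_card, Fintype.card_subtype]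
  exact_mod_cast h5

/-- not in the orbit -/
theorem Dat.not_orbit (D : Dat hM B a c θ) {m : ℕ} (hm : ¬ m ^ ((cz a.1).relIndex (st a)) ≡ 1 [MOD p]) (v : a.1)
    (hv1 : (v : G) ≠ 1) : ¬ ∃ t ∈ st a, ((v ^ m : a.1) : G) = t * v * t⁻¹ := by
  rintro ⟨t, ht, h⟩
  apply hm
  haveI : ((cz a.1).subgroupOf (st a)).Normal := by
    refine ⟨fun n hn g => ?_⟩
    rw [Subgroup.mem_subgroupOf] at hn ⊢
    have h3 : (g : G) ∈ nz a.1 := g.2.1
    have h4 := nz_le_nz_cz a.1 h3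
    exact (Subgroup.mem_normalizer_iff.1 h4 _).1 hn
  have h3 := Subgroup.pow_index_mem ((cz a.1).subgroupOf (st a)) (⟨t, ht⟩ : st a)
  have h4 : t ^ (cz a.1).relIndex (st a) ∈ cz a.1 := Subgroup.mem_subgroupOf.1 h3
  have h5 : ∀ r : ℕ, t ^ r * v * (t ^ r)⁻¹ = (v : G) ^ (m ^ r) := by
    intro r
    induction r with
    | zero => simp
    | succ r ih =>
      have h6 : t ^ (r + 1) * v * (t ^ (r + 1))⁻¹ = t ^ r * (t * v * t⁻¹) * (t ^ r)⁻¹ := by
        rw [pow_succ]; group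
      rw [h6, ← h, Subgroup.coe_pow, ← conj_pow, ih, ← pow_mul, pow_succ]
  have h7 := h5 ((cz a.1).relIndex (st a))
  have h8 : (v : G) * t ^ (cz a.1).relIndex (st a) = t ^ (cz a.1).relIndex (st a) * v :=
    Subgroup.mem_centralizer_iff.1 h4 v v.2
  rw [← h8, mul_inv_cancel_right] at h7
  have h9 : (v : G) ^ 1 = (v : G) ^ (m ^ (cz a.1).relIndex (st a)) := by rw [pow_one]; exact h7
  have h10 : orderOf (v : G) = p := by rw [← Nat.card_zpowers, D.zp v.2 hv1, D.hcp]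
  rw [pow_eq_pow_iff_modEq, h10] at h9
  exact h9.symm

/-- all elements of the defect group are powers of any nontrivial one -/
theorem Dat.pow_surj (D : Dat hM B a c θ) {v : a.1} (hv1 : (v : G) ≠ 1) (w : a.1) : ∃ k : ℕ, w = v ^ k := by
  have h1 : (w : G) ∈ Subgroup.zpowers (v : G) := by rw [D.zp v.2 hv1]; exact w.2
  obtain ⟨k, hk⟩ := (Submonoid.mem_powers_iff _ _).1 ((mem_powers_iff_mem_zpowers).2 h1)
  exact ⟨k, Subtype.ext (by rw [Subgroup.coe_pow, hk])⟩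

end Fix

end CfsgDo
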