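import Cfsg.Agent.H4.Do4
import Cfsg.Agent.H5.Major4

set_option autoImplicit false
set_option linter.all false

/-! # Defect one: the structure of the contribution lattice -/

open Cfsg MonoidAlgebra
open CfsgH4 hiding centralChar sum_conj regInner_symm ev_ca
open CfsgH5 CfsgSub CfsgAb ComplexConjugate

namespace CfsgDo

section Core

variable {G : Type*} [Group G] [Fintype G] {M : Ideal AlgInt} [hMp : M.IsPrime] {p : ℕ} [hp : Fact p.Prime]
variable {hM : IsPModular p M} {B : Set (IrrCharacter G)} {a : Subgroup G × MonoidAlgebra (kk M) G} [Fintype (cz a.1)]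
  {c : Set (IrrCharacter (cz a.1))} {θ : IrrCharacter (cz a.1)}

theorem int_of_mul {α : ℂ} (h : IsIntegral ℤ α) {n N : ℤ} (hn : n ≠ 0) (hN : (n : ℂ) * α = N) : ∃ m : ℤ, α = m := by
  have hn' : (n : ℂ) ≠ 0 := by exact_mod_cast hn
  have h1 : α = algebraMap ℚ ℂ ((N : ℚ) / n) := by
    rw [eq_ratCast]
    push_cast
    rw [eq_div_iff hn', mul_comm]; exact hN
  rw [h1, isIntegral_algebraMap_iff (algebraMap ℚ ℂ).injective, IsIntegrallyClosed.isIntegral_iff] at h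
  obtain ⟨y, hy⟩ := h
  refine ⟨y, ?_⟩
  rw [h1, ← hy, eq_ratCast]
  simp

theorem Dat.rat_int (D : Dat hM B a c θ) {v : a.1} {χ : IrrCharacter G}
    (hrat : ∀ k : ℕ, ¬ p ∣ k → Rf c θ (D.ic (v ^ k)) (χ : G → ℂ) = Rf c θ (D.ic v) (χ : G → ℂ)) :
    ∃ n : ℤ, Rf c θ (D.ic v) (χ : G → ℂ) = n := by
  classical
  have hu := D.cen (u := D.ic v) v.2
  have hθ1 : (θ : cz a.1 → ℂ) 1 ≠ 0 := IsIrr.one_ne_zero θ.2
  have hd : ∀ ζ : IrrCharacter (cz a.1), ∃ d : ℕ, ζ ∈ c → (ζ : cz a.1 → ℂ) 1 = d * (θ : cz a.1 → ℂ) 1 := by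
    intro ζ
    by_cases hζ : ζ ∈ c
    · obtain ⟨d, hd⟩ := D.hθ.2 ζ hζ
      exact ⟨d, fun _ => hd 1 not_dvd_orderOf_one⟩
    · exact ⟨0, fun h => absurd h hζ⟩
  choose d hd using hd
  have hform : ∀ k : ℕ, Rf c θ (D.ic (v ^ k)) (χ : G → ℂ) =
      ∑ ζ : IrrCharacter (cz a.1), if ζ ∈ c then ((mz (cz a.1) (χ : G → ℂ) ζ * d ζ : ℤ) : ℂ) * wt (D.ic v) ζ ^ k else 0 := by
    intro k
    have h1 : D.ic (v ^ k) = (D.ic v) ^ k := rfl
    rw [Rf, h1, Xf_wt ((Subgroup.center (cz a.1)).pow_mem hu k), Finset.sum_div]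
    refine Finset.sum_congr rfl fun ζ _ => ?_
    split_ifs with hζ
    · rw [hd ζ hζ, CfsgH5.wt_pow hu, mz_spec]
      push_cast
      field_simp
    · rw [zero_div]
  have hvp : (v : G) ^ p = 1 := by
    have h1 : v ^ p = 1 := by
      conv_lhs => rw [← D.hcp]
      exact pow_card_eq_one'
    exact congrArg Subtype.val h1
  have hw : ∀ ζ : IrrCharacter (cz a.1), wt (D.ic v) ζ ^ p = 1 := fun ζ => wt_root hu hvp ζ
  have hsum : ((p - 1 : ℤ) : ℂ) * Rf c θ (D.ic v) (χ : G → ℂ) = ((∑ ζ : IrrCharacter (cz a.1), (if ζ ∈ c then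
      (mz (cz a.1) (χ : G → ℂ) ζ * d ζ) * ((if wt (D.ic v) ζ = 1 then (p : ℤ) else 0) - 1) else 0) : ℤ) : ℂ) := by
    have h1 : ∑ k ∈ Finset.range p, Rf c θ (D.ic (v ^ k)) (χ : G → ℂ) =
        Rf c θ (D.ic (v ^ 0)) (χ : G → ℂ) + ((p - 1 : ℤ) : ℂ) * Rf c θ (D.ic v) (χ : G → ℂ) := by
      obtain ⟨q, hq⟩ : ∃ q, p = q + 1 := ⟨p - 1, by have := hp.out.pos; omega⟩
      have hq1 : Finset.range p = Finset.range (q + 1) := by rw [hq]
      have hq2 : ((p - 1 : ℤ) : ℂ) = (q : ℂ) := by rw [hq]; push_cast; ring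
      rw [hq1, hq2, Finset.sum_range_succ', add_comm]
      congr 1
      have h2 : ∀ k ∈ Finset.range q, Rf c θ (D.ic (v ^ (k + 1))) (χ : G → ℂ) = Rf c θ (D.ic v) (χ : G → ℂ) := by
        intro k hk
        apply hrat
        intro hdv
        have h3 := Nat.le_of_dvd (Nat.succ_pos k) hdv
        have h4 := Finset.mem_range.1 hk
        omega
      rw [Finset.sum_congr rfl h2, Finset.sum_const, Finset.card_range, nsmul_eq_mul]
    have h2 : ∑ k ∈ Finset.range p, Rf c θ (D.ic (v ^ k)) (χ : G → ℂ) =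
        ∑ ζ : IrrCharacter (cz a.1), if ζ ∈ c then ((mz (cz a.1) (χ : G → ℂ) ζ * d ζ : ℤ) : ℂ) *
          (if wt (D.ic v) ζ = 1 then (p : ℂ) else 0) else 0 := by
      rw [Finset.sum_congr rfl fun k _ => hform k, Finset.sum_comm]
      refine Finset.sum_congr rfl fun ζ _ => ?_
      split_ifs with hζ h4
      · rw [← Finset.mul_sum, geom_root (hw ζ), if_pos h4]
      · rw [← Finset.mul_sum, geom_root (hw ζ), if_neg h4]
      · simp
    have h3 := hform 0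
    have h4 : ((p - 1 : ℤ) : ℂ) * Rf c θ (D.ic v) (χ : G → ℂ) =
        ∑ k ∈ Finset.range p, Rf c θ (D.ic (v ^ k)) (χ : G → ℂ) - Rf c θ (D.ic (v ^ 0)) (χ : G → ℂ) := by
      rw [h1]; ring
    rw [h4, h2, h3, ← Finset.sum_sub_distrib]
    push_cast
    refine Finset.sum_congr rfl fun ζ _ => ?_
    split_ifs <;> simp
    ring
  have hp1 : ((p : ℤ) - 1) ≠ 0 := by
    have := hp.out.one_lt
    omega
  exact int_of_mul (Xf_R1_int hM hu (D.pord v) D.hθ (IsIrr.isCharacter χ.2)) hp1 hsum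

/-- heights in a block of defect one -/
theorem height_zero_of_defect_one (hM : IsPModular p M) (hB : IsPBlock M B) (hd : blockDefect p B = 1) {χ : IrrCharacter G}
    (hχ : χ ∈ B) : blockHeight p B (χ : G → ℂ) = 0 := by
  by_contra h0
  obtain ⟨A, -, -, h3, h4, h5, h6, -, h8, -, -⟩ := contr hM hB hχ
  rw [hd, pow_one] at h3 h5
  obtain ⟨ψ, hψ, hψ0⟩ := exists_height_zero p (B := B) (IsPBlock.nonempty hB)
  have h9 : (p : ℤ) ∣ A χ := (dvd_pow_self (p : ℤ) h0).trans (h6 χ)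
  have h10 : A χ = p := le_antisymm h5 (Int.le_of_dvd h4 h9)
  have hne : ψ ≠ χ := fun h => h0 (h ▸ hψ0)
  have h11 : A χ ^ 2 + A ψ ^ 2 ≤ ∑ ξ : IrrCharacter G, A ξ ^ 2 := by
    have hpair := Finset.sum_pair (f := fun y => (A y) ^ 2) hne.symm
    rw [← hpair]
    exact Finset.sum_le_sum_of_subset_of_nonneg (Finset.subset_univ _) (fun _ _ _ => sq_nonneg _)
  rw [h3, h10] at h11
  have h12 : A ψ = 0 := by nlinarith [sq_nonneg (A ψ)]
  exact h8 ψ hψ hψ0 (by rw [h12]; exact dvd_zero _)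

theorem cA_ne_zero (hM : IsPModular p M) (hB : IsPBlock M B) (hd : blockDefect p B = 1) {χ ψ : IrrCharacter G}
    (hχ : χ ∈ B) (hψ : ψ ∈ B) : cA p B χ ψ ≠ 0 := by
  obtain ⟨A, h1, -, -, -, -, -, -, -, -, h10⟩ := contr hM hB hχ
  have h11 := h10 (height_zero_of_defect_one hM hB hd hχ) ψ hψ
  have h12 := cA_spec hM hB hχ hψ
  rw [h1 ψ] at h12
  have hcG : (Nat.card G : ℂ) ≠ 0 := by exact_mod_cast Nat.card_pos.ne'
  have h13 := mul_left_cancel₀ hcG h12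
  have h14 : A ψ = cA p B χ ψ := by exact_mod_cast h13
  rwa [← h14]

theorem Dat.core (D : Dat hM B a c θ) {F O : Finset (IrrCharacter G)} (hd : Disjoint F O)
    (hFO : ∀ χ, χ ∈ F ∪ O ↔ χ ∈ B) (hFc : F.card = blockRank p B) {v : a.1} (hv1 : (v : G) ≠ 1)
    (hrat : ∀ χ ∈ F, ∀ w : a.1, (w : G) ≠ 1 → Rf c θ (D.ic w) (χ : G → ℂ) = Rf c θ (D.ic v) (χ : G → ℂ))
    {Λ : IrrCharacter G} (hΛ : Λ ∈ O) (hO : ∀ ξ ∈ O, ∀ ψ ∈ B, cA p B ψ ξ = cA p B ψ Λ) {t : ℕ}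
    (ht : (cz a.1).relIndex (st a) * t = p - 1) (hOc : O.card = t) (hl : 0 < blockRank p B)
    (x : IrrCharacter G → ℤ) (hx : mbil (cA p B) x x ≠ 0) : (blockRank p B : ℤ) ≤ mbil (cA p B) x x := by
  classical
  haveI : Fintype a.1 := Fintype.ofFinite _
  set e := (cz a.1).relIndex (st a) with he
  have he0 : (e : ℂ) ≠ 0 := by exact_mod_cast D.e_pos.ne'
  have hpp := hp.out.one_lt
  have hFB : ∀ χ ∈ F, χ ∈ B := fun χ hχ => (hFO χ).1 (Finset.mem_union_left _ hχ)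
  have hOB : ∀ χ ∈ O, χ ∈ B := fun χ hχ => (hFO χ).1 (Finset.mem_union_right _ hχ)
  have hΛB := hOB Λ hΛ
  have het : (e : ℂ) * t = (p : ℂ) - 1 := by
    have h1 : ((e * t : ℕ) : ℂ) = ((p - 1 : ℕ) : ℂ) := by rw [ht]
    rw [Nat.cast_sub hpp.le] at h1
    push_cast at h1; exact h1
  have hint : ∀ χ : IrrCharacter G, ∃ n : ℤ, χ ∈ F → Rf c θ (D.ic v) (χ : G → ℂ) = n := by
    intro χ
    by_cases hχ : χ ∈ F
    · obtain ⟨n, hn⟩ := D.rat_int (v := v) (χ := χ) (fun k hk => hrat χ hχ _ (D.pow_ne hk hv1))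
      exact ⟨n, fun _ => hn⟩
    · exact ⟨0, fun h => absurd h hχ⟩
  choose aa haa using hint
  have hR : ∀ χ ∈ F, ∀ w : a.1, (w : G) ≠ 1 → Rf c θ (D.ic w) (χ : G → ℂ) = aa χ := fun χ hχ w hw => by
    rw [hrat χ hχ w hw, haa χ hχ]
  have hci : ∀ n : ℤ, conj (n : ℂ) = (n : ℂ) := fun n => map_intCast (starRingEnd ℂ) n
  -- relation on F
  have hFF : ∀ i ∈ F, ∀ j ∈ F, cA p B i j = (if i = j then (p : ℤ) else 0) - t * (aa i * aa j) := by
    intro i hi j hj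
    have h1 := D.row' (hFB i hi) (hFB j hj)
    have h2 : ∑ w : a.1, (if (w : G) = 1 then 0 else Rf c θ (D.ic w) (i : G → ℂ) * conj (Rf c θ (D.ic w) (j : G → ℂ))) =
        (e : ℂ) * t * (aa i * aa j) := by
      have h3 : ∀ w : a.1, (if (w : G) = 1 then 0 else Rf c θ (D.ic w) (i : G → ℂ) * conj (Rf c θ (D.ic w) (j : G → ℂ))) =
          (aa i : ℂ) * aa j - (if w = 1 then (aa i : ℂ) * aa j else 0) := by
        intro w
        by_cases hw : (w : G) = 1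
        · rw [if_pos hw, if_pos (Subtype.ext hw), sub_self]
        · rw [if_neg hw, if_neg (fun h => hw (by rw [h]; rfl)), hR i hi w hw, hR j hj w hw, hci, sub_zero]
      rw [Finset.sum_congr rfl fun w _ => h3 w, Finset.sum_sub_distrib, Finset.sum_const, Finset.sum_ite_eq' Finset.univ (1 : a.1),
        if_pos (Finset.mem_univ _), Finset.card_univ, ← Nat.card_eq_fintype_card, D.hcp, nsmul_eq_mul, het]
      ring
    rw [h2, classInner_irr'] at h1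
    have h4 : (e : ℂ) * (cA p B i j : ℂ) = (e : ℂ) * (((if i = j then (p : ℤ) else 0) - t * (aa i * aa j) : ℤ) : ℂ) := by
      push_cast
      split_ifs at h1 ⊢ with hij
      · push_cast; linear_combination -h1
      · push_cast; linear_combination -h1
    have h5 := mul_left_cancel₀ he0 h4
    exact_mod_cast h5
  -- relation with Λ
  set S : ℂ := ∑ w : a.1, (if (w : G) = 1 then 0 else conj (Rf c θ (D.ic w) (Λ : G → ℂ))) with hS
  have hFL : ∀ i ∈ F, (e : ℂ) * (cA p B i Λ : ℂ) = -((aa i : ℂ) * S) := by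
    intro i hi
    have h1 := D.row' (hFB i hi) hΛB
    have hne : i ≠ Λ := fun h => Finset.disjoint_left.1 hd hi (h ▸ hΛ)
    have h2 : ∑ w : a.1, (if (w : G) = 1 then 0 else Rf c θ (D.ic w) (i : G → ℂ) * conj (Rf c θ (D.ic w) (Λ : G → ℂ))) =
        (aa i : ℂ) * S := by
      rw [hS, Finset.mul_sum]
      refine Finset.sum_congr rfl fun w _ => ?_
      split_ifs with hw
      · rw [mul_zero]
      · rw [hR i hi w hw]
    rw [h2, classInner_irr', if_neg hne, mul_zero, mul_zero] at h1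
    linear_combination -h1
  have hdB := D.hd
  have hhn : ∀ i ∈ F, cA p B i Λ ≠ 0 := fun i hi => cA_ne_zero hM D.hB hdB (hFB i hi) hΛB
  have haan : ∀ i ∈ F, aa i ≠ 0 := by
    intro i hi h0
    have h1 := hFL i hi
    rw [h0, Int.cast_zero, zero_mul, neg_zero] at h1
    have h2 := (mul_eq_zero.1 h1).resolve_left he0
    exact hhn i hi (by exact_mod_cast h2)
  -- a base point
  obtain ⟨χ₀, hχ₀⟩ : F.Nonempty := by rw [← Finset.card_pos, hFc]; exact hl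
  have hcross : ∀ i ∈ F, cA p B i Λ * aa χ₀ = cA p B χ₀ Λ * aa i := by
    intro i hi
    have h1 := hFL i hi
    have h2 := hFL χ₀ hχ₀
    have h3 : (e : ℂ) * ((cA p B i Λ : ℂ) * aa χ₀) = (e : ℂ) * ((cA p B χ₀ Λ : ℂ) * aa i) := by
      linear_combination (aa χ₀ : ℂ) * h1 - (aa i : ℂ) * h2
    have h4 := mul_left_cancel₀ he0 h3
    exact_mod_cast h4
  -- sums over the block
  have hoff : ∀ i j, (i ∉ F ∪ O ∨ j ∉ F ∪ O) → cA p B i j = 0 := by
    intro i j h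
    apply cA_off
    rcases h with h | h
    · exact Or.inl (fun h' => h ((hFO i).2 h'))
    · exact Or.inr (fun h' => h ((hFO j).2 h'))
  have hsumB : ∀ f : IrrCharacter G → ℤ, (∀ η, η ∉ F ∪ O → f η = 0) → ∑ η, f η = ∑ η ∈ F, f η + ∑ η ∈ O, f η := by
    intro f hf
    rw [← Finset.sum_union hd]
    symm
    exact Finset.sum_subset (Finset.subset_univ _) fun η _ hη => hf η hη
  obtain ⟨g, hg⟩ : ∃ g, g = ∑ i ∈ F, aa i ^ 2 := ⟨_, rfl⟩
  have hid1 : (cA p B χ₀ Λ) ^ 2 * t = t * aa χ₀ ^ 2 * (p - t * g) := by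
    have h1 := cA_idem hM D.hB χ₀ χ₀
    rw [hdB, pow_one, hsumB _ (fun η hη => by rw [hoff χ₀ η (Or.inr hη), zero_mul])] at h1
    have h2 : ∑ η ∈ F, cA p B χ₀ η * cA p B η χ₀ = p * p - 2 * p * t * aa χ₀ ^ 2 + t ^ 2 * aa χ₀ ^ 2 * g := by
      have h3 : ∀ η ∈ F, cA p B χ₀ η * cA p B η χ₀ =
          (if χ₀ = η then (p : ℤ) * p - 2 * p * t * aa χ₀ ^ 2 else 0) + t ^ 2 * aa χ₀ ^ 2 * aa η ^ 2 := by
        intro η hη
        rw [cA_symm η χ₀, hFF χ₀ hχ₀ η hη]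
        split_ifs with h
        · rw [← h]; ring
        · ring
      rw [Finset.sum_congr rfl h3, Finset.sum_add_distrib, Finset.sum_ite_eq, if_pos hχ₀, ← Finset.mul_sum, ← hg]
    have h4 : ∑ η ∈ O, cA p B χ₀ η * cA p B η χ₀ = t * (cA p B χ₀ Λ) ^ 2 := by
      have h5 : ∀ η ∈ O, cA p B χ₀ η * cA p B η χ₀ = (cA p B χ₀ Λ) ^ 2 := by
        intro η hη
        rw [cA_symm η χ₀, hO η hη χ₀ (hFB χ₀ hχ₀)]; ring
      rw [Finset.sum_congr rfl h5, Finset.sum_const, hOc, nsmul_eq_mul]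
    rw [h2, h4, hFF χ₀ hχ₀ χ₀ hχ₀, if_pos rfl] at h1
    linear_combination h1
  have ht0 : (t : ℤ) ≠ 0 := by
    intro h
    have h1 : t = 0 := by exact_mod_cast h
    rw [h1, mul_zero] at ht
    omega
  have hsq : (cA p B χ₀ Λ) ^ 2 = aa χ₀ ^ 2 * (p - t * g) := by
    apply mul_right_cancel₀ ht0
    rw [hid1]; ring
  obtain ⟨s, hs⟩ : ∃ s : ℤ, cA p B χ₀ Λ = -(aa χ₀ * s) := by
    have h1 : aa χ₀ ^ 2 ∣ (cA p B χ₀ Λ) ^ 2 := ⟨_, hsq⟩
    have h2 := (Int.pow_dvd_pow_iff (two_ne_zero)).1 h1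
    obtain ⟨s, hs⟩ := h2
    exact ⟨-s, by rw [hs]; ring⟩
  have hFs : ∀ i ∈ F, cA p B i Λ = -(aa i * s) := by
    intro i hi
    have h1 := hcross i hi
    rw [hs] at h1
    apply mul_right_cancel₀ (haan χ₀ hχ₀)
    rw [h1]; ring
  have hs0 : s ≠ 0 := by
    intro h
    apply hhn χ₀ hχ₀
    rw [hs, h]; ring
  have hps : (p : ℤ) = t * g + s ^ 2 := by
    rw [hs] at hsq
    have h1 : aa χ₀ ^ 2 * s ^ 2 = aa χ₀ ^ 2 * (p - t * g) := by linear_combination hsq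
    have h2 := mul_left_cancel₀ (pow_ne_zero 2 (haan χ₀ hχ₀)) h1
    linarith
  have hgg : cA p B Λ Λ = g := by
    have h1 := cA_idem hM D.hB χ₀ Λ
    rw [hdB, pow_one, hsumB _ (fun η hη => by rw [hoff χ₀ η (Or.inr hη), zero_mul])] at h1
    have h2 : ∑ η ∈ F, cA p B χ₀ η * cA p B η Λ = -(p * (aa χ₀ * s)) + t * aa χ₀ * s * g := by
      have h3 : ∀ η ∈ F, cA p B χ₀ η * cA p B η Λ =
          (if χ₀ = η then -((p : ℤ) * (aa χ₀ * s)) else 0) + t * aa χ₀ * s * aa η ^ 2 := by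
        intro η hη
        rw [hFs η hη, hFF χ₀ hχ₀ η hη]
        split_ifs with h
        · rw [← h]; ring
        · ring
      rw [Finset.sum_congr rfl h3, Finset.sum_add_distrib, Finset.sum_ite_eq, if_pos hχ₀, ← Finset.mul_sum, ← hg]
    have h4 : ∑ η ∈ O, cA p B χ₀ η * cA p B η Λ = t * (-(aa χ₀ * s) * cA p B Λ Λ) := by
      have h5 : ∀ η ∈ O, cA p B χ₀ η * cA p B η Λ = -(aa χ₀ * s) * cA p B Λ Λ := by
        intro η hη
        rw [hO η hη χ₀ (hFB χ₀ hχ₀), hs, cA_symm η Λ, hO η hη Λ hΛB]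
      rw [Finset.sum_congr rfl h5, Finset.sum_const, hOc, nsmul_eq_mul]
    rw [h2, h4, hs] at h1
    have h6 : (t : ℤ) * (aa χ₀ * s) * cA p B Λ Λ = (t : ℤ) * (aa χ₀ * s) * g := by linear_combination -h1
    exact mul_left_cancel₀ (mul_ne_zero ht0 (mul_ne_zero (haan χ₀ hχ₀) hs0)) h6
  rw [← hFc]
  refine form_bound (A := cA p B) (F := F) (O := O) hd hoff (a := aa) (s := s) (g := g) (p := (p : ℤ)) (t := (t : ℤ))
    (by have := Nat.pos_of_ne_zero (fun h => ht0 (by exact_mod_cast h) : t ≠ 0); exact_mod_cast this) haan hs0 hFF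
    (fun i hi j hj => by rw [hO j hj i (hFB i hi), hFs i hi])
    (fun i hi j hj => by rw [cA_symm, hO i hi j (hFB j hj), hFs j hj])
    (fun i hi j hj => by rw [hO j hj i (hOB i hi), cA_symm, hO i hi Λ hΛB, hgg]) hg hps x hx

end Core

end CfsgDo
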