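import Cfsg.Agent.H4.Do5

set_option autoImplicit false
set_option linter.all false

/-! # The lattice bound for blocks of defect one -/

open Cfsg MonoidAlgebra
open CfsgH4 hiding centralChar sum_conj regInner_symm ev_ca
open CfsgH5 CfsgSub CfsgAb ComplexConjugate

namespace CfsgDo

section Bound

variable {G : Type*} [Group G] [Fintype G] {M : Ideal AlgInt} [hMp : M.IsPrime] {p : ℕ} [hp : Fact p.Prime]

theorem blockRank_ne_zero (hM : IsPModular p M) {B : Set (IrrCharacter G)} (hB : IsPBlock M B) : blockRank p B ≠ 0 := by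
  classical
  intro h0
  have h4 := card_mul_blockRank hM hB
  rw [h0, Nat.cast_zero, mul_zero] at h4
  obtain ⟨χ, hχ⟩ := IsPBlock.nonempty hB
  have hterm : ∀ ψ : IrrCharacter G, ∃ r : ℝ, 0 ≤ r ∧ (ψ = χ → 0 < r) ∧
      (if ψ ∈ B then regInner p (ψ : G → ℂ) (ψ : G → ℂ) else 0) = (r : ℂ) := by
    intro ψ
    obtain ⟨r, hr1, -, hr2⟩ := regInner_self (p := p) ψ
    by_cases hψ : ψ ∈ B
    · exact ⟨r, by linarith, fun _ => by linarith, by rw [if_pos hψ, hr2]⟩
    · refine ⟨0, le_rfl, fun h => absurd (h ▸ hχ) hψ, by rw [if_neg hψ]; simp⟩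
  choose r hr0 hr1 hr2 using hterm
  have h5 : ((∑ ψ : IrrCharacter G, r ψ : ℝ) : ℂ) = 0 := by
    rw [h4, Complex.ofReal_sum]
    refine Finset.sum_congr rfl fun ψ _ => ?_
    rw [← hr2 ψ]
  have h6 : ∑ ψ : IrrCharacter G, r ψ = 0 := by exact_mod_cast h5
  have h7 : 0 < ∑ ψ : IrrCharacter G, r ψ :=
    Finset.sum_pos' (fun ψ _ => hr0 ψ) ⟨χ, Finset.mem_univ _, hr1 χ rfl⟩
  linarith

variable {hM : IsPModular p M} {B : Set (IrrCharacter G)} {a : Subgroup G × MonoidAlgebra (kk M) G} [Fintype (cz a.1)]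
  {c : Set (IrrCharacter (cz a.1))} {θ : IrrCharacter (cz a.1)}

theorem Dat.bound (D : Dat hM B a c θ) (x : IrrCharacter G → ℤ) (hx : mbil (cA p B) x x ≠ 0) :
    (blockRank p B : ℤ) ≤ mbil (cA p B) x x := by
  classical
  haveI : Fintype a.1 := Fintype.ofFinite _
  have hpp := hp.out.one_lt
  have hane : a.1 ≠ ⊥ := by
    intro h
    have := D.hcp
    rw [h, Subgroup.card_bot] at this
    omega
  obtain ⟨v', hv', hv1'⟩ := exists_ne_one hane
  obtain ⟨v, hv⟩ : ∃ v : a.1, (v : G) = v' := ⟨⟨v', hv'⟩, rfl⟩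
  have hv1 : (v : G) ≠ 1 := by rw [hv]; exact hv1'
  have hcount := D.count
  have hepos := D.e_pos
  obtain ⟨e, he⟩ : ∃ e, e = (cz a.1).relIndex (st a) := ⟨_, rfl⟩
  rw [← he] at hcount hepos
  obtain ⟨k, hk⟩ : ∃ k, k = Nat.card B := ⟨_, rfl⟩
  obtain ⟨l, hl⟩ : ∃ l, l = blockRank p B := ⟨_, rfl⟩
  rw [← hk, ← hl] at hcount
  have hlk : l ≤ k := by
    by_contra h
    push Not at h
    have := Nat.mul_le_mul_left e h.le
    omega
  obtain ⟨t, rfl⟩ := Nat.exists_eq_add_of_le hlk
  have ht : e * t = p - 1 := by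
    rw [mul_add] at hcount; omega
  have hl0 : 0 < blockRank p B := Nat.pos_of_ne_zero (blockRank_ne_zero hM D.hB)
  set BF : Finset (IrrCharacter G) := Finset.univ.filter (fun χ => χ ∈ B) with hBF
  have hBFc : BF.card = l + t := by
    rw [hk, hBF, ← Fintype.card_subtype, ← Nat.card_eq_fintype_card]
  have hmB : ∀ χ, χ ∈ BF ↔ χ ∈ B := fun χ => by rw [hBF, Finset.mem_filter]; simp
  by_cases ht1 : t = 1
  · subst ht1
    obtain ⟨Λ, hΛ⟩ := IsPBlock.nonempty D.hB
    refine D.core (F := BF.erase Λ) (O := {Λ}) (v := v) (t := 1) (Λ := Λ) ?_ ?_ ?_ hv1 ?_ (Finset.mem_singleton_self _) ?_ (by rw [← he]; exact ht) (Finset.card_singleton _) hl0 x hx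
    · rw [Finset.disjoint_singleton_right]; exact Finset.notMem_erase _ _
    · intro χ
      rw [← hmB, Finset.mem_union, Finset.mem_erase, Finset.mem_singleton]
      constructor
      · rintro (h | h)
        · exact h.2
        · rw [h]; exact (hmB Λ).2 hΛ
      · intro h
        by_cases h' : χ = Λ
        · exact Or.inr h'
        · exact Or.inl ⟨h', h⟩
    · rw [Finset.card_erase_of_mem ((hmB Λ).2 hΛ), hBFc, ← hl]; rfl
    · intro χ _ w hw
      -- a single orbit
      have h1 : (Finset.univ.filter (fun w : a.1 => ∃ t ∈ st a, (w : G) = t * v * t⁻¹)) = Finset.univ.filter (fun w : a.1 => (w : G) ≠ 1) := by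
        apply Finset.eq_of_subset_of_card_le
        · intro w hw
          rw [Finset.mem_filter] at hw ⊢
          refine ⟨Finset.mem_univ _, ?_⟩
          intro h
          obtain ⟨t, ht, h2⟩ := hw.2
          rw [h] at h2
          apply hv1
          have h3 : (v : G) = t⁻¹ * (t * v * t⁻¹) * t := by group
          rw [h3, ← h2]; group
        · have h2 : (Finset.univ.filter (fun w : a.1 => ∃ t ∈ st a, (w : G) = t * v * t⁻¹)).card = e := by
            rw [he, ← card_orbit D.hfree v.2 hv1, Nat.card_eq_fintype_card, Fintype.card_subtype]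
          have h3 : (Finset.univ.filter (fun w : a.1 => (w : G) ≠ 1)).card = p - 1 := by
            have h4 : Finset.univ.filter (fun w : a.1 => (w : G) ≠ 1) = Finset.univ.erase 1 := by
              ext w
              rw [Finset.mem_filter, Finset.mem_erase]
              constructor
              · rintro ⟨-, h⟩; exact ⟨fun h' => h (by rw [h']; rfl), Finset.mem_univ _⟩
              · rintro ⟨h, -⟩; exact ⟨Finset.mem_univ _, fun h' => h (Subtype.ext h')⟩
            rw [h4, Finset.card_erase_of_mem (Finset.mem_univ _), Finset.card_univ, ← Nat.card_eq_fintype_card, D.hcp]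
          rw [h2, h3]; omega
      have h2 : w ∈ Finset.univ.filter (fun w : a.1 => ∃ t ∈ st a, (w : G) = t * v * t⁻¹) := by
        rw [h1, Finset.mem_filter]; exact ⟨Finset.mem_univ _, hw⟩
      obtain ⟨t, ht, h3⟩ := (Finset.mem_filter.1 h2).2
      exact D.conj_eq ht h3 χ
    · intro ξ hξ ψ _
      rw [Finset.mem_singleton.1 hξ]
  · -- at least two exceptional characters
    have ht0 : t ≠ 0 := by rintro rfl; omega
    have ht2 : 2 ≤ t := by omega
    obtain ⟨g, hg⟩ := IsCyclic.exists_generator (α := (ZMod p)ˣ)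
    have hgo : orderOf g = p - 1 := by
      rw [orderOf_eq_card_of_forall_mem_zpowers hg, Nat.card_eq_fintype_card, ZMod.card_units p]
    have hk0 : ¬ p ∣ (g : ZMod p).val := by
      intro h
      have h1 := (ZMod.natCast_eq_zero_iff _ p).2 h
      rw [ZMod.natCast_val, ZMod.cast_id] at h1
      exact g.ne_zero h1
    obtain ⟨m, hm, hmk⟩ := exists_good_exp (G := G) _ hk0
    have hmg : (m : ZMod p) = g := by
      rw [(ZMod.natCast_eq_natCast_iff _ _ _).2 hmk, ZMod.natCast_val, ZMod.cast_id]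
    have hmj : ∀ j : ℕ, ((m ^ j : ℕ) : ZMod p) = ((g ^ j : (ZMod p)ˣ) : ZMod p) := by
      intro j; push_cast; rw [hmg]
    let σ : ℕ → IrrCharacter G → IrrCharacter G := fun j χ => tw (hm.pow j).1 χ
    have hσ : ∀ j χ y, (σ j χ : G → ℂ) y = (χ : G → ℂ) (y ^ (m ^ j)) := fun j χ y => rfl
    have hext : ∀ χ ψ : IrrCharacter G, (∀ y, (χ : G → ℂ) y = (ψ : G → ℂ) y) → χ = ψ := fun χ ψ h => Subtype.ext (funext h)
    have hsurj : ∀ i : ℕ, ∀ y : G, ∃ z : G, z ^ (m ^ i) = y := by
      intro i y
      have h1 : (Nat.card G).Coprime (m ^ i) := (hm.pow i).1.symm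
      exact ⟨(powCoprime h1).symm y, (powCoprime h1).apply_symm_apply y⟩
    have hfix : ∀ j, 0 < j → j < t → Nat.card {χ : IrrCharacter G // χ ∈ B ∧ σ j χ = χ} = l := by
      intro j hj0 hjt
      rw [hl]
      apply D.fix_count (hm.pow j)
      apply D.not_orbit
      rw [← he]
      intro h
      have h1 : (((m ^ j) ^ e : ℕ) : ZMod p) = 1 := by
        rw [(ZMod.natCast_eq_natCast_iff _ _ _).2 h, Nat.cast_one]
      rw [← pow_mul, hmj] at h1
      have h2 : g ^ (j * e) = 1 := Units.ext (by rw [h1]; rfl)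
      have h3 := orderOf_dvd_of_pow_eq_one h2
      rw [hgo, ← ht, mul_comm j e] at h3
      have h4 := Nat.dvd_of_mul_dvd_mul_left hepos h3
      have h5 := Nat.le_of_dvd hj0 h4
      omega
    set F : Finset (IrrCharacter G) := Finset.univ.filter (fun χ => χ ∈ B ∧ σ 1 χ = χ) with hF
    have hFc : F.card = l := by
      rw [← hfix 1 one_pos (by omega), Nat.card_eq_fintype_card, Fintype.card_subtype]
    have hfixj : ∀ χ, σ 1 χ = χ → ∀ j, σ j χ = χ := by
      intro χ hχ j
      have h1 : ∀ y, (χ : G → ℂ) (y ^ m) = (χ : G → ℂ) y := by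
        intro y
        have := congrArg (fun ψ : IrrCharacter G => (ψ : G → ℂ) y) hχ
        simp only [hσ, pow_one] at this
        exact this
      apply hext
      intro y
      rw [hσ]
      induction j generalizing y with
      | zero => simp
      | succ j ih => rw [pow_succ, pow_mul, h1, ih]
    obtain ⟨Λ, hΛB, hΛF⟩ : ∃ Λ ∈ BF, Λ ∉ F := by
      by_contra h
      push Not at h
      have := Finset.card_le_card (show BF ⊆ F from h)
      omega
    rw [hmB] at hΛB
    have hΛσ : ∀ r, 0 < r → r < t → σ r Λ ≠ Λ := by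
      intro r hr0 hrt h
      apply hΛF
      have h1 : F = Finset.univ.filter (fun χ => χ ∈ B ∧ σ r χ = χ) := by
        apply Finset.eq_of_subset_of_card_le
        · intro χ hχ
          rw [hF, Finset.mem_filter] at hχ
          rw [Finset.mem_filter]
          exact ⟨Finset.mem_univ _, hχ.2.1, hfixj χ hχ.2.2 r⟩
        · rw [hFc, ← hfix r hr0 hrt, Nat.card_eq_fintype_card, Fintype.card_subtype]
      rw [h1, Finset.mem_filter]
      exact ⟨Finset.mem_univ _, hΛB, h⟩
    have hinj : ∀ i j, i < j → j < t → σ i Λ ≠ σ j Λ := by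
      intro i j hij hjt h
      apply hΛσ (j - i) (by omega) (by omega)
      apply hext
      intro y
      obtain ⟨z, hz⟩ := hsurj i y
      have h1 := congrArg (fun ψ : IrrCharacter G => (ψ : G → ℂ) z) h
      simp only [hσ] at h1
      rw [hσ, ← hz, ← pow_mul, ← pow_add, show i + (j - i) = j by omega, h1]
    set O : Finset (IrrCharacter G) := (Finset.range t).image (fun j => σ j Λ) with hO
    have hOc : O.card = t := by
      rw [hO, Finset.card_image_of_injOn, Finset.card_range]
      intro i hi j hj h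
      rw [Finset.mem_coe, Finset.mem_range] at hi hj
      rcases lt_trichotomy i j with h1 | h1 | h1
      · exact absurd h (hinj i j h1 hj)
      · exact h1
      · exact absurd h.symm (hinj j i h1 hi)
    have hOF : ∀ χ ∈ O, χ ∈ B ∧ χ ∉ F := by
      intro χ hχ
      obtain ⟨j, -, rfl⟩ := Finset.mem_image.1 hχ
      refine ⟨tw_mem hM D.hB (hm.pow j) hΛB, ?_⟩
      intro h
      rw [hF, Finset.mem_filter] at h
      apply hΛF
      rw [hF, Finset.mem_filter]
      refine ⟨Finset.mem_univ _, hΛB, ?_⟩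
      apply hext
      intro y
      obtain ⟨z, hz⟩ := hsurj j y
      have h1 := congrArg (fun ψ : IrrCharacter G => (ψ : G → ℂ) z) h.2.2
      simp only [hσ] at h1
      rw [hσ, ← hz, ← h1]
      congr 1
      rw [← pow_mul, ← pow_mul, mul_comm]
    have hdis : Disjoint F O := by
      rw [Finset.disjoint_right]
      intro χ hχ
      exact (hOF χ hχ).2
    have hun : F ∪ O = BF := by
      apply Finset.eq_of_subset_of_card_le
      · intro χ hχ
        rw [hmB]
        rcases Finset.mem_union.1 hχ with h | h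
        · exact (Finset.mem_filter.1 h).2.1
        · exact (hOF χ h).1
      · rw [Finset.card_union_of_disjoint hdis, hBFc, hFc, hOc]
    refine D.core (F := F) (O := O) (v := v) (t := t) (Λ := Λ) hdis (fun χ => by rw [hun, hmB]) (by rw [hFc, hl]) hv1 ?_
      (Finset.mem_image.2 ⟨0, Finset.mem_range.2 (by omega), hext _ _ fun y => by rw [hσ]; simp⟩) ?_ (by rw [← he]; exact ht) hOc hl0 x hx
    · intro χ hχ w hw
      have hχ1 := (Finset.mem_filter.1 hχ).2.2
      obtain ⟨k, rfl⟩ := D.pow_surj hv1 w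
      have hkp : ¬ p ∣ k := by
        intro h
        apply hw
        obtain ⟨q, rfl⟩ := h
        have h1 : v ^ p = 1 := by
          conv_lhs => rw [← D.hcp]
          exact pow_card_eq_one'
        rw [pow_mul, h1, one_pow]; rfl
      have hku : (k : ZMod p) ≠ 0 := fun h => hkp ((ZMod.natCast_eq_zero_iff _ p).1 h)
      obtain ⟨j, hj⟩ := (Submonoid.mem_powers_iff _ _).1 ((mem_powers_iff_mem_zpowers).2 (hg (Units.mk0 _ hku)))
      have h1 : (k : ZMod p) = ((m ^ j : ℕ) : ZMod p) := by
        rw [hmj, hj, Units.val_mk0]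
      have h2 : k ≡ m ^ j [MOD p] := (ZMod.natCast_eq_natCast_iff _ _ _).1 h1
      have h3 : v ^ k = v ^ (m ^ j) := by
        rw [pow_eq_pow_iff_modEq]
        refine h2.of_dvd ?_
        conv_rhs => rw [← D.hcp]
        exact orderOf_dvd_natCard v
      have h4 := D.Rf_tw (hm.pow j) v χ
      rw [h3, ← h4]
      have h5 : tw (hm.pow j).1 χ = χ := hfixj χ hχ1 j
      rw [h5]
    · intro ξ hξ ψ hψ
      obtain ⟨j, -, rfl⟩ := Finset.mem_image.1 hξ
      exact tw_cA hM D.hB (hm.pow j) hψ hΛB

end Bound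

section Final

variable {G : Type*} [Group G] [Fintype G] {M : Ideal AlgInt} {p : ℕ} [hp : Fact p.Prime]

/-- blocks of defect one -/
theorem defect_one_bound (hM : IsPModular p M) {B : Set (IrrCharacter G)} (hB : IsPBlock M B) (hd : blockDefect p B = 1)
    (x : IrrCharacter G → ℤ) (hx : mbil (cA p B) x x ≠ 0) : (blockRank p B : ℤ) ≤ mbil (cA p B) x x := by
  classical
  haveI := IsPModular.isPrime hM
  obtain ⟨P, hP⟩ := exists_defectGroup hM hB
  obtain ⟨χ, hχ, h0⟩ := exists_height_zero p (B := B) (IsPBlock.nonempty hB)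
  obtain ⟨e, hmax, -⟩ := exists_pair hM hB hP hχ h0
  have hcp : Nat.card P = p := by rw [defectGroup_card hM hB hP, hd, pow_one]
  have hcyc : IsCyclic P := isCyclic_of_prime_card hcp
  have hab : P ≤ cz P := by
    intro x hx
    rw [Subgroup.mem_centralizer_iff]
    intro y hy
    haveI := hcyc
    letI := IsCyclic.commGroup (α := P)
    have := mul_comm (⟨y, hy⟩ : P) ⟨x, hx⟩
    exact congrArg Subtype.val this
  have hBt := isBl_top hB
  have hfree := free_of_cyclic hM hBt hmax hab hcyc
  have hne : P ≠ ⊥ := by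
    intro h
    rw [h, Subgroup.card_bot] at hcp
    exact hp.out.one_lt.ne hcp
  obtain ⟨c, θ, hc, hid, hθ⟩ := free_loc hM hBt hmax hab hfree (Q := P) le_rfl hne
  have hdc := (loc_defect hM hB hmax hab (Q := P) le_rfl hc hid).2
  haveI : Fintype (cz P) := Fintype.ofFinite _
  have hbq : bq p (P, e) P = e := bq_self (a := (P, e)) hM
  have D : Dat (p := p) hM B (P, e) c θ := ⟨hB, hmax, hab, hfree, hcp, hc, by rw [hid]; exact hbq, by convert hθ, by rw [hdc, hd]⟩
  exact D.bound x hx

end Final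

end CfsgDo
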