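import Cfsg.Agent.H4.Do6
import Cfsg.Agent.H5.Reg
import Cfsg.Agent.H5.Cover3

set_option autoImplicit false
set_option linter.all false

/-! # The lattice of a block and central `p`-subgroups -/

open Cfsg MonoidAlgebra
open CfsgH4 hiding centralChar sum_conj regInner_symm ev_ca
open CfsgH5 CfsgSub CfsgAb ComplexConjugate

namespace CfsgDo

section CQ

variable {H : Type*} [Group H] [Fintype H] {M : Ideal AlgInt} {p : ℕ} [hp : Fact p.Prime]
variable {Z : Subgroup H} [hZn : Z.Normal] [Fintype (H ⧸ Z)]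

theorem pRegularPart_sing {K : Type*} [Group K] {χ : K → ℂ} {h : K} (hh : p ∣ orderOf h) : pRegularPart p χ h = 0 := by
  rw [pRegularPart, if_neg]
  intro h'; exact h' hh

theorem pRegularPart_reg {K : Type*} [Group K] {χ : K → ℂ} {h : K} (hh : ¬ p ∣ orderOf h) : pRegularPart p χ h = χ h := by
  rw [pRegularPart, if_pos]
  exact hh

theorem rexp_p {κ : ℕ} (hκ : IsRExp p κ H) {x : H} (hx : ∃ k, orderOf x = p ^ k) : x ^ κ = 1 := by
  obtain ⟨k, hk⟩ := hx
  have h1 : orderOf (x ^ κ) ∣ orderOf x := orderOf_pow_dvd κ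
  rw [hk] at h1
  obtain ⟨j, -, hj⟩ := (Nat.dvd_prime_pow hp.out).1 h1
  have h2 := (hκ x).1
  rw [hj] at h2
  have h3 : j = 0 := by
    by_contra h0
    exact h2 (dvd_pow_self p h0)
  rw [h3, pow_zero, orderOf_eq_one_iff] at hj
  exact hj

theorem pord_of {Z : Subgroup H} (hZp : IsPGroup p Z) {z : H} (hz : z ∈ Z) : ∃ k, orderOf z = p ^ k := by
  obtain ⟨k, hk⟩ := (IsPGroup.iff_orderOf.1 hZp) ⟨z, hz⟩
  exact ⟨k, by rw [← hk, Subgroup.orderOf_mk]⟩

theorem regular_mk {h : H} (hh : ¬ p ∣ orderOf h) : ¬ p ∣ orderOf (h : H ⧸ Z) := fun hd =>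
  hh (hd.trans (orderOf_map_dvd (QuotientGroup.mk' Z) h))

open Classical in
theorem sum_reg (hZ : Z ≤ Subgroup.center H) (hZp : IsPGroup p Z) (F : H ⧸ Z → ℂ) :
    ∑ h : H, (if p ∣ orderOf h then 0 else F (h : H ⧸ Z)) = ∑ x : H ⧸ Z, (if p ∣ orderOf x then 0 else F x) := by
  have h1 : ∑ h : H, (if p ∣ orderOf h then 0 else F (h : H ⧸ Z)) =
      ∑ h ∈ Finset.univ.filter (fun h : H => ¬ p ∣ orderOf h), F (h : H ⧸ Z) := by
    rw [Finset.sum_filter]
    exact Finset.sum_congr rfl fun h _ => by split_ifs <;> rfl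
  have h2 : ∑ x : H ⧸ Z, (if p ∣ orderOf x then 0 else F x) =
      ∑ x ∈ Finset.univ.filter (fun x : H ⧸ Z => ¬ p ∣ orderOf x), F x := by
    rw [Finset.sum_filter]
    exact Finset.sum_congr rfl fun h _ => by split_ifs <;> rfl
  rw [h1, h2]
  refine Finset.sum_bij (fun h _ => (h : H ⧸ Z)) ?_ ?_ ?_ (fun _ _ => rfl)
  · intro h hh
    rw [Finset.mem_filter] at hh ⊢
    exact ⟨Finset.mem_univ _, regular_mk hh.2⟩
  · intro h hh h' hh' heq
    rw [Finset.mem_filter] at hh hh'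
    have h3 : h⁻¹ * h' ∈ Z := QuotientGroup.eq.1 heq
    obtain ⟨κ, hκ⟩ := exists_rexp p H
    have h4 : h' = h * (h⁻¹ * h') := by group
    have h5 : Commute h (h⁻¹ * h') := Subgroup.mem_center_iff.1 (hZ h3) h
    have h6 := hκ.eq_of_regular hh.2
    have h7 := hκ.eq_of_regular hh'.2
    rw [h4, h5.mul_pow, h6, rexp_p hκ (pord_of hZp h3), mul_one] at h7
    rw [h4, ← h7]
  · intro x hx
    rw [Finset.mem_filter] at hx
    obtain ⟨g, hg1, hg2⟩ := exists_regular_lift hZp hx.2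
    exact ⟨g, Finset.mem_filter.2 ⟨Finset.mem_univ _, hg2⟩, hg1⟩

theorem regInner_infl (hZ : Z ≤ Subgroup.center H) (hZp : IsPGroup p Z) (χ ψ : IrrCharacter (H ⧸ Z)) :
    regInner p (inflI Z χ : H → ℂ) (inflI Z ψ : H → ℂ) = regInner p (χ : H ⧸ Z → ℂ) (ψ : H ⧸ Z → ℂ) := by
  rw [regInner, regInner]
  convert sum_reg hZ hZp (fun x => (χ : H ⧸ Z → ℂ) x * conj ((ψ : H ⧸ Z → ℂ) x)) using 2
  rfl

theorem centralizer_idx (hZ : Z ≤ Subgroup.center H) : ∃ k : ℕ, (Subgroup.centralizer (Z : Set H)).index = p ^ k := by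
  refine ⟨0, ?_⟩
  have : Subgroup.centralizer (Z : Set H) = ⊤ := by
    rw [eq_top_iff]
    intro g _
    rw [Subgroup.mem_centralizer_iff]
    intro z hz
    exact (Subgroup.mem_center_iff.1 (hZ hz) g).symm
  rw [this, Subgroup.index_top, pow_zero]

/-- a block of the quotient below a block, central `p`-subgroups -/
theorem exists_bar (hM : IsPModular p M) (hZ : Z ≤ Subgroup.center H) (hZp : IsPGroup p Z) {b : Set (IrrCharacter H)}
    (hb : IsPBlock M b) : ∃ b' : Set (IrrCharacter (H ⧸ Z)), IsPBlock M b' ∧ (∀ ζ, ζ ∈ b' ↔ inflI Z ζ ∈ b) ∧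
      p ^ blockDefect p b = Nat.card Z * p ^ blockDefect p b' := by
  haveI := IsPModular.isPrime hM
  obtain ⟨χ, hχ, hχ0, hker⟩ := exists_height_zero_ker hM hb hZ hZp
  obtain ⟨χ', rfl⟩ := exists_defl Z hker
  have hbe : b = blockOf M (inflI Z χ' : H → ℂ) := (IsPBlock.eq_blockOf hb hχ)
  have hiff : ∀ ζ, ζ ∈ blockOf M (χ' : H ⧸ Z → ℂ) ↔ inflI Z ζ ∈ b := by
    intro ζ
    rw [hbe]
    exact sameBlock_infl_iff hM hZp (centralizer_idx hZ)
  refine ⟨blockOf M (χ' : H ⧸ Z → ℂ), isPBlock_blockOf χ', hiff, ?_⟩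
  have hχ' : χ' ∈ blockOf M (χ' : H ⧸ Z → ℂ) := mem_blockOf_self χ'
  obtain ⟨ψ, hψ, hψ0⟩ := exists_height_zero p (B := blockOf M (χ' : H ⧸ Z → ℂ)) ⟨χ', hχ'⟩
  have hdeg : ∀ ζ : IrrCharacter (H ⧸ Z), charDegree (inflI Z ζ : H → ℂ) = charDegree (ζ : H ⧸ Z → ℂ) := by
    intro ζ
    have h1 := (IsIrr.one_eq ζ.2).1
    have h2 := (IsIrr.one_eq (inflI Z ζ).2).1
    have h3 : (inflI Z ζ : H → ℂ) 1 = (ζ : H ⧸ Z → ℂ) 1 := by rw [inflI_apply]; rfl
    rw [h2, h1] at h3
    exact_mod_cast h3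
  have e1 := degree_eq (p := p) hχ
  have e2 := degree_eq (p := p) hχ'
  have e3 := degree_eq (p := p) hψ
  have e4 := degree_eq (p := p) ((hiff ψ).1 hψ)
  rw [hdeg] at e1 e4
  rw [hχ0] at e1
  rw [hψ0] at e3
  obtain ⟨n, hn⟩ := hZp.exists_card_eq
  have e5 : (Nat.card H).factorization p = (Nat.card (H ⧸ Z)).factorization p + n := by
    have h1 := Subgroup.card_eq_card_quotient_mul_card_subgroup Z
    rw [h1, hn, Nat.factorization_mul Nat.card_pos.ne' (pow_ne_zero _ hp.out.ne_zero), Finsupp.add_apply,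
      Nat.Prime.factorization_pow hp.out, Finsupp.single_eq_same]
  rw [hn, ← pow_add]
  congr 1
  omega

/-- the rank of the block of the quotient -/
theorem rank_bar (hM : IsPModular p M) (hZ : Z ≤ Subgroup.center H) (hZp : IsPGroup p Z) {b : Set (IrrCharacter H)}
    (hb : IsPBlock M b) {b' : Set (IrrCharacter (H ⧸ Z))} (hiff : ∀ ζ, ζ ∈ b' ↔ inflI Z ζ ∈ b) :
    blockRank p b ≤ blockRank p b' := by
  classical
  let T : ((H ⧸ Z) → ℂ) →ₗ[ℂ] (H → ℂ) :=
    { toFun := fun f h => if p ∣ orderOf h then 0 else f (h : H ⧸ Z)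
      map_add' := by
        intro f g; funext h
        by_cases hh : p ∣ orderOf h
        · simp only [if_pos hh, Pi.add_apply, add_zero]
        · simp only [if_neg hh, Pi.add_apply]
      map_smul' := by
        intro r f; funext h
        by_cases hh : p ∣ orderOf h
        · simp only [if_pos hh, Pi.smul_apply, smul_zero]
        · simp only [if_neg hh, Pi.smul_apply, RingHom.id_apply] }
  have hT : ∀ ζ : IrrCharacter (H ⧸ Z), T (pRegularPart p (ζ : H ⧸ Z → ℂ)) = pRegularPart p (inflI Z ζ : H → ℂ) := by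
    intro ζ
    funext h
    show (if p ∣ orderOf h then 0 else pRegularPart p (ζ : H ⧸ Z → ℂ) (h : H ⧸ Z)) = _
    by_cases hh : p ∣ orderOf h
    · rw [if_pos hh, pRegularPart_sing hh]
    · rw [if_neg hh, pRegularPart_reg hh, pRegularPart_reg (regular_mk hh), inflI_apply]
  have hle : Submodule.span ℂ ((fun χ : IrrCharacter H => pRegularPart p (χ : H → ℂ)) '' b) ≤
      (Submodule.span ℂ ((fun χ : IrrCharacter (H ⧸ Z) => pRegularPart p (χ : H ⧸ Z → ℂ)) '' b')).map T := by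
    rw [Submodule.span_le]
    rintro _ ⟨ξ, hξ, rfl⟩
    obtain ⟨c, hc1, hc2⟩ := reg_expand hM hZ hZp hb hξ
    have h1 : pRegularPart p (ξ : H → ℂ) = ∑ χ : IrrCharacter H, (c χ : ℂ) • pRegularPart p (χ : H → ℂ) := by
      funext h
      rw [Finset.sum_apply]
      by_cases hh : p ∣ orderOf h
      · rw [pRegularPart_sing hh]
        symm
        apply Finset.sum_eq_zero
        intro χ _
        rw [Pi.smul_apply, pRegularPart_sing hh, smul_zero]
      · rw [pRegularPart_reg hh, hc2 h hh]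
        refine Finset.sum_congr rfl fun χ _ => ?_
        rw [Pi.smul_apply, pRegularPart_reg hh, smul_eq_mul]
    show pRegularPart p (ξ : H → ℂ) ∈ _
    rw [h1]
    refine Submodule.sum_mem _ fun χ _ => ?_
    by_cases h0 : c χ = 0
    · rw [h0, Int.cast_zero, zero_smul]; exact Submodule.zero_mem _
    · obtain ⟨hχ, hker⟩ := hc1 χ h0
      obtain ⟨χ', rfl⟩ := exists_defl Z hker
      apply Submodule.smul_mem
      rw [← hT]
      exact Submodule.mem_map_of_mem (Submodule.subset_span ⟨χ', (hiff χ').2 hχ, rfl⟩)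
  rw [blockRank, blockRank]
  exact (Submodule.finrank_mono hle).trans (Submodule.finrank_map_le T _)

theorem cA_infl (hM : IsPModular p M) (hZ : Z ≤ Subgroup.center H) (hZp : IsPGroup p Z) {b : Set (IrrCharacter H)}
    (hb : IsPBlock M b) {b' : Set (IrrCharacter (H ⧸ Z))} (hb' : IsPBlock M b') (hiff : ∀ ζ, ζ ∈ b' ↔ inflI Z ζ ∈ b)
    (hd : p ^ blockDefect p b = Nat.card Z * p ^ blockDefect p b') (ζ ξ : IrrCharacter (H ⧸ Z)) :
    cA p b (inflI Z ζ) (inflI Z ξ) = cA p b' ζ ξ := by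
  by_cases h1 : ζ ∈ b'
  · by_cases h2 : ξ ∈ b'
    · have e1 := cA_spec hM hb ((hiff ζ).1 h1) ((hiff ξ).1 h2)
      have e2 := cA_spec hM hb' h1 h2
      rw [regInner_infl hZ hZp] at e1
      have e3 : (p : ℂ) ^ blockDefect p b = (Nat.card Z : ℂ) * (p : ℂ) ^ blockDefect p b' := by exact_mod_cast hd
      have e4 : (Nat.card H : ℂ) = (Nat.card (H ⧸ Z) : ℂ) * (Nat.card Z : ℂ) := by
        exact_mod_cast Subgroup.card_eq_card_quotient_mul_card_subgroup Z
      have hz : (Nat.card Z : ℂ) ≠ 0 := by exact_mod_cast Nat.card_pos.ne'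
      have hq : (Nat.card (H ⧸ Z) : ℂ) ≠ 0 := by exact_mod_cast Nat.card_pos.ne'
      have e5 : (Nat.card Z : ℂ) * (Nat.card (H ⧸ Z) : ℂ) * (cA p b (inflI Z ζ) (inflI Z ξ) : ℂ) =
          (Nat.card Z : ℂ) * (Nat.card (H ⧸ Z) : ℂ) * (cA p b' ζ ξ : ℂ) := by
        rw [e3, e4] at e1
        linear_combination -e1 + (Nat.card Z : ℂ) * e2
      have e6 := mul_left_cancel₀ (mul_ne_zero hz hq) e5
      exact_mod_cast e6
    · rw [cA_off (Or.inr h2), cA_off (Or.inr (fun h => h2 ((hiff ξ).2 h)))]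
  · rw [cA_off (Or.inl h1), cA_off (Or.inl (fun h => h1 ((hiff ζ).2 h)))]

/-- transporting vectors -/
theorem mbil_bar (hM : IsPModular p M) (hZ : Z ≤ Subgroup.center H) (hZp : IsPGroup p Z) {b : Set (IrrCharacter H)}
    (hb : IsPBlock M b) {b' : Set (IrrCharacter (H ⧸ Z))} (hb' : IsPBlock M b') (hiff : ∀ ζ, ζ ∈ b' ↔ inflI Z ζ ∈ b)
    (hd : p ^ blockDefect p b = Nat.card Z * p ^ blockDefect p b') (x : IrrCharacter H → ℤ) :
    ∃ y : IrrCharacter (H ⧸ Z) → ℤ, mbil (cA p b) x x = mbil (cA p b') y y := by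
  classical
  have hexp : ∀ ξ : IrrCharacter H, ∃ c : IrrCharacter H → ℤ, ξ ∈ b → (∀ χ, c χ ≠ 0 → χ ∈ b ∧ ∀ x ∈ Z, (χ : H → ℂ) x = (χ : H → ℂ) 1) ∧
      ∀ y : H, ¬ p ∣ orderOf y → (ξ : H → ℂ) y = ∑ χ : IrrCharacter H, (c χ : ℂ) * (χ : H → ℂ) y := by
    intro ξ
    by_cases hξ : ξ ∈ b
    · obtain ⟨c, hc⟩ := reg_expand hM hZ hZp hb hξ
      exact ⟨c, fun _ => hc⟩
    · exact ⟨0, fun h => absurd h hξ⟩
  choose c hc using hexp
  -- the new vector
  set x' : IrrCharacter H → ℤ := fun χ => ∑ ξ : IrrCharacter H, if ξ ∈ b then x ξ * c ξ χ else 0 with hx'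
  have hcA : ∀ ξ ∈ b, ∀ ψ, cA p b ξ ψ = ∑ χ : IrrCharacter H, c ξ χ * cA p b χ ψ := by
    intro ξ hξ ψ
    by_cases hψ : ψ ∈ b
    · have hcH : (Nat.card H : ℂ) ≠ 0 := by exact_mod_cast Nat.card_pos.ne'
      have h1 : regInner p (ξ : H → ℂ) (ψ : H → ℂ) = ∑ χ : IrrCharacter H, (c ξ χ : ℂ) * regInner p (χ : H → ℂ) (ψ : H → ℂ) := by
        simp only [regInner, Finset.mul_sum]
        rw [Finset.sum_comm]
        refine Finset.sum_congr rfl fun y _ => ?_
        split_ifs with hy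
        · simp
        · rw [(hc ξ hξ).2 y hy, Finset.sum_mul]
          exact Finset.sum_congr rfl fun χ _ => by ring
      have h2 : (Nat.card H : ℂ) * (cA p b ξ ψ : ℂ) = (Nat.card H : ℂ) * ((∑ χ : IrrCharacter H, c ξ χ * cA p b χ ψ : ℤ) : ℂ) := by
        rw [← cA_spec hM hb hξ hψ, h1]
        push_cast
        rw [Finset.mul_sum, Finset.mul_sum]
        refine Finset.sum_congr rfl fun χ _ => ?_
        by_cases h0 : c ξ χ = 0
        · rw [h0]; simp
        · have h3 := cA_spec hM hb ((hc ξ hξ).1 χ h0).1 hψ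
          linear_combination (c ξ χ : ℂ) * h3
      have h3 := mul_left_cancel₀ hcH h2
      exact_mod_cast h3
    · rw [cA_off (Or.inr hψ)]
      symm
      apply Finset.sum_eq_zero
      intro χ _
      rw [cA_off (Or.inr hψ), mul_zero]
  have hAn : ∀ ψ, An (cA p b) x' ψ = An (cA p b) x ψ := by
    intro ψ
    rw [An, An, hx']
    simp only [Finset.sum_mul]
    rw [Finset.sum_comm]
    refine Finset.sum_congr rfl fun ξ _ => ?_
    by_cases hξ : ξ ∈ b
    · simp only [if_pos hξ]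
      rw [hcA ξ hξ ψ, Finset.mul_sum]
      exact Finset.sum_congr rfl fun χ _ => by ring
    · simp only [if_neg hξ, zero_mul, Finset.sum_const_zero]
      rw [cA_off (Or.inl hξ), mul_zero]
  have hm : mbil (cA p b) x x = mbil (cA p b) x' x' := by
    rw [mbil_An, Finset.sum_congr rfl fun η _ => by rw [← hAn η], ← mbil_An, mbil_symm cA_symm, mbil_An,
      Finset.sum_congr rfl fun η _ => by rw [← hAn η], ← mbil_An]
  have hsupp : ∀ χ, x' χ ≠ 0 → ∃ χ', χ = inflI Z χ' := by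
    intro χ hχ
    rw [hx'] at hχ
    obtain ⟨ξ, -, hξ⟩ := Finset.exists_ne_zero_of_sum_ne_zero hχ
    split_ifs at hξ with h1
    · exact exists_defl Z ((hc ξ h1).1 χ (right_ne_zero_of_mul hξ)).2
    · exact absurd rfl hξ
  have hinj : Function.Injective (inflI Z : IrrCharacter (H ⧸ Z) → IrrCharacter H) := fun χ ψ h => inflI_injective Z h
  have hsum : ∀ f : IrrCharacter H → ℤ, (∀ χ, (∀ χ', χ ≠ inflI Z χ') → f χ = 0) → ∑ χ, f χ = ∑ χ', f (inflI Z χ') := by
    intro f hf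
    rw [← Finset.sum_image (s := Finset.univ) (f := f) (g := inflI Z) (fun x _ y _ h => hinj h)]
    symm
    apply Finset.sum_subset (Finset.subset_univ _)
    intro χ _ hχ
    apply hf
    intro χ' h
    exact hχ (Finset.mem_image.2 ⟨χ', Finset.mem_univ _, h.symm⟩)
  refine ⟨fun χ' => x' (inflI Z χ'), ?_⟩
  rw [hm, mbil, mbil, hsum]
  · refine Finset.sum_congr rfl fun ζ _ => ?_
    rw [hsum]
    · exact Finset.sum_congr rfl fun ξ _ => by rw [cA_infl hM hZ hZp hb hb' hiff hd]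
    · intro χ hχ
      have : x' χ = 0 := by
        by_contra h
        obtain ⟨χ', h'⟩ := hsupp χ h
        exact hχ χ' h'
      rw [this]; ring
  · intro χ hχ
    have : x' χ = 0 := by
      by_contra h
      obtain ⟨χ', h'⟩ := hsupp χ h
      exact hχ χ' h'
    apply Finset.sum_eq_zero
    intro ξ _
    rw [this]; ring

end CQ

end CfsgDo
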