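import Cfsg.Agent.H4.Do7
import Cfsg.Agent.H5.Quick3

set_option autoImplicit false
set_option linter.all false

/-! # Bounds on the number of characters in a block -/

open Cfsg MonoidAlgebra
open CfsgH4 hiding centralChar sum_conj regInner_symm ev_ca
open CfsgH5 CfsgSub CfsgAb ComplexConjugate

namespace CfsgDo

section Central

variable {H : Type*} [Group H] [Fintype H] {M : Ideal AlgInt} {p : ℕ} [hp : Fact p.Prime]

/-- the lattice bound in the presence of a central `p`-subgroup -/
theorem central_bound (hM : IsPModular p M) {Z : Subgroup H} (hZ : Z ≤ Subgroup.center H) (hZp : IsPGroup p Z)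
    (hZ1 : Z ≠ ⊥) {b : Set (IrrCharacter H)} (hb : IsPBlock M b) (hd : blockDefect p b ≤ 2) (x : IrrCharacter H → ℤ)
    (hx : mbil (cA p b) x x ≠ 0) : (blockRank p b : ℤ) ≤ mbil (cA p b) x x := by
  classical
  haveI := IsPModular.isPrime hM
  haveI : Z.Normal := ⟨fun n hn g => by
    have h1 := Subgroup.mem_center_iff.1 (hZ hn) g
    rw [h1, mul_inv_cancel_right]; exact hn⟩
  haveI := Fintype.ofFinite (H ⧸ Z)
  obtain ⟨b', hb', hiff, hdd⟩ := exists_bar hM hZ hZp hb
  obtain ⟨y, hy⟩ := mbil_bar hM hZ hZp hb hb' hiff hdd x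
  have hr := rank_bar hM hZ hZp hb hiff
  have hZc : p ∣ Nat.card Z := by
    obtain ⟨n, hn⟩ := hZp.exists_card_eq
    rw [hn]
    apply dvd_pow_self
    rintro rfl
    rw [pow_zero, Subgroup.card_eq_one] at hn
    exact hZ1 hn
  have hd' : blockDefect p b' ≤ 1 := by
    by_contra h
    push Not at h
    obtain ⟨m, hm⟩ := hZc
    have h1 : p ^ 3 ∣ p ^ blockDefect p b := by
      rw [hdd, hm]
      have h2 : p ^ 2 ∣ p ^ blockDefect p b' := pow_dvd_pow p h
      have h3 : p ^ 3 = p * p ^ 2 := by ring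
      rw [h3]
      exact mul_dvd_mul (Dvd.intro _ rfl) h2
    have h2 := (Nat.pow_dvd_pow_iff_le_right hp.out.one_lt).1 h1
    omega
  have hpos := (isBil_cA hM hb).nonneg x
  rw [hy] at hx hpos ⊢
  rcases Nat.le_one_iff_eq_zero_or_eq_one.1 hd' with h0 | h1
  · have h2 := (dz_one hM hb' h0).2
    have h3 : (blockRank p b : ℤ) ≤ 1 := by rw [h2] at hr; exact_mod_cast hr
    omega
  · have h2 := defect_one_bound hM hb' h1 y hx
    have h3 : (blockRank p b : ℤ) ≤ blockRank p b' := by exact_mod_cast hr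
    linarith

end Central

section Major

variable {G : Type*} [Group G] [Fintype G] {M : Ideal AlgInt} {p : ℕ} [hp : Fact p.Prime]

/-- existence of a major subsection at a central element of order `p` -/
theorem exists_major (hM : IsPModular p M) {B : Set (IrrCharacter G)} (hB : IsPBlock M B) (hd : blockDefect p B ≠ 0) :
    ∃ (z : G) (b : Set (IrrCharacter (cz (Subgroup.zpowers z)))), z ≠ 1 ∧ orderOf z = p ∧
      IsInducedBlock M (cz (Subgroup.zpowers z)) b B ∧ blockDefect p b = blockDefect p B := by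
  classical
  haveI := IsPModular.isPrime hM
  obtain ⟨P, hP⟩ := exists_defectGroup hM hB
  obtain ⟨χ, hχ, h0⟩ := exists_height_zero p (B := B) (IsPBlock.nonempty hB)
  obtain ⟨e, hmax, -⟩ := exists_pair hM hB hP hχ h0
  have hPp : IsPGroup p P := hmax.1.1
  have hcp : Nat.card P = p ^ blockDefect p B := defectGroup_card hM hB hP
  haveI : Nontrivial P := by
    rw [← Finite.one_lt_card_iff_nontrivial, hcp]
    exact Nat.one_lt_pow hd hp.out.one_lt
  haveI := hPp.center_nontrivial
  have hZp : IsPGroup p (Subgroup.center P) := hPp.to_subgroup _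
  obtain ⟨n, hn⟩ := hZp.exists_card_eq
  have hpn : p ∣ Nat.card (Subgroup.center P) := by
    rw [hn]
    apply dvd_pow_self
    rintro rfl
    rw [pow_zero] at hn
    have := Finite.one_lt_card (α := Subgroup.center P)
    omega
  obtain ⟨z, hz⟩ := exists_prime_orderOf_dvd_card' p hpn
  have hzo : orderOf (((z : P) : G)) = p := by rw [Subgroup.orderOf_coe, Subgroup.orderOf_coe, hz]
  have hz1 : ((z : P) : G) ≠ 1 := by
    intro h
    rw [h, orderOf_one] at hzo
    exact hp.out.one_lt.ne hzo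
  have hzP : ((z : P) : G) ∈ P := (z : P).2
  have hPC : P ≤ cz (Subgroup.zpowers ((z : P) : G)) := by
    intro x hx
    rw [mem_cz_zpowers]
    have h1 := Subgroup.mem_center_iff.1 z.2 ⟨x, hx⟩
    exact (congrArg Subtype.val h1).symm
  have hQ : Subgroup.zpowers ((z : P) : G) ≤ P := by rw [Subgroup.zpowers_le]; exact hzP
  have he : IsBl (cz P) e := hmax.1.2.2.2.1
  have hBt := isBl_top hB
  have hle := bq_le (a := (P, e)) hM hPp he hQ
  set f := bq p (P, e) (Subgroup.zpowers ((z : P) : G)) with hf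
  have hns : NS p (Subgroup.zpowers ((z : P) : G), f) (P, e) := hle.ns hM he hPp (hPC.trans (cz_le_nz _))
  have hMP : MP p (cz (Subgroup.zpowers ((z : P) : G))) f (P, e) := by
    refine ⟨⟨hPp, hPC, cz_le_cz hle.le, he, hns.mul⟩, fun c hc hPc => ?_⟩
    exact hmax.2 c ((LE.of_iff hM hBt hPc le_top le_top).1 hmax.1) hPc
  have hbl : IsBl (cz (Subgroup.zpowers ((z : P) : G))) f := hle.isBl he
  have hdg : DG p (cz (Subgroup.zpowers ((z : P) : G))) f P := hMP.dg hM hbl
  obtain ⟨b, hb, hid⟩ := exists_block_of_isBl hbl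
  have hof : Of p ⊤ (idB M B) (Subgroup.zpowers ((z : P) : G), f) := (LE.of_iff hM hBt hle le_top le_top).2 hmax.1
  refine ⟨((z : P) : G), b, hz1, hzo, ?_, ?_⟩
  · apply (of_iff_ind hM ⟨1, by rw [pow_one, hzo]⟩ hb hB).1
    rwa [hid] at hof
  · rw [hid] at hdg
    have h4 := (isDefectGroup_iff_DG' hM hb hPC).2 hdg
    have h5 := defectGroup_card hM hb h4
    rw [Nat.card_congr (Subgroup.subgroupOfEquivOfLe hPC).toEquiv, hcp] at h5
    exact (Nat.pow_right_injective hp.out.two_le h5).symm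

theorem zp_center (z : G) : Subgroup.zpowers (uc z) ≤ Subgroup.center (cz (Subgroup.zpowers z)) := by
  rw [Subgroup.zpowers_le]; exact uc_center z

theorem zp_order (z : G) : orderOf (uc z) = orderOf z := by
  rw [← Subgroup.orderOf_coe]; rfl

/-- `k(B) ≤ p ^ d` for `d ≤ 2` -/
theorem card_le_two (hM : IsPModular p M) {B : Set (IrrCharacter G)} (hB : IsPBlock M B) (hd : blockDefect p B ≤ 2) :
    Nat.card B ≤ p ^ blockDefect p B := by
  classical
  haveI := IsPModular.isPrime hM
  by_cases h0 : blockDefect p B = 0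
  · rw [(dz_one hM hB h0).1, h0, pow_zero]
  obtain ⟨z, b, hz1, hzo, hind, hdb⟩ := exists_major hM hB h0
  haveI := Fintype.ofFinite (cz (Subgroup.zpowers z))
  have hup : ∃ k, orderOf (z : G) = p ^ k := ⟨1, by rw [pow_one, hzo]⟩
  have hZp : IsPGroup p (Subgroup.zpowers (uc z)) := CfsgH5.isPGroup_zpowers ⟨1, by rw [pow_one, zp_order, hzo]⟩
  have h1 := major_card_mul_le (u := uc z) hM (cz_zpowers_eq z) hup hind hdb (τ := blockRank p b) (fun x hx =>
    central_bound hM (zp_center z) hZp (by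
      rw [Ne, Subgroup.zpowers_eq_bot]
      intro h; exact hz1 (congrArg Subtype.val h)) hind.1 (by rw [hdb]; exact hd) x
      (fun h => hx ((mem_rad_iff hM hind.1).2 h)))
  have h2 : 0 < blockRank p b := Nat.pos_of_ne_zero (blockRank_ne_zero hM hind.1)
  rw [mul_comm] at h1
  exact Nat.le_of_mul_le_mul_left h1 h2

end Major

section Main

universe u

variable {M : Ideal AlgInt} {p : ℕ} [hp : Fact p.Prime]

theorem card_le_all (hM : IsPModular p M) : ∀ (d : ℕ) {G : Type u} [Group G] [Fintype G] {B : Set (IrrCharacter G)},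
    IsPBlock M B → blockDefect p B = d → (d ≤ 2 → Nat.card B ≤ p ^ d) ∧ (3 ≤ d → Nat.card B ≤ p ^ (2 * d - 2)) := by
  intro d
  induction d with
  | zero =>
    intro G _ _ B hB hd
    refine ⟨fun _ => ?_, fun h => by omega⟩
    rw [(dz_one hM hB hd).1, pow_zero]
  | succ d ih =>
    intro G _ _ B hB hd
    refine ⟨fun h => ?_, fun h3 => ?_⟩
    · rw [← hd] at h ⊢; exact card_le_two hM hB h
    classical
    haveI := IsPModular.isPrime hM
    by_cases hht : ∀ χ ∈ B, blockHeight p B (χ : G → ℂ) = 0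
    · -- all heights zero
      obtain ⟨z, b, hz1, hzo, hind, hdb⟩ := exists_major hM hB (by omega)
      haveI := Fintype.ofFinite (cz (Subgroup.zpowers z))
      have hup : ∃ k, orderOf (z : G) = p ^ k := ⟨1, by rw [pow_one, hzo]⟩
      have hZp : IsPGroup p (Subgroup.zpowers (uc z)) := CfsgH5.isPGroup_zpowers ⟨1, by rw [pow_one, zp_order, hzo]⟩
      have hZ := zp_center z
      haveI : (Subgroup.zpowers (uc z)).Normal := ⟨fun n hn g => by
        have h1 := Subgroup.mem_center_iff.1 (hZ hn) g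
        rw [h1, mul_inv_cancel_right]; exact hn⟩
      haveI := Fintype.ofFinite (cz (Subgroup.zpowers z) ⧸ Subgroup.zpowers (uc z))
      obtain ⟨b', hb', hiff, hdd⟩ := exists_bar hM hZ hZp hind.1
      have hr := rank_bar hM hZ hZp hind.1 hiff
      have hd' : blockDefect p b' = d := by
        rw [hdb, hd, Nat.card_zpowers, zp_order, hzo, pow_succ, mul_comm p] at hdd
        have h1 := Nat.eq_of_mul_eq_mul_right hp.out.pos hdd
        exact (Nat.pow_right_injective hp.out.two_le h1).symm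
      obtain ⟨ih1, ih2⟩ := ih hb' hd'
      have hkb : Nat.card b' ≤ p ^ (2 * d - 2) := by
        by_cases h2 : d ≤ 2
        · have h3 : d = 2 := by omega
          have := ih1 h2
          rw [h3] at this ⊢
          exact this
        · exact ih2 (by omega)
      have hl : blockRank p b ≤ p ^ (2 * d - 2) := hr.trans (blockRank_le.trans hkb)
      have hrob := robinson (u := uc z) hM (cz_zpowers_eq z) hup hind
      have hcard : Nat.card {χ : IrrCharacter G // χ ∈ B ∧ blockHeight p B (χ : G → ℂ) = 0} = Nat.card B :=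
        Nat.card_congr (Equiv.subtypeEquivRight fun χ => ⟨fun h => h.1, fun h => ⟨h, hht χ h⟩⟩)
      rw [hcard, hdb, hd] at hrob
      have h4 : Nat.card B ^ 2 ≤ (p ^ (2 * (d + 1) - 2)) ^ 2 := by
        refine hrob.trans ((Nat.mul_le_mul_right _ hl).trans (le_of_eq ?_))
        rw [← pow_add, ← pow_mul]
        congr 1; omega
      exact (Nat.pow_le_pow_iff_left two_ne_zero).1 h4
    · -- some positive height
      push Not at hht
      obtain ⟨ξ, hξ, hξh⟩ := hht
      obtain ⟨ψ₀, hψ₀, hψ₀h⟩ := exists_height_zero p (B := B) (IsPBlock.nonempty hB)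
      set S0 : Finset (IrrCharacter G) := Finset.univ.filter (fun χ => χ ∈ B ∧ blockHeight p B (χ : G → ℂ) = 0) with hS0
      set S1 : Finset (IrrCharacter G) := Finset.univ.filter (fun χ => χ ∈ B ∧ blockHeight p B (χ : G → ℂ) ≠ 0) with hS1
      have hk : Nat.card B = S0.card + S1.card := by
        rw [Nat.card_eq_fintype_card, Fintype.card_subtype, ← Finset.card_filter_add_card_filter_not (s := Finset.univ.filter (fun χ : IrrCharacter G => χ ∈ B))
          (fun χ => blockHeight p B (χ : G → ℂ) = 0), Finset.filter_filter, Finset.filter_filter]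
      have hp0 : (p : ℤ) ≠ 0 := by exact_mod_cast hp.out.ne_zero
      have hdisj : ∀ (A : ℤ) (P : ℤ), 4 * (P * A - A ^ 2) ≤ P ^ 2 := fun A P => by nlinarith [sq_nonneg (P - 2 * A)]
      -- the row of ξ
      have hk0 : 4 * ((S0.card : ℤ) * (p : ℤ) ^ 2) ≤ ((p : ℤ) ^ (d + 1)) ^ 2 := by
        obtain ⟨A, -, -, h3, h4, h5, h6, -, h8, -, -⟩ := contr hM hB hξ
        rw [hd] at h3 h5
        have hξS : ξ ∉ S0 := fun h => hξh (Finset.mem_filter.1 h).2.2
        have h9 : (A ξ) ^ 2 + (S0.card : ℤ) * (p : ℤ) ^ 2 ≤ ∑ ψ : IrrCharacter G, A ψ ^ 2 := by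
          calc (A ξ) ^ 2 + (S0.card : ℤ) * (p : ℤ) ^ 2 = (A ξ) ^ 2 + ∑ ψ ∈ S0, (p : ℤ) ^ 2 := by
                rw [Finset.sum_const, nsmul_eq_mul]
            _ ≤ (A ξ) ^ 2 + ∑ ψ ∈ S0, A ψ ^ 2 := by
                apply add_le_add le_rfl
                refine Finset.sum_le_sum fun ψ hψ => ?_
                obtain ⟨hψB, hψh⟩ := (Finset.mem_filter.1 hψ).2
                obtain ⟨q, hq⟩ : (p : ℤ) ∣ A ψ := (dvd_pow_self (p : ℤ) hξh).trans (h6 ψ)
                have hne : A ψ ≠ 0 := fun h => h8 ψ hψB hψh (by rw [h]; exact dvd_zero _)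
                have hq0 : q ≠ 0 := by rintro rfl; exact hne (by rw [hq, mul_zero])
                have hq1 : 1 ≤ q ^ 2 := by
                  have : 0 < q ^ 2 := by positivity
                  exact this
                rw [hq, mul_pow]
                nlinarith [sq_nonneg (p : ℤ)]
            _ = ∑ ψ ∈ insert ξ S0, A ψ ^ 2 := by rw [Finset.sum_insert hξS]
            _ ≤ _ := Finset.sum_le_sum_of_subset_of_nonneg (Finset.subset_univ _) (fun _ _ _ => sq_nonneg _)
        rw [h3] at h9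
        have := hdisj (A ξ) ((p : ℤ) ^ (d + 1))
        linarith
      have hk1 : 4 * ((S1.card : ℤ) * (p : ℤ) ^ 2) ≤ ((p : ℤ) ^ (d + 1)) ^ 2 := by
        obtain ⟨A, -, -, h3, h4, h5, -, h7, -, -, h10⟩ := contr hM hB hψ₀
        rw [hd] at h3 h5
        have hψS : ψ₀ ∉ S1 := fun h => (Finset.mem_filter.1 h).2.2 hψ₀h
        have h9 : (A ψ₀) ^ 2 + (S1.card : ℤ) * (p : ℤ) ^ 2 ≤ ∑ ψ : IrrCharacter G, A ψ ^ 2 := by
          calc (A ψ₀) ^ 2 + (S1.card : ℤ) * (p : ℤ) ^ 2 = (A ψ₀) ^ 2 + ∑ ψ ∈ S1, (p : ℤ) ^ 2 := by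
                rw [Finset.sum_const, nsmul_eq_mul]
            _ ≤ (A ψ₀) ^ 2 + ∑ ψ ∈ S1, A ψ ^ 2 := by
                apply add_le_add le_rfl
                refine Finset.sum_le_sum fun ψ hψ => ?_
                obtain ⟨hψB, hψh⟩ := (Finset.mem_filter.1 hψ).2
                obtain ⟨q, hq⟩ : (p : ℤ) ∣ A ψ := (dvd_pow_self (p : ℤ) hψh).trans (h7 ψ hψB)
                have hne : A ψ ≠ 0 := h10 hψ₀h ψ hψB
                have hq0 : q ≠ 0 := by rintro rfl; exact hne (by rw [hq, mul_zero])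
                have hq1 : 1 ≤ q ^ 2 := by
                  have : 0 < q ^ 2 := by positivity
                  exact this
                rw [hq, mul_pow]
                nlinarith [sq_nonneg (p : ℤ)]
            _ = ∑ ψ ∈ insert ψ₀ S1, A ψ ^ 2 := by rw [Finset.sum_insert hψS]
            _ ≤ _ := Finset.sum_le_sum_of_subset_of_nonneg (Finset.subset_univ _) (fun _ _ _ => sq_nonneg _)
        rw [h3] at h9
        have := hdisj (A ψ₀) ((p : ℤ) ^ (d + 1))
        linarith
      have hfin : (Nat.card B : ℤ) * (p : ℤ) ^ 2 ≤ (p : ℤ) ^ (2 * (d + 1) - 2) * (p : ℤ) ^ 2 := by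
        have e1 : (p : ℤ) ^ (2 * (d + 1) - 2) * (p : ℤ) ^ 2 = ((p : ℤ) ^ (d + 1)) ^ 2 := by
          rw [← pow_add, ← pow_mul]; congr 1; omega
        rw [e1, hk]
        push_cast
        nlinarith [sq_nonneg ((p : ℤ) ^ (d + 1))]
      have hp2 : (0 : ℤ) < (p : ℤ) ^ 2 := by positivity
      have := le_of_mul_le_mul_right hfin hp2
      exact_mod_cast this

end Main

end CfsgDo
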