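import Cfsg.Agent.H4.Glb6
import Cfsg.Agent.S0867

/-!
# Canonical extensions and the Glauberman correspondence for cyclic operator groups
-/

set_option autoImplicit false

open Cfsg MonoidAlgebra
open CfsgH4 hiding centralChar sum_conj
open CfsgH5 ComplexConjugate

namespace CfsgH4

section Cyc

variable {Γ : Type*} [Group Γ] [Fintype Γ] {G S C : Subgroup Γ} [hG : G.Normal] [Fintype G]

theorem compl_of (htop : G ⊔ S = ⊤) (hcop : (Nat.card G).Coprime (Nat.card S)) :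
    S.IsComplement' G := by
  refine Subgroup.isComplement'_of_disjoint_and_mul_eq_univ
    (Subgroup.disjoint_of_coprime_natCard hcop.symm) ?_
  rw [← Subgroup.mul_normal, sup_comm, htop]
  rfl

theorem canon_pow (htop : G ⊔ S = ⊤) (hcop : (Nat.card G).Coprime (Nat.card S))
    (hcomm : ∀ a ∈ S, ∀ b ∈ S, a * b = b * a) {χh : IrrCharacter Γ}
    (hres : IsIrrCharacter G (fun g : G => (χh : Γ → ℂ) g))
    (hdet : (detOrder (χh : Γ → ℂ)).Coprime (Nat.card S)) {j : ℕ} (hj : j.Coprime (Nat.card Γ))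
    (hj1 : ∀ g ∈ G, g ^ j = g) (x : Γ) : (χh : Γ → ℂ) (x ^ j) = (χh : Γ → ℂ) x := by
  classical
  have h1 : IsIrrCharacter Γ (fun x => (χh : Γ → ℂ) (x ^ j)) := isIrrCharacter_pow_arg hj χh.2
  have h2 : (fun n : G => (χh : Γ → ℂ) ((n : Γ) ^ j)) = fun n : G => (χh : Γ → ℂ) n := by
    funext n
    rw [hj1 n n.2]
  obtain ⟨β, hβ, hβG, hβe⟩ := (gallagher G (IsIrr.isCharacter χh.2) hres).2.2 _ h1 (by
    rw [h2, classInner_irr_self hres]
    exact one_ne_zero)
  have hd0 := IsIrr.one_ne_zero χh.2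
  have h3 : β 1 = 1 := by
    have h4 : (χh : Γ → ℂ) (1 ^ j) = β 1 * (χh : Γ → ℂ) 1 := congrFun hβe 1
    rw [one_pow] at h4
    exact (mul_right_cancel₀ hd0 (by rw [one_mul]; exact h4)).symm
  obtain ⟨f, hf⟩ := IsCharacter.linear_of_one (IsIrr.isCharacter hβ) h3
  have hf1 : ∀ x, (χh : Γ → ℂ) (x ^ j) = (f x : ℂ) * (χh : Γ → ℂ) x := fun x => by
    have := congrFun hβe x
    rw [hf] at this
    exact this
  have hfG : ∀ g ∈ G, f g = 1 := fun g hg => by
    have := hβG g hg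
    rw [h3, hf] at this
    exact Units.ext this
  obtain ⟨k, hk⟩ := exists_det_hom (IsIrr.isCharacter χh.2)
  have hke : detChar (χh : Γ → ℂ) = fun n => (k n : ℂ) := by ext n; exact hk n
  have hko : detOrder (χh : Γ → ℂ) = orderOf k := by
    unfold detOrder
    rw [hke, orderOf_linear]
  have hpow1 : ∀ s ∈ S, ∀ u : Γ →* ℂˣ, u s ^ Nat.card S = 1 := fun s hs u => by
    have h4 : (⟨s, hs⟩ : S) ^ Nat.card S = 1 := pow_card_eq_one'
    have h5 : s ^ Nat.card S = 1 := congrArg Subtype.val h4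
    rw [← map_pow, h5, map_one]
  have hcopone : ∀ (z : ℂˣ) (a b : ℕ), a.Coprime b → z ^ a = 1 → z ^ b = 1 → z = 1 := by
    intro z a b hab ha hb
    have h4 := Nat.dvd_gcd (orderOf_dvd_iff_pow_eq_one.2 ha) (orderOf_dvd_iff_pow_eq_one.2 hb)
    rw [hab] at h4
    exact orderOf_eq_one_iff.1 (Nat.dvd_one.1 h4)
  have hkS : ∀ s ∈ S, k s = 1 := fun s hs =>
    hcopone _ _ _ (hko ▸ hdet) (hom_orderOf_apply k s) (hpow1 s hs k)
  obtain ⟨d, hd⟩ := IsCharacter.one_nat (IsIrr.isCharacter χh.2)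
  have hdG : d ∣ Nat.card G := degree_dvd_card hres hd
  let P : S →* S :=
    { toFun := fun s => s ^ j
      map_one' := one_pow _
      map_mul' := fun a b => (Commute.mul_pow (Subtype.ext (hcomm a a.2 b b.2)) j) }
  have hψ : IsCharacter S (fun s : S => (χh : Γ → ℂ) s) := isCharacter_restrict S (IsIrr.isCharacter χh.2)
  have hdetS : ∀ s : S, detChar (fun s : S => (χh : Γ → ℂ) s) s = 1 := fun s => by
    have h4 := detChar_comp S.subtype (IsIrr.isCharacter χh.2) s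
    rw [hk, show (S.subtype s : Γ) = s from rfl, hkS _ s.2] at h4
    exact h4
  have hfS : ∀ s ∈ S, f s = 1 := by
    intro s hs
    have h4 := detChar_mul_linear (f.comp S.subtype) hψ (d := d) hd ⟨s, hs⟩
    have h5 := detChar_comp P hψ ⟨s, hs⟩
    rw [hdetS] at h4 h5
    have h6 : (fun g : S => ((f.comp S.subtype) g : ℂ) * (χh : Γ → ℂ) g) =
        fun g : S => (χh : Γ → ℂ) (P g : S) := by
      funext g
      exact (hf1 g).symm
    rw [h6, h5, mul_one] at h4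
    have h7 : f s ^ d = 1 := Units.ext (by
      push_cast
      exact h4.symm)
    exact hcopone _ _ _ (Nat.Coprime.coprime_dvd_left hdG hcop) h7 (hpow1 s hs f)
  have hf2 : f x = 1 := by
    have h4 : G ⊔ S ≤ f.ker := sup_le (fun g hg => hfG g hg) (fun s hs => hfS s hs)
    rw [htop] at h4
    exact h4 trivial
  rw [hf1 x, hf2, Units.val_one, one_mul]

/-- the multiplication map of commuting subgroups -/
def csHom (hC : C = G ⊓ Subgroup.centralizer (S : Set Γ)) : C × S →* Γ where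
  toFun x := x.1 * x.2
  map_one' := by simp
  map_mul' a b := by
    have h1 : (b.1 : Γ) ∈ Subgroup.centralizer (S : Set Γ) := (hC.le b.1.2).2
    have h2 := Subgroup.mem_centralizer_iff.1 h1 a.2 a.2.2
    show ((a.1 : Γ) * b.1) * (a.2 * b.2) = (a.1 * a.2) * (b.1 * b.2)
    calc ((a.1 : Γ) * b.1) * (a.2 * b.2) = a.1 * (b.1 * a.2) * b.2 := by group
      _ = a.1 * (a.2 * b.1) * b.2 := by rw [h2]
      _ = (a.1 * a.2) * (b.1 * b.2) := by group

theorem exists_exp (hcop : (Nat.card G).Coprime (Nat.card S)) (htop : G ⊔ S = ⊤) {k : ℕ}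
    (hk : k.Coprime (Nat.card S)) :
    ∃ j : ℕ, j.Coprime (Nat.card Γ) ∧ (∀ g ∈ G, g ^ j = g) ∧ ∀ s ∈ S, s ^ j = s ^ k := by
  obtain ⟨j, h1, h2⟩ := Nat.chineseRemainder hcop 1 k
  refine ⟨j, ?_, ?_, ?_⟩
  · rw [← (compl_of htop hcop).card_mul_card]
    refine Nat.Coprime.mul_right ?_ ?_
    · have := h2.gcd_eq
      rw [Nat.Coprime, this]
      exact hk
    · have := h1.gcd_eq
      rw [Nat.Coprime, this]
      simp
  · intro g hg
    have h3 : g ^ j = g ^ 1 := pow_eq_pow_iff_modEq.2 (h1.of_dvd (by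
      have := orderOf_dvd_natCard (⟨g, hg⟩ : G)
      rwa [Subgroup.orderOf_mk] at this))
    rw [h3, pow_one]
  · intro g hg
    exact pow_eq_pow_iff_modEq.2 (h2.of_dvd (by
      have := orderOf_dvd_natCard (⟨g, hg⟩ : S)
      rwa [Subgroup.orderOf_mk] at this))

variable [Fintype C]

theorem csHom_apply (hC : C = G ⊓ Subgroup.centralizer (S : Set Γ)) (c : C) (s : S) :
    csHom hC (c, s) = (c : Γ) * s := rfl

/-- powers of elements of `S` do not change the values on the coset -/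
theorem canon_gen (htop : G ⊔ S = ⊤) (hcop : (Nat.card G).Coprime (Nat.card S))
    (hcomm : ∀ a ∈ S, ∀ b ∈ S, a * b = b * a)
    (hC : C = G ⊓ Subgroup.centralizer (S : Set Γ)) {χh : IrrCharacter Γ}
    (hres : IsIrrCharacter G (fun g : G => (χh : Γ → ℂ) g))
    (hdet : (detOrder (χh : Γ → ℂ)).Coprime (Nat.card S)) {k : ℕ} (hk : k.Coprime (Nat.card S))
    (c : C) (s : S) : (χh : Γ → ℂ) (c * (s : Γ) ^ k) = (χh : Γ → ℂ) (c * s) := by
  obtain ⟨j, hj, hjG, hjS⟩ := exists_exp hcop htop hk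
  rw [← canon_pow htop hcop hcomm hres hdet hj hjG (c * s)]
  have hcG : (c : Γ) ∈ G := (hC.le c.2).1
  have h1 : (c : Γ) ∈ Subgroup.centralizer (S : Set Γ) := (hC.le c.2).2
  have h2 : Commute (c : Γ) (s : Γ) := (Subgroup.mem_centralizer_iff.1 h1 s s.2).symm
  rw [h2.mul_pow, hjG _ hcG, hjS _ s.2]

/-- the character of `S` attached to `χh` and `β` -/
theorem slice_isCharacter (hC : C = G ⊓ Subgroup.centralizer (S : Set Γ)) [Fintype S]
    (χh : IrrCharacter Γ) (β : IrrCharacter C) :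
    IsCharacter S (fun s => classInner (fun c : C => (χh : Γ → ℂ) (c * s)) (β : C → ℂ)) :=
  slice_char (F := fun x : C × S => (χh : Γ → ℂ) (csHom hC x))
    (isCharacter_comp (csHom hC) (IsIrr.isCharacter χh.2)) β.2

theorem slice_int (htop : G ⊔ S = ⊤) (hcop : (Nat.card G).Coprime (Nat.card S))
    (hcomm : ∀ a ∈ S, ∀ b ∈ S, a * b = b * a)
    (hC : C = G ⊓ Subgroup.centralizer (S : Set Γ)) {χh : IrrCharacter Γ}
    (hres : IsIrrCharacter G (fun g : G => (χh : Γ → ℂ) g))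
    (hdet : (detOrder (χh : Γ → ℂ)).Coprime (Nat.card S)) (s : S) (β : IrrCharacter C) :
    ∃ n : ℤ, classInner (fun c : C => (χh : Γ → ℂ) (c * s)) (β : C → ℂ) = n := by
  classical
  haveI := Fintype.ofFinite S
  have ha := slice_isCharacter hC χh β
  have hint : IsIntegral ℤ (classInner (fun c : C => (χh : Γ → ℂ) (c * s)) (β : C → ℂ)) :=
    IsCharacter.isIntegral ha s
  obtain ⟨q, hq⟩ := rat_of_fixed (IsIntegral.tower_top (A := ℚ) hint) (fun σ => by
    obtain ⟨k, hk, hσ⟩ := aut_pow (Nat.card_pos (α := S)) σ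
    refine (char_aut_pow (fun g : S => orderOf_dvd_natCard g) σ hσ ha s).trans ?_
    show classInner (fun c : C => (χh : Γ → ℂ) (c * ((s ^ k : S) : Γ))) (β : C → ℂ) = _
    rw [Subgroup.coe_pow]
    congr 1
    funext c
    exact canon_gen htop hcop hcomm hC hres hdet hk c s)
  exact int_of_isIntegral_rat hint hq

theorem slice_gen (htop : G ⊔ S = ⊤) (hcop : (Nat.card G).Coprime (Nat.card S))
    (hcomm : ∀ a ∈ S, ∀ b ∈ S, a * b = b * a)
    (hC : C = G ⊓ Subgroup.centralizer (S : Set Γ)) {χh : IrrCharacter Γ}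
    (hres : IsIrrCharacter G (fun g : G => (χh : Γ → ℂ) g))
    (hdet : (detOrder (χh : Γ → ℂ)).Coprime (Nat.card S)) (s : S) :
    IsGeneralizedCharacter C (fun c : C => (χh : Γ → ℂ) (c * s)) := by
  rw [isGen_iff]
  refine ⟨fun x y => ?_, fun χ hχ => slice_int htop hcop hcomm hC hres hdet s ⟨χ, hχ⟩⟩
  have h1 : (y : Γ) ∈ Subgroup.centralizer (S : Set Γ) := (hC.le y.2).2
  have h2 := Subgroup.mem_centralizer_iff.1 h1 s s.2
  have h3 : ((y * x * y⁻¹ : C) : Γ) * s = y * (x * s) * (y : Γ)⁻¹ := by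
    have h4 : (y : Γ)⁻¹ * s = s * (y : Γ)⁻¹ := by
      calc (y : Γ)⁻¹ * s = (y : Γ)⁻¹ * (s * y) * (y : Γ)⁻¹ := by group
        _ = s * (y : Γ)⁻¹ := by rw [h2]; group
    show (y * x * (y : Γ)⁻¹ : Γ) * s = _
    calc (y * x * (y : Γ)⁻¹ : Γ) * s = y * x * ((y : Γ)⁻¹ * s) := by group
      _ = y * (x * s) * (y : Γ)⁻¹ := by rw [h4]; group
  show (χh : Γ → ℂ) (((y * x * y⁻¹ : C) : Γ) * s) = _
  rw [h3]
  exact IsCharacter.conj_eq (IsIrr.isCharacter χh.2) _ _

/-- the norm of a slice is one -/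
theorem slice_norm (htop : G ⊔ S = ⊤) (hcop : (Nat.card G).Coprime (Nat.card S))
    {χh : IrrCharacter Γ} (hres : IsIrrCharacter G (fun g : G => (χh : Γ → ℂ) g)) (s : S)
    (hCs : C = G ⊓ Subgroup.centralizer ({(s : Γ)} : Set Γ)) :
    classInner (fun c : C => (χh : Γ → ℂ) (c * s)) (fun c : C => (χh : Γ → ℂ) (c * s)) = 1 := by
  have hos : (Nat.card G).Coprime (orderOf (s : Γ)) := by
    refine Nat.Coprime.coprime_dvd_right ?_ hcop
    rw [← Subgroup.orderOf_mk (s : Γ) s.2]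
    exact orderOf_dvd_natCard _
  have h1 := cs_sum G C (s : Γ) hCs hos (F := fun x => (χh : Γ → ℂ) x * conj ((χh : Γ → ℂ) x))
    (fun x y => by simp only [IsIrr.isClassFunction χh.2 x y])
  rw [coset_self G hres (s : Γ)] at h1
  have hC0 := card_ne_zero C
  have hG0 := card_ne_zero G
  rw [classInner_def, inv_mul_eq_iff_eq_mul₀ hC0, mul_one]
  exact mul_left_cancel₀ hG0 (h1.trans (mul_comm _ _))

theorem slice_pm (htop : G ⊔ S = ⊤) (hcop : (Nat.card G).Coprime (Nat.card S))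
    (hcomm : ∀ a ∈ S, ∀ b ∈ S, a * b = b * a)
    (hC : C = G ⊓ Subgroup.centralizer (S : Set Γ)) {χh : IrrCharacter Γ}
    (hres : IsIrrCharacter G (fun g : G => (χh : Γ → ℂ) g))
    (hdet : (detOrder (χh : Γ → ℂ)).Coprime (Nat.card S)) (s : S)
    (hCs : C = G ⊓ Subgroup.centralizer ({(s : Γ)} : Set Γ)) :
    ∃ (β : IrrCharacter C) (ε : ℤ), (ε = 1 ∨ ε = -1) ∧
      ∀ c : C, (χh : Γ → ℂ) (c * s) = (ε : ℂ) * (β : C → ℂ) c := by
  have h1 := slice_gen htop hcop hcomm hC hres hdet s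
  rcases IsGen.norm_one h1 (slice_norm htop hcop hres s hCs) with h2 | h2
  · exact ⟨⟨_, h2⟩, 1, Or.inl rfl, fun c => by simp⟩
  · exact ⟨⟨_, h2⟩, -1, Or.inr rfl, fun c => by simp⟩

theorem centralizer_gen {s : Γ} (hs : Subgroup.zpowers s = S) :
    Subgroup.centralizer ({s} : Set Γ) = Subgroup.centralizer (S : Set Γ) := by
  rw [← hs]
  exact (Subgroup.centralizer_closure {s}).symm.trans (by rw [Subgroup.zpowers_eq_closure])

theorem gen_pow {s t : Γ} (hs : Subgroup.zpowers s = S) (ht : Subgroup.zpowers t = S) :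
    ∃ k : ℕ, k.Coprime (Nat.card S) ∧ t = s ^ k := by
  classical
  have h1 : t ∈ Subgroup.zpowers s := by rw [hs, ← ht]; exact Subgroup.mem_zpowers t
  rw [mem_zpowers_iff_mem_range_orderOf, Finset.mem_image] at h1
  obtain ⟨k, hk, hkt⟩ := h1
  refine ⟨k, ?_, hkt.symm⟩
  have h2 : orderOf t = orderOf s := by
    rw [← Nat.card_zpowers, ← Nat.card_zpowers, hs, ht]
  have h3 : Nat.card S = orderOf s := by rw [← hs, Nat.card_zpowers]
  rw [← hkt, orderOf_pow] at h2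
  have h4 := orderOf_pos s
  have h5 : orderOf s / (orderOf s).gcd k * (orderOf s).gcd k = orderOf s :=
    Nat.div_mul_cancel (Nat.gcd_dvd_left _ _)
  rw [h2] at h5
  have h6 : (orderOf s).gcd k = 1 := Nat.eq_of_mul_eq_mul_left h4 (by rw [h5, mul_one])
  rw [h3]
  exact Nat.Coprime.symm h6

theorem cyc_exists (htop : G ⊔ S = ⊤) (hcop : (Nat.card G).Coprime (Nat.card S))
    (hcyc : IsCyclic S)
    (hC : C = G ⊓ Subgroup.centralizer (S : Set Γ)) {χh : IrrCharacter Γ}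
    (hres : IsIrrCharacter G (fun g : G => (χh : Γ → ℂ) g))
    (hdet : (detOrder (χh : Γ → ℂ)).Coprime (Nat.card S)) :
    ∃ (β : IrrCharacter C) (ε : ℤ), (ε = 1 ∨ ε = -1) ∧
      ∀ (c : C) (s : Γ), Subgroup.zpowers s = S →
        (χh : Γ → ℂ) (c * s) = (ε : ℂ) * (β : C → ℂ) c := by
  obtain ⟨⟨s, hsS⟩, hs⟩ := hcyc.exists_generator
  have hs' : Subgroup.zpowers s = S := by
    apply le_antisymm
    · rw [Subgroup.zpowers_le]; exact hsS
    · intro x hx
      obtain ⟨k, hk⟩ := Subgroup.mem_zpowers_iff.1 (hs ⟨x, hx⟩)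
      exact Subgroup.mem_zpowers_iff.2 ⟨k, congrArg Subtype.val hk⟩
  have hcomm : ∀ a ∈ S, ∀ b ∈ S, a * b = b * a := by
    intro a ha b hb
    letI : CommGroup S := hcyc.commGroup
    exact congrArg Subtype.val (mul_comm (⟨a, ha⟩ : S) ⟨b, hb⟩)
  obtain ⟨β, ε, hε, h1⟩ := slice_pm htop hcop hcomm hC hres hdet ⟨s, hsS⟩ (by
    rw [hC, centralizer_gen hs'])
  refine ⟨β, ε, hε, fun c t ht => ?_⟩
  obtain ⟨k, hk, rfl⟩ := gen_pow hs' ht
  rw [← h1 c]
  exact canon_gen htop hcop hcomm hC hres hdet hk c ⟨s, hsS⟩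

theorem sgn_unique {β β' : IrrCharacter C} {ε ε' : ℤ} (hε : ε = 1 ∨ ε = -1) (hε' : ε' = 1 ∨ ε' = -1)
    (h : ∀ c : C, (ε : ℂ) * (β : C → ℂ) c = (ε' : ℂ) * (β' : C → ℂ) c) : β = β' ∧ ε = ε' := by
  have h1 := h 1
  have h2 := one_re_pos β.2
  have h3 := one_re_pos β'.2
  have h4 : (ε : ℝ) * ((β : C → ℂ) 1).re = (ε' : ℝ) * ((β' : C → ℂ) 1).re := by
    have := congrArg Complex.re h1
    simpa using this
  have h5 : ε = ε' := by
    rcases hε with rfl | rfl <;> rcases hε' with rfl | rfl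
    · rfl
    · push_cast at h4; linarith
    · push_cast at h4; linarith
    · rfl
  refine ⟨Subtype.ext (funext fun c => ?_), h5⟩
  have h6 := h c
  rw [h5] at h6
  have h7 : (ε' : ℂ) ≠ 0 := by
    rcases hε' with rfl | rfl <;> norm_num
  exact mul_left_cancel₀ h7 h6

theorem slice_const (hC : C = G ⊓ Subgroup.centralizer (S : Set Γ)) {χh : IrrCharacter Γ}
    {β : IrrCharacter C} {ε : ℤ} (hε : ε = 1 ∨ ε = -1) {s : Γ} (hs : s ∈ S)
    (h : ∀ c : C, (χh : Γ → ℂ) (c * s) = (ε : ℂ) * (β : C → ℂ) c) :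
    classInner (fun c : C => (χh : Γ → ℂ) c) (β : C → ℂ) ≠ 0 := by
  haveI := Fintype.ofFinite S
  intro h0
  have h1 := slice_isCharacter hC χh β
  have h2 := IsCharacter.eq_zero h1 (by
    show classInner (fun c : C => (χh : Γ → ℂ) (c * ((1 : S) : Γ))) (β : C → ℂ) = 0
    simp only [Subgroup.coe_one, mul_one]
    exact h0)
  have h3 : classInner (fun c : C => (χh : Γ → ℂ) (c * s)) (β : C → ℂ) = 0 :=
    congrFun h2 (⟨s, hs⟩ : S)
  have h4 : (fun c : C => (χh : Γ → ℂ) (c * s)) = (ε : ℂ) • (β : C → ℂ) := by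
    funext c
    exact h c
  rw [h4, classInner_smul_left, classInner_irr_self β.2, mul_one] at h3
  rcases hε with rfl | rfl <;> norm_num at h3

theorem cyc_inj (htop : G ⊔ S = ⊤) (hcop : (Nat.card G).Coprime (Nat.card S))
    (hC : C = G ⊓ Subgroup.centralizer (S : Set Γ)) {χh χh' : IrrCharacter Γ}
    (hres : IsIrrCharacter G (fun g : G => (χh : Γ → ℂ) g))
    (hres' : IsIrrCharacter G (fun g : G => (χh' : Γ → ℂ) g))
    {β : IrrCharacter C} {ε ε' : ℤ} (hε : ε = 1 ∨ ε = -1) (hε' : ε' = 1 ∨ ε' = -1) {s : Γ}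
    (hs : Subgroup.zpowers s = S)
    (h : ∀ c : C, (χh : Γ → ℂ) (c * s) = (ε : ℂ) * (β : C → ℂ) c)
    (h' : ∀ c : C, (χh' : Γ → ℂ) (c * s) = (ε' : ℂ) * (β : C → ℂ) c) :
    (fun g : G => (χh : Γ → ℂ) g) = fun g : G => (χh' : Γ → ℂ) g := by
  by_contra hne
  have hsS : s ∈ S := hs ▸ Subgroup.mem_zpowers s
  have hos : (Nat.card G).Coprime (orderOf s) := by
    rw [← Nat.card_zpowers, hs]
    exact hcop
  have h1 := cs_sum G C s (by rw [hC, centralizer_gen hs]) hos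
    (F := fun x => (χh : Γ → ℂ) x * conj ((χh' : Γ → ℂ) x))
    (fun x y => by simp only [IsIrr.isClassFunction χh.2 x y, IsIrr.isClassFunction χh'.2 x y])
  rw [coset_ne G hres hres' hne s, mul_zero] at h1
  have h2 : ∑ c : C, (χh : Γ → ℂ) (c * s) * conj ((χh' : Γ → ℂ) (c * s)) =
      (ε : ℂ) * (ε' : ℂ) * Nat.card C := by
    have h3 : ∀ c : C, (χh : Γ → ℂ) (c * s) * conj ((χh' : Γ → ℂ) (c * s)) =
        (ε : ℂ) * (ε' : ℂ) * ((β : C → ℂ) c * conj ((β : C → ℂ) c)) := by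
      intro c
      rw [h c, h' c, map_mul, map_intCast]
      ring
    rw [Finset.sum_congr rfl fun c _ => h3 c, ← Finset.mul_sum]
    congr 1
    have h4 := classInner_irr_self β.2
    rw [classInner_def, inv_mul_eq_iff_eq_mul₀ (card_ne_zero C), mul_one] at h4
    exact h4
  have hC0 := card_ne_zero C
  have hG0 := card_ne_zero G
  rcases mul_eq_zero.1 h1 with h3 | h3
  · exact hG0 h3
  · rw [h2] at h3
    rcases hε with rfl | rfl <;> rcases hε' with rfl | rfl <;> simp [hC0] at h3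

theorem exists_canon (htop : G ⊔ S = ⊤) (hcop : (Nat.card G).Coprime (Nat.card S))
    (hnorm : ∀ s ∈ S, ∀ g ∈ G, s * g * s⁻¹ ∈ G)
    (χ : IrrCharacter G) (hinv : InvF (conjS G S hnorm) (χ : G → ℂ)) :
    ∃ χh : IrrCharacter Γ, (∀ g : G, (χh : Γ → ℂ) g = (χ : G → ℂ) g) ∧
      (detOrder (χh : Γ → ℂ)).Coprime (Nat.card S) := by
  obtain ⟨d, hd⟩ := IsCharacter.one_nat (IsIrr.isCharacter χ.2)
  have h1 : d ∣ Nat.card G := degree_dvd_card χ.2 hd
  have h2 : detOrder (χ : G → ℂ) ∣ Nat.card G := by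
    obtain ⟨f, hf⟩ := exists_det_hom (IsIrr.isCharacter χ.2)
    have hfe : detChar (χ : G → ℂ) = fun n => (f n : ℂ) := by ext n; exact hf n
    unfold detOrder
    rw [hfe, orderOf_linear]
    exact orderOf_linear_dvd f
  have hidx : G.index = Nat.card S := (compl_of htop hcop).index_eq_card
  have hci : Nat.Coprime G.index (detOrder (χ : G → ℂ) * d) := by
    rw [hidx]
    exact Nat.Coprime.mul_right (Nat.Coprime.coprime_dvd_right h2 hcop.symm)
      (Nat.Coprime.coprime_dvd_right h1 hcop.symm)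
  have hinv' : ∀ (g : Γ) (n : G), (χ : G → ℂ) ⟨g * n * g⁻¹, hG.conj_mem (n : Γ) n.2 g⟩ =
      (χ : G → ℂ) n := by
    intro g n
    have h3 : g ∈ S ⊔ G := by rw [sup_comm, htop]; trivial
    rw [← SetLike.mem_coe, Subgroup.mul_normal] at h3
    obtain ⟨s, hs, k, hk, he⟩ := h3
    have h4 : (⟨g * n * g⁻¹, hG.conj_mem (n : Γ) n.2 g⟩ : G) =
        conjS G S hnorm ⟨s, hs⟩ (⟨k, hk⟩ * n * ⟨k, hk⟩⁻¹) := by
      apply Subtype.ext
      rw [conjS_apply]
      show g * n * g⁻¹ = s * (k * n * k⁻¹) * s⁻¹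
      rw [← he]
      show (s * k) * n * (s * k)⁻¹ = _
      group
    rw [h4, hinv ⟨s, hs⟩]
    exact IsCharacter.conj_eq (IsIrr.isCharacter χ.2) n _
  obtain ⟨χ', ⟨h3, h4, h5⟩, -⟩ := Cfsg.Agent.S0867.result G (χ : G → ℂ) χ.2 hinv' d hd hci
  refine ⟨⟨χ', h3⟩, h4, ?_⟩
  show (detOrder χ').Coprime (Nat.card S)
  rw [h5]
  exact Nat.Coprime.coprime_dvd_left h2 hcop

end Cyc

end CfsgH4
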