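import Cfsg.Agent.H4.Glb7

/-!
# The semiregular case
-/

set_option autoImplicit false

open Cfsg MonoidAlgebra
open CfsgH4 hiding centralChar sum_conj
open CfsgH5 ComplexConjugate

namespace CfsgH4

theorem isGen_regular (S : Type*) [Group S] [Fintype S] [DecidableEq S] :
    IsGeneralizedCharacter S (fun x : S => if x = 1 then (Nat.card S : ℂ) else 0) := by
  have h : (fun x : S => if x = 1 then (Nat.card S : ℂ) else 0) =
      (Representation.leftRegular ℂ S).character := by
    funext x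
    rw [regular_character]
  rw [h]
  exact IsCharacter.isGen (isCharacter_of_rep _)

theorem exists_near (m n : ℤ) (hn : 2 ≤ n) : ∃ k : ℤ, 2 * |m - k * n| ≤ n := by
  have h1 := Int.emod_add_mul_ediv m n
  have h2 := Int.emod_nonneg m (by omega : n ≠ 0)
  have h3 := Int.emod_lt_of_pos m (by omega : 0 < n)
  by_cases h : 2 * (m % n) ≤ n
  · refine ⟨m / n, ?_⟩
    have : m - m / n * n = m % n := by linarith [mul_comm n (m / n)]
    rw [this, abs_of_nonneg h2]
    exact h
  · refine ⟨m / n + 1, ?_⟩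
    have : m - (m / n + 1) * n = m % n - n := by linarith [mul_comm n (m / n)]
    rw [this, abs_of_neg (by omega)]
    omega

theorem semireg {S : Type*} [Group S] [Fintype S] (hcomm : ∀ a b : S, a * b = b * a)
    (hn : 2 ≤ Nat.card S) {a : S → ℂ} (ha : IsGeneralizedCharacter S a)
    (hv : ∀ x ≠ 1, a x = 0 ∨ a x = 1 ∨ a x = -1) {x0 : S} (hx0 : x0 ≠ 1) (ha0 : a x0 ≠ 0) :
    ∃ (k ε : ℤ) (l : S → ℂ), (ε = 1 ∨ ε = -1) ∧ IsIrrCharacter S l ∧
      (∀ x ≠ 1, a x = ε * l x ∧ a x ≠ 0) ∧ a 1 = k * Nat.card S + ε := by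
  classical
  obtain ⟨m, hm⟩ := IsGen.one_int ha
  obtain ⟨k, hk⟩ := exists_near m (Nat.card S) (by exact_mod_cast hn)
  set n := Nat.card S with hnd
  set a' : S → ℂ := a - (k : ℂ) • (fun x : S => if x = 1 then (n : ℂ) else 0) with ha'd
  have ha' : IsGeneralizedCharacter S a' := isGen_sub ha (isGen_int_smul (isGen_regular S) k)
  set m' : ℤ := m - k * n with hm'd
  have ha1 : a' 1 = m' := by
    rw [ha'd, Pi.sub_apply, Pi.smul_apply, if_pos rfl, hm, hm'd]
    push_cast
    rw [smul_eq_mul]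
  have hax : ∀ x ≠ 1, a' x = a x := fun x hx => by
    rw [ha'd, Pi.sub_apply, Pi.smul_apply, if_neg hx, smul_zero, sub_zero]
  -- multiplicities
  have hmult : ∀ l : IrrCharacter S, ∃ c : ℤ, classInner a' (l : S → ℂ) = c := fun l =>
    (isGen_iff.1 ha').2 l l.2
  choose c hc using hmult
  have hcf := (isGen_iff.1 ha').1
  have hN : classInner a' a' = ((∑ l : IrrCharacter S, c l ^ 2 : ℤ) : ℂ) := by
    rw [parseval hcf hcf]
    push_cast
    refine Finset.sum_congr rfl fun l _ => ?_
    rw [hc, map_intCast, sq]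
  have hlin : ∀ l : IrrCharacter S, (l : S → ℂ) 1 = 1 := fun l => by
    obtain ⟨f, hf⟩ := IsIrr.linear_of_comm hcomm l.2
    rw [hf]
    simp
  have h1 : (m' : ℂ) = ((∑ l : IrrCharacter S, c l : ℤ) : ℂ) := by
    rw [← ha1, classFun_expand_apply hcf 1]
    push_cast
    refine Finset.sum_congr rfl fun l _ => ?_
    rw [hc, hlin, mul_one]
  have h1' : m' = ∑ l : IrrCharacter S, c l := by exact_mod_cast h1
  set N : ℤ := ∑ l : IrrCharacter S, c l ^ 2 with hNd
  have h2 : |m'| ≤ N := by
    rw [h1']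
    refine (Finset.abs_sum_le_sum_abs _ _).trans (Finset.sum_le_sum fun l _ => ?_)
    rw [← sq_abs]
    have := abs_nonneg (c l)
    rcases eq_or_lt_of_le this with h | h
    · rw [← h]; norm_num
    · nlinarith [Int.add_one_le_iff.2 h]
  -- the norm
  have hS0 := card_ne_zero S
  have h3 : (Nat.card S : ℂ) * classInner a' a' = ∑ x : S, a' x * conj (a' x) := by
    rw [classInner_def, mul_inv_cancel_left₀ hS0]
  set z : ℕ := ((Finset.univ.erase (1 : S)).filter fun x => a x ≠ 0).card with hz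
  have h4 : ∑ x : S, a' x * conj (a' x) = (m' : ℂ) ^ 2 + z := by
    rw [← Finset.add_sum_erase _ _ (Finset.mem_univ (1 : S)), ha1, map_intCast, ← sq]
    congr 1
    rw [hz, Finset.card_filter]
    push_cast
    refine Finset.sum_congr rfl fun x hx => ?_
    have hx1 := (Finset.mem_erase.1 hx).1
    rw [hax x hx1]
    rcases hv x hx1 with h | h | h <;> rw [h] <;> simp
  have h5 : (n : ℤ) * N = m' ^ 2 + z := by
    have h6 : ((n : ℤ) * N : ℂ) = (m' : ℂ) ^ 2 + z := by
      rw [← h4, ← h3, hN]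
      push_cast
      rfl
    exact_mod_cast h6
  have hzle : (z : ℤ) ≤ n - 1 := by
    have h6 : z ≤ (Finset.univ.erase (1 : S)).card := Finset.card_filter_le _ _
    rw [Finset.card_erase_of_mem (Finset.mem_univ _), Finset.card_univ, ← Nat.card_eq_fintype_card]
      at h6
    omega
  have hzpos : 0 < z := by
    rw [hz, Finset.card_pos]
    exact ⟨x0, Finset.mem_filter.2 ⟨Finset.mem_erase.2 ⟨hx0, Finset.mem_univ _⟩, ha0⟩⟩
  have hn2 : (2 : ℤ) ≤ n := by exact_mod_cast hn
  have habs : |m'| = 1 := by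
    have h6 := abs_nonneg m'
    have h7 : m' ^ 2 = |m'| ^ 2 := (sq_abs m').symm
    have h8 : (n : ℤ) * |m'| ≤ n * N := mul_le_mul_of_nonneg_left h2 (by omega)
    rw [h5, h7] at h8
    rw [h7] at h5
    generalize |m'| = u at *
    by_contra h9
    rcases (by omega : u = 0 ∨ 2 ≤ u) with h10 | h10
    · subst h10
      have h11 : (n : ℤ) * N = z := by rw [h5]; ring
      have h12 : 0 < N := by
        by_contra h13
        have : (n : ℤ) * N ≤ 0 := mul_nonpos_of_nonneg_of_nonpos (by omega) (by omega)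
        omega
      nlinarith
    · nlinarith
  have hN1 : N = 1 := by
    have h7 : m' ^ 2 = 1 := by rw [← sq_abs, habs]; norm_num
    rw [h7] at h5
    have h8 : 1 ≤ N := by rw [← habs]; exact h2
    nlinarith
  have hzn : (z : ℤ) = n - 1 := by
    have h7 : m' ^ 2 = 1 := by rw [← sq_abs, habs]; norm_num
    rw [h7, hN1] at h5
    omega
  have hall : ∀ x ≠ 1, a x ≠ 0 := by
    intro x hx h
    have h6 : z < (Finset.univ.erase (1 : S)).card := by
      rw [hz]
      refine Finset.card_lt_card (Finset.filter_ssubset.2 ⟨x, Finset.mem_erase.2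
        ⟨hx, Finset.mem_univ _⟩, fun h2 => h2 h⟩)
    rw [Finset.card_erase_of_mem (Finset.mem_univ _), Finset.card_univ, ← Nat.card_eq_fintype_card]
      at h6
    omega
  have hnorm : classInner a' a' = 1 := by
    rw [hN, hN1]
    norm_num
  rcases IsGen.norm_one ha' hnorm with h | h
  · have hm1 : m' = 1 := by
      have h6 : ((m' : ℤ) : ℂ) = 1 := by rw [← ha1]; exact hlin ⟨a', h⟩
      exact_mod_cast h6
    refine ⟨k, 1, a', Or.inl rfl, h, fun x hx => ⟨by rw [hax x hx]; simp, hall x hx⟩, ?_⟩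
    rw [hm]
    have : m = k * n + 1 := by rw [← hm1, hm'd]; ring
    rw [this]
    push_cast
    ring
  · have hm1 : m' = -1 := by
      have h6 : -((m' : ℤ) : ℂ) = 1 := by rw [← ha1]; exact hlin ⟨-a', h⟩
      have h7 : -m' = 1 := by exact_mod_cast h6
      omega
    refine ⟨k, -1, -a', Or.inr rfl, h, fun x hx => ⟨by
      rw [Pi.neg_apply, hax x hx]; push_cast; ring, hall x hx⟩, ?_⟩
    rw [hm]
    have : m = k * n + -1 := by rw [← hm1, hm'd]; ring
    rw [this]
    push_cast
    ring

section Main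

variable {Γ : Type*} [Group Γ] [Fintype Γ] {G S C : Subgroup Γ} [hG : G.Normal] [Fintype G]
  [Fintype C]

theorem semireg_main (htop : G ⊔ S = ⊤) (hcop : (Nat.card G).Coprime (Nat.card S))
    (hcyc : IsCyclic S) (hC : C = G ⊓ Subgroup.centralizer (S : Set Γ))
    (hfpf : ∀ x ∈ S, x ≠ 1 → G ⊓ Subgroup.centralizer ({x} : Set Γ) = C)
    {χh : IrrCharacter Γ} (hres : IsIrrCharacter G (fun g : G => (χh : Γ → ℂ) g))
    (hdet : (detOrder (χh : Γ → ℂ)).Coprime (Nat.card S)) {β : IrrCharacter C} {ε₀ : ℤ}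
    (hε₀ : ε₀ = 1 ∨ ε₀ = -1)
    (hβ : ∀ c : C, ∀ s : Γ, Subgroup.zpowers s = S →
      (χh : Γ → ℂ) ((c : Γ) * s) = (ε₀ : ℂ) * (β : C → ℂ) c) :
    ∃ ε : ℤ, (ε = 1 ∨ ε = -1) ∧ (∃ μ : S → ℂ, IsCharacter S μ ∧ μ 1 = 1 ∧ (∀ x : S, μ x * μ x = 1) ∧
      ∀ c : C, ∀ x : S, x ≠ 1 → (χh : Γ → ℂ) ((c : Γ) * x) = (ε : ℂ) * (β : C → ℂ) c * μ x) ∧
      (∃ ϑ : C → ℂ, IsCharacter C ϑ ∧ (fun c : C => (χh : Γ → ℂ) c) =
        fun c => (Nat.card S : ℂ) * ϑ c + (ε : ℂ) * (β : C → ℂ) c) := by
  classical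
  haveI := Fintype.ofFinite S
  obtain ⟨⟨s0, hs0S⟩, hs0⟩ := hcyc.exists_generator
  have hs0' : Subgroup.zpowers s0 = S := by
    apply le_antisymm
    · rw [Subgroup.zpowers_le]; exact hs0S
    · intro x hx
      obtain ⟨k, hk⟩ := Subgroup.mem_zpowers_iff.1 (hs0 ⟨x, hx⟩)
      exact Subgroup.mem_zpowers_iff.2 ⟨k, congrArg Subtype.val hk⟩
  have hcomm : ∀ a ∈ S, ∀ b ∈ S, a * b = b * a := by
    intro a ha b hb
    letI : CommGroup S := hcyc.commGroup
    exact congrArg Subtype.val (mul_comm (⟨a, ha⟩ : S) ⟨b, hb⟩)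
  rcases (by have := Nat.card_pos (α := S); omega : Nat.card S = 1 ∨ 2 ≤ Nat.card S) with hn | hn
  · haveI : Subsingleton S := (Nat.card_eq_one_iff_unique.1 hn).1
    have hz : Subgroup.zpowers (1 : Γ) = S := by
      rw [Subgroup.zpowers_one_eq_bot]
      exact (Subgroup.card_eq_one.1 hn).symm
    have h1 : ∀ c : C, (χh : Γ → ℂ) c = (ε₀ : ℂ) * (β : C → ℂ) c := fun c => by
      have := hβ c 1 hz
      rwa [mul_one] at this
    have h2 : ε₀ = 1 := by
      rcases hε₀ with h | h
      · exact h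
      · exfalso
        have h3 := h1 1
        have h4 := one_re_pos χh.2
        have h5 := one_re_pos β.2
        rw [h] at h3
        have h6 : ((χh : Γ → ℂ) 1).re = -((β : C → ℂ) 1).re := by
          have h7 : (χh : Γ → ℂ) ((1 : C) : Γ) = (χh : Γ → ℂ) 1 := rfl
          rw [← h7, h3]
          simp
        linarith
    refine ⟨1, Or.inl rfl, ⟨fun _ => 1, isCharacter_one, rfl, fun _ => one_mul 1,
      fun c x hx => absurd (Subsingleton.elim x 1) hx⟩, 0, isCharacter_zero, ?_⟩
    funext c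
    rw [h1 c, h2]
    simp
  · set a : IrrCharacter C → S → ℂ := fun β' x =>
      classInner (fun c : C => (χh : Γ → ℂ) (c * x)) (β' : C → ℂ) with had
    have hac : ∀ β', IsCharacter S (a β') := fun β' => slice_isCharacter hC χh β'
    have hpm : ∀ x : S, x ≠ 1 → ∃ (βx : IrrCharacter C) (εx : ℤ), (εx = 1 ∨ εx = -1) ∧
        ∀ c : C, (χh : Γ → ℂ) (c * x) = (εx : ℂ) * (βx : C → ℂ) c := fun x hx =>
      slice_pm htop hcop hcomm hC hres hdet x (hfpf x x.2 (fun h => hx (Subtype.ext h))).symm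
    choose βx εx hεx hβx using hpm
    have haval : ∀ β' (x : S) (hx : x ≠ 1), a β' x = if β' = βx x hx then (εx x hx : ℂ) else 0 := by
      intro β' x hx
      have h1 : (fun c : C => (χh : Γ → ℂ) (c * x)) = (εx x hx : ℂ) • (βx x hx : C → ℂ) :=
        funext (hβx x hx)
      rw [had]
      show classInner (fun c : C => (χh : Γ → ℂ) (c * x)) (β' : C → ℂ) = _
      rw [h1, classInner_smul_left, classInner_irr' (βx x hx) β']
      by_cases h : β' = βx x hx
      · rw [if_pos h, if_pos h.symm, mul_one]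
      · rw [if_neg h, if_neg (fun h2 => h h2.symm), mul_zero]
    have hs1 : (⟨s0, hs0S⟩ : S) ≠ 1 := by
      intro h
      have h2 : s0 = 1 := congrArg Subtype.val h
      rw [h2, Subgroup.zpowers_one_eq_bot] at hs0'
      rw [← hs0', Subgroup.card_bot] at hn
      omega
    have ha0 : a β ⟨s0, hs0S⟩ ≠ 0 := by
      have h1 : (fun c : C => (χh : Γ → ℂ) (c * s0)) = (ε₀ : ℂ) • (β : C → ℂ) :=
        funext fun c => hβ c s0 hs0'
      show classInner (fun c : C => (χh : Γ → ℂ) (c * s0)) (β : C → ℂ) ≠ 0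
      rw [h1, classInner_smul_left, classInner_irr_self β.2, mul_one]
      rcases hε₀ with h | h <;> rw [h] <;> norm_num
    obtain ⟨k, ε, l, hε, hl, hlx, hk⟩ := semireg (fun a b => Subtype.ext (hcomm a a.2 b b.2)) hn
      (IsCharacter.isGen (hac β)) (fun x hx => by
        rw [haval β x hx]
        split_ifs
        · rcases hεx x hx with h | h
          · right; left; rw [h]; norm_num
          · right; right; rw [h]; norm_num
        · exact Or.inl rfl) hs1 ha0
    have hβeq : ∀ x (hx : x ≠ 1), βx x hx = β := by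
      intro x hx
      have h1 := (hlx x hx).2
      rw [haval β x hx] at h1
      by_contra h
      exact h1 (if_neg fun h2 => h h2.symm)
    have hl1 : l 1 = 1 := by
      obtain ⟨f, hf⟩ := IsIrr.linear_of_comm (fun a b : S => Subtype.ext (hcomm a a.2 b b.2)) hl
      rw [hf]
      simp
    have hεε : (ε : ℂ) * ε = 1 := by rcases hε with h | h <;> rw [h] <;> norm_num
    have haε : ∀ x (hx : x ≠ 1), a β x = εx x hx := fun x hx => by
      rw [haval β x hx, if_pos (hβeq x hx).symm]
    refine ⟨ε, hε, ⟨l, IsIrr.isCharacter hl, hl1, fun x => ?_, fun c x hx => ?_⟩, ?_⟩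
    · by_cases hx : x = 1
      · rw [hx, hl1, one_mul]
      · have h1 := (hlx x hx).1
        rw [haε x hx] at h1
        have h2 : l x = ε * εx x hx := by
          rw [h1, ← mul_assoc, hεε, one_mul]
        have h3 : (εx x hx : ℂ) * εx x hx = 1 := by
          rcases hεx x hx with h | h <;> rw [h] <;> norm_num
        calc l x * l x = (ε * ε) * ((εx x hx : ℂ) * εx x hx) := by rw [h2]; ring
          _ = 1 := by rw [hεε, h3, one_mul]
    · rw [hβx x hx c, hβeq x hx, ← haε x hx, (hlx x hx).1]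
      ring
    · have hmul : ∀ β' : IrrCharacter C, β' ≠ β → ∃ t : ℕ, a β' 1 = Nat.card S * (t : ℂ) := by
        intro β' hne
        obtain ⟨t, ht⟩ := IsCharacter.inner_irr_nat (hac β') isIrrCharacter_one
        refine ⟨t, ?_⟩
        rw [← ht, classInner_def, mul_inv_cancel_left₀ (card_ne_zero S),
          ← Finset.add_sum_erase _ _ (Finset.mem_univ (1 : S))]
        rw [Finset.sum_eq_zero, add_zero]
        · simp
        · intro x hx
          rw [haval β' x (Finset.mem_erase.1 hx).1, if_neg, zero_mul]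
          rw [hβeq]
          exact hne
      have hk0 : 0 ≤ k := by
        by_contra h
        obtain ⟨t, ht⟩ := IsCharacter.one_nat (hac β)
        rw [ht] at hk
        have h1 : (t : ℤ) = k * Nat.card S + ε := by exact_mod_cast hk
        have h2 : k * (Nat.card S : ℤ) ≤ -1 * Nat.card S :=
          mul_le_mul_of_nonneg_right (by omega) (by positivity)
        rcases hε with h3 | h3 <;> omega
      obtain ⟨k, rfl⟩ := Int.eq_ofNat_of_zero_le hk0
      have ht : ∀ β' : IrrCharacter C, ∃ t : ℕ, a β' 1 =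
          Nat.card S * (t : ℂ) + if β' = β then (ε : ℂ) else 0 := by
        intro β'
        by_cases h : β' = β
        · refine ⟨k, ?_⟩
          rw [if_pos h, h, hk]
          push_cast
          ring
        · obtain ⟨t, ht⟩ := hmul β' h
          exact ⟨t, by rw [if_neg h, add_zero, ht]⟩
      choose t ht using ht
      refine ⟨∑ β' : IrrCharacter C, t β' • (β' : C → ℂ), isCharacter_sum _ _ fun β' _ =>
        isCharacter_nsmul (IsIrr.isCharacter β'.2) _, ?_⟩
      have hrc : IsCharacter C (fun c : C => (χh : Γ → ℂ) c) :=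
        isCharacter_restrict C (IsIrr.isCharacter χh.2)
      funext c
      have h1 := classFun_expand_apply (IsCharacter.isClassFunction hrc) c
      rw [h1, Finset.sum_apply, Finset.mul_sum]
      have h2 : ∀ β' : IrrCharacter C, classInner (fun c : C => (χh : Γ → ℂ) c) (β' : C → ℂ) *
          (β' : C → ℂ) c = (Nat.card S : ℂ) * (t β' • (β' : C → ℂ)) c +
            if β' = β then (ε : ℂ) * (β : C → ℂ) c else 0 := by
        intro β'
        have h3 : classInner (fun c : C => (χh : Γ → ℂ) c) (β' : C → ℂ) = a β' 1 := by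
          show _ = classInner (fun c : C => (χh : Γ → ℂ) (c * ((1 : S) : Γ))) (β' : C → ℂ)
          simp only [Subgroup.coe_one, mul_one]
        rw [h3, ht β', Pi.smul_apply, nsmul_eq_mul]
        by_cases h : β' = β
        · rw [if_pos h, if_pos h, h]; ring
        · rw [if_neg h, if_neg h]; ring
      rw [Finset.sum_congr rfl fun β' _ => h2 β', Finset.sum_add_distrib,
        Finset.sum_ite_eq' Finset.univ β]
      simp

end Main

end CfsgH4
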