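import Cfsg.Agent.H4.Glb8

/-!
# Glauberman's lemma for constituents
-/

set_option autoImplicit false

open Cfsg MonoidAlgebra
open CfsgH4 hiding centralChar sum_conj
open CfsgH5 ComplexConjugate

namespace CfsgH4

section Abs

/-- Glauberman's lemma for two compatible actions -/
theorem glauberman_abs {S K X : Type*} [Group S] [Group K] [Finite S] [Finite K]
    [MulAction S X] [MulAction K X] (ψ : S →* MulAut K)
    (hcomp : ∀ (s : S) (k : K) (x : X), s • (k • x) = (ψ s k) • (s • x))
    (hcop : (Nat.card S).Coprime (Nat.card K))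
    (hsolv : Group.IsSolvable S ∨ Group.IsSolvable K) {T : Set X} (hne : T.Nonempty)
    (hS : ∀ (s : S), ∀ x ∈ T, s • x ∈ T) (hK : ∀ (k : K), ∀ x ∈ T, k • x ∈ T)
    (htr : ∀ x ∈ T, ∀ y ∈ T, ∃ k : K, k • x = y) : ∃ x ∈ T, ∀ s : S, s • x = x := by
  classical
  haveI : Finite (K ⋊[ψ] S) := Finite.of_equiv (K × S) SemidirectProduct.equivProd.symm
  letI act : MulAction (K ⋊[ψ] S) X :=
    { smul := fun a x => a.left • (a.right • x)
      one_smul := fun x => by
        show (1 : K) • ((1 : S) • x) = x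
        rw [one_smul, one_smul]
      mul_smul := fun a b x => by
        show (a * b).left • ((a * b).right • x) = a.left • (a.right • (b.left • (b.right • x)))
        rw [SemidirectProduct.mul_left, SemidirectProduct.mul_right, mul_smul, mul_smul, hcomp] }
  have hsm : ∀ (a : K ⋊[ψ] S) (x : X), a • x = a.left • (a.right • x) := fun _ _ => rfl
  set A : Subgroup (K ⋊[ψ] S) := (SemidirectProduct.inr : S →* K ⋊[ψ] S).range with hA
  set B : Subgroup (K ⋊[ψ] S) := (SemidirectProduct.inl : K →* K ⋊[ψ] S).range with hB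
  let eA : S ≃* A := MonoidHom.ofInjective SemidirectProduct.inr_injective
  let eB : K ≃* B := MonoidHom.ofInjective SemidirectProduct.inl_injective
  haveI hBn : B.Normal := by
    rw [hB, SemidirectProduct.range_inl_eq_ker_rightHom]
    infer_instance
  have hAB : A ≤ Subgroup.normalizer (B : Set (K ⋊[ψ] S)) := by
    rw [Subgroup.normalizer_eq_top]
    exact le_top
  have hAs : ∀ a ∈ A, ∃ s : S, ∀ x : X, a • x = s • x := by
    rintro a ⟨s, rfl⟩
    refine ⟨s, fun x => ?_⟩
    rw [hsm, SemidirectProduct.left_inr, SemidirectProduct.right_inr, one_smul]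
  have hBs : ∀ b ∈ B, ∃ k : K, ∀ x : X, b • x = k • x := by
    rintro a ⟨k, rfl⟩
    refine ⟨k, fun x => ?_⟩
    rw [hsm, SemidirectProduct.left_inl, SemidirectProduct.right_inl, one_smul]
  obtain ⟨x, hxT, hx⟩ := (CfsgH1.glauberman_lemma (A := A) (K := B) hAB (by
    rw [← Nat.card_congr eA.toEquiv, ← Nat.card_congr eB.toEquiv]; exact hcop) (by
    rcases hsolv with h | h
    · left
      exact Group.isSolvable_of_surjective (f := eA.toMonoidHom) eA.surjective
    · right
      exact Group.isSolvable_of_surjective (f := eB.toMonoidHom) eB.surjective) hne (fun a ha x hx => by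
    obtain ⟨s, hs⟩ := hAs a ha
    rw [hs]; exact hS s x hx) (fun b hb x hx => by
    obtain ⟨k, hk⟩ := hBs b hb
    rw [hk]; exact hK k x hx) (fun x hx y hy => by
    obtain ⟨k, hk⟩ := htr x hx y hy
    refine ⟨SemidirectProduct.inl k, ⟨k, rfl⟩, ?_⟩
    rw [hsm, SemidirectProduct.left_inl, SemidirectProduct.right_inl, one_smul, hk])).1
  refine ⟨x, hxT, fun s => ?_⟩
  have h1 := hx (SemidirectProduct.inr s) ⟨s, rfl⟩
  rw [hsm, SemidirectProduct.left_inr, SemidirectProduct.right_inr, one_smul] at h1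
  exact h1

/-- the action of automorphisms on irreducible characters -/
def irrHom (N : Type*) [Group N] : MulAut N →* Equiv.Perm (IrrCharacter N) where
  toFun e := irrE e
  map_one' := rfl
  map_mul' a b := rfl

theorem irrHom_apply (N : Type*) [Group N] (e : MulAut N) (χ : IrrCharacter N) :
    irrHom N e χ = irrE e χ := rfl

/-- the induced action on a quotient -/
def quotAct {S G : Type*} [Group S] [Group G] (φ : S →* MulAut G) (N : Subgroup G) [hN : N.Normal]
    (h : ∀ s, ∀ n ∈ N, φ s n ∈ N) : S →* MulAut (G ⧸ N) where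
  toFun s :=
    { toFun := QuotientGroup.map N N (φ s).toMonoidHom (fun n hn => h s n hn)
      invFun := QuotientGroup.map N N (φ s⁻¹).toMonoidHom (fun n hn => h s⁻¹ n hn)
      left_inv := fun q => by
        obtain ⟨g, rfl⟩ := QuotientGroup.mk_surjective q
        show ((φ s⁻¹ (φ s g) : G) : G ⧸ N) = g
        rw [← MulAut.mul_apply, ← map_mul, inv_mul_cancel, map_one]; rfl
      right_inv := fun q => by
        obtain ⟨g, rfl⟩ := QuotientGroup.mk_surjective q
        show ((φ s (φ s⁻¹ g) : G) : G ⧸ N) = g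
        rw [← MulAut.mul_apply, ← map_mul, mul_inv_cancel, map_one]; rfl
      map_mul' := map_mul _ }
  map_one' := by
    ext q
    obtain ⟨g, rfl⟩ := QuotientGroup.mk_surjective q
    show ((φ 1 g : G) : G ⧸ N) = g
    rw [map_one]; rfl
  map_mul' a b := by
    ext q
    obtain ⟨g, rfl⟩ := QuotientGroup.mk_surjective q
    show ((φ (a * b) g : G) : G ⧸ N) = ((φ a (φ b g) : G) : G ⧸ N)
    rw [map_mul]; rfl

theorem quotAct_mk {S G : Type*} [Group S] [Group G] (φ : S →* MulAut G) (N : Subgroup G)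
    [hN : N.Normal] (h : ∀ s, ∀ n ∈ N, φ s n ∈ N) (s : S) (g : G) :
    quotAct φ N h s (g : G ⧸ N) = ((φ s g : G) : G ⧸ N) := rfl

/-- restriction of an action to an invariant subgroup -/
def resAct {S G : Type*} [Group S] [Group G] (φ : S →* MulAut G) (N : Subgroup G)
    (h : ∀ s, ∀ n ∈ N, φ s n ∈ N) : S →* MulAut N where
  toFun s :=
    { toFun := fun n => ⟨φ s n, h s n n.2⟩
      invFun := fun n => ⟨φ s⁻¹ n, h s⁻¹ n n.2⟩
      left_inv := fun n => Subtype.ext (by
        show φ s⁻¹ (φ s (n : G)) = n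
        rw [← MulAut.mul_apply, ← map_mul, inv_mul_cancel, map_one]; rfl)
      right_inv := fun n => Subtype.ext (by
        show φ s (φ s⁻¹ (n : G)) = n
        rw [← MulAut.mul_apply, ← map_mul, mul_inv_cancel, map_one]; rfl)
      map_mul' := fun a b => Subtype.ext (map_mul (φ s) (a : G) b) }
  map_one' := by
    ext n
    show φ 1 (n : G) = n
    rw [map_one]; rfl
  map_mul' a b := by
    ext n
    show φ (a * b) (n : G) = φ a (φ b n)
    rw [map_mul]; rfl

/-- an invariant character has an invariant constituent below -/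
theorem exists_inv_below {S G : Type*} [Group S] [Finite S] [Group G] [Fintype G]
    (φ : S →* MulAut G) (N : Subgroup G) [hN : N.Normal] [Fintype N]
    (h : ∀ s, ∀ n ∈ N, φ s n ∈ N) (hcop : (Nat.card S).Coprime (Nat.card (G ⧸ N)))
    (hsolv : Group.IsSolvable S ∨ Group.IsSolvable (G ⧸ N)) (χ : IrrCharacter G)
    (hχ : InvF φ (χ : G → ℂ)) : ∃ θ : IrrCharacter N,
      classInner (fun n : N => (χ : G → ℂ) n) (θ : N → ℂ) ≠ 0 ∧ InvF (resAct φ N h) (θ : N → ℂ) := by
  classical
  letI aS : MulAction S (IrrCharacter N) :=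
    MulAction.compHom _ ((irrHom N).comp (resAct φ N h))
  let cj : G →* MulAut N := MulAut.conjNormal
  have hcjN : ∀ n ∈ N, ((irrHom N).comp cj) n = 1 := by
    intro n hn
    refine Equiv.ext fun θ => Subtype.ext (funext fun m => ?_)
    show (θ : N → ℂ) ((cj n).symm m) = (θ : N → ℂ) m
    have h1 : (cj n).symm m = (⟨n, hn⟩ : N)⁻¹ * m * (⟨n, hn⟩ : N)⁻¹⁻¹ := by
      apply Subtype.ext
      rw [inv_inv]
      exact MulAut.conjNormal_symm_apply n m
    rw [h1]
    exact IsCharacter.conj_eq (IsIrr.isCharacter θ.2) m _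
  letI aK : MulAction (G ⧸ N) (IrrCharacter N) :=
    MulAction.compHom _ (QuotientGroup.lift N ((irrHom N).comp cj) hcjN)
  have hS : ∀ (s : S) (θ : IrrCharacter N), s • θ = irrE (resAct φ N h s) θ := fun _ _ => rfl
  have hK : ∀ (g : G) (θ : IrrCharacter N), (g : G ⧸ N) • θ = irrE (cj g) θ := fun _ _ => rfl
  obtain ⟨θ, hθ, hfix⟩ := glauberman_abs (quotAct φ N h) (T := {θ : IrrCharacter N |
      classInner (fun n : N => (χ : G → ℂ) n) (θ : N → ℂ) ≠ 0}) (by
    intro s k θ
    obtain ⟨g, rfl⟩ := QuotientGroup.mk_surjective k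
    rw [hS, hK, quotAct_mk, hK, hS]
    apply Subtype.ext
    funext n
    obtain ⟨n, rfl⟩ := (resAct φ N h s).surjective n
    obtain ⟨n, rfl⟩ := (cj g).surjective n
    rw [irrE_apply', irrE_apply']
    have h1 : resAct φ N h s (cj g n) = cj (φ s g) (resAct φ N h s n) := by
      apply Subtype.ext
      show φ s (g * n * g⁻¹) = φ s g * φ s n * (φ s g)⁻¹
      rw [map_mul, map_mul, map_inv]
    rw [h1, irrE_apply', irrE_apply']) hcop hsolv (by
    obtain ⟨θ, hθ, h1⟩ := exists_constituent_restrict N χ.2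
    exact ⟨⟨θ, hθ⟩, h1⟩) (by
    intro s θ hθ
    show classInner (fun n : N => (χ : G → ℂ) n) (s • θ : IrrCharacter N) ≠ 0
    rw [hS, ← classInner_comp_equiv (resAct φ N h s)]
    simp only [irrE_apply']
    have h1 : (fun a : N => (χ : G → ℂ) (resAct φ N h s a : N)) = fun n : N => (χ : G → ℂ) n := by
      funext n
      exact hχ s n
    rw [h1]
    exact hθ) (by
    intro k θ hθ
    obtain ⟨g, rfl⟩ := QuotientGroup.mk_surjective k
    show classInner (fun n : N => (χ : G → ℂ) n) (((g : G ⧸ N) • θ : IrrCharacter N) : N → ℂ) ≠ 0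
    rw [hK, ← classInner_comp_equiv (cj g)]
    simp only [irrE_apply']
    have h1 : (fun a : N => (χ : G → ℂ) (cj g a : N)) = fun n : N => (χ : G → ℂ) n := by
      funext n
      exact IsCharacter.conj_eq (IsIrr.isCharacter χ.2) (n : G) g
    rw [h1]
    exact hθ) (by
    intro θ hθ θ' hθ'
    obtain ⟨g, hg⟩ := clifford_conj N χ.2 θ.2 θ'.2 hθ hθ'
    refine ⟨((g⁻¹ : G) : G ⧸ N), ?_⟩
    rw [hK]
    apply Subtype.ext
    funext n
    rw [hg]
    obtain ⟨n, rfl⟩ := (cj g⁻¹).surjective n
    rw [irrE_apply', conjFun_apply]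
    exact congrArg (θ : N → ℂ) (Subtype.ext (by
      show (n : G) = g * (g⁻¹ * n * g⁻¹⁻¹) * g⁻¹
      group)))
  refine ⟨θ, hθ, (invF_iff_irrE _ θ).2 fun s => ?_⟩
  exact hfix s

end Abs

end CfsgH4
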