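import Cfsg.Agent.H4.Nil9

set_option autoImplicit false
set_option linter.all false

/-! # Nilpotent blocks: the arithmetic-geometric argument and the pack of local data -/

open Cfsg MonoidAlgebra
open CfsgH4 hiding centralChar sum_conj regInner_symm
open CfsgH5 ComplexConjugate

namespace CfsgH4

section AmGm

variable {X : Type*} [Group X] [Fintype X]

theorem isIntegral_conj {z : ℂ} (h : IsIntegral ℤ z) : IsIntegral ℤ (conj z) :=
  map_isIntegral_int (starRingEnd ℂ) h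

theorem amgm (S : Finset X) (hS : ∀ (k : ℕ), k.Coprime (Nat.card X) → ∀ v, v ^ k ∈ S ↔ v ∈ S) (δ : X → ℂ)
    (hint : ∀ v ∈ S, IsIntegral ℤ (δ v)) (h0 : ∀ v ∈ S, δ v ≠ 0)
    (hgal : ∀ (σ : ℂ ≃+* ℂ) (k : ℕ), k.Coprime (Nat.card X) → (∀ z : ℂ, z ^ Nat.card X = 1 → σ z = z ^ k) →
      ∀ v ∈ S, σ (δ v * conj (δ v)) = δ (v ^ k) * conj (δ (v ^ k)))
    {A : ℤ} (hA : 0 < A) {c : ℕ} (hc : 0 < c)
    (hsum : ∑ v ∈ S, δ v * conj (δ v) + c * A = S.card + c) :
    A = 1 ∧ ∀ v ∈ S, δ v * conj (δ v) = 1 := by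
  classical
  have hm : ∀ v, δ v * conj (δ v) = ((Complex.normSq (δ v) : ℝ) : ℂ) := fun v => Complex.mul_conj _
  have hpos : ∀ v ∈ S, 0 < Complex.normSq (δ v) := fun v hv => Complex.normSq_pos.2 (h0 v hv)
  obtain ⟨N, hN⟩ : ∃ N : ℤ, ∏ v ∈ S, δ v * conj (δ v) = N := by
    apply int_of_gal _ (Nat.card X) Nat.card_pos
    · intro σ k hk hσ
      rw [map_prod, Finset.prod_congr rfl fun v hv => hgal σ k hk hσ v hv]
      refine Finset.prod_bij (fun v _ => v ^ k) (fun v hv => (hS k hk v).2 hv) ?_ ?_ (fun v _ => rfl)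
      · intro v _ w _ h
        exact (powCoprime (Nat.Coprime.symm hk)).injective h
      · intro w hw
        obtain ⟨v, hv⟩ := (powCoprime (Nat.Coprime.symm hk)).surjective w
        have hv' : v ^ k = w := hv
        exact ⟨v, (hS k hk v).1 (by rw [hv']; exact hw), hv'⟩
    · exact IsIntegral.prod _ fun v hv => (hint v hv).mul (isIntegral_conj (hint v hv))
  have hNpos : 0 < (∏ v ∈ S, Complex.normSq (δ v)) := Finset.prod_pos hpos
  have hNr : (∏ v ∈ S, Complex.normSq (δ v)) = (N : ℝ) := by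
    have h1 : ((∏ v ∈ S, Complex.normSq (δ v) : ℝ) : ℂ) = ((N : ℝ) : ℂ) := by
      push_cast
      rw [← hN]
      exact Finset.prod_congr rfl fun v _ => (hm v).symm
    exact_mod_cast h1
  have hN1 : (1 : ℝ) ≤ N := by
    rw [hNr] at hNpos
    have : 0 < N := by exact_mod_cast hNpos
    exact_mod_cast this
  have hlog : 0 ≤ ∑ v ∈ S, Real.log (Complex.normSq (δ v)) := by
    rw [← Real.log_prod (fun v hv => (hpos v hv).ne'), hNr]
    exact Real.log_nonneg hN1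
  have hsumr : ∑ v ∈ S, Complex.normSq (δ v) + c * A = S.card + c := by
    have h1 : ((∑ v ∈ S, Complex.normSq (δ v) + c * A : ℝ) : ℂ) = ((S.card + c : ℝ) : ℂ) := by
      push_cast
      rw [← hsum]
      congr 1
      exact Finset.sum_congr rfl fun v _ => (hm v).symm
    exact_mod_cast h1
  have hterm : ∀ v ∈ S, 0 ≤ Complex.normSq (δ v) - 1 - Real.log (Complex.normSq (δ v)) := by
    intro v hv
    have := Real.log_le_sub_one_of_pos (hpos v hv)
    linarith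
  have htot : ∑ v ∈ S, (Complex.normSq (δ v) - 1 - Real.log (Complex.normSq (δ v))) =
      (∑ v ∈ S, Complex.normSq (δ v)) - S.card - ∑ v ∈ S, Real.log (Complex.normSq (δ v)) := by
    rw [Finset.sum_sub_distrib, Finset.sum_sub_distrib]
    simp
  have hA1 : (1 : ℝ) ≤ A := by exact_mod_cast hA
  have hcr : (0 : ℝ) < c := by exact_mod_cast hc
  have hnn := Finset.sum_nonneg hterm
  rw [htot] at hnn
  have hAle : (A : ℝ) = 1 := by
    have : (c : ℝ) * A ≤ c := by linarith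
    nlinarith
  refine ⟨by exact_mod_cast hAle, ?_⟩
  rw [hAle, mul_one] at hsumr
  have hz : ∑ v ∈ S, (Complex.normSq (δ v) - 1 - Real.log (Complex.normSq (δ v))) = 0 := by
    apply le_antisymm
    · rw [htot]; linarith
    · exact Finset.sum_nonneg hterm
  intro v hv
  have h1 := (Finset.sum_eq_zero_iff_of_nonneg hterm).1 hz v hv
  rw [hm]
  have h2 : Complex.normSq (δ v) = 1 := by
    by_contra hne
    have := Real.log_lt_sub_one_of_pos (hpos v hv) hne
    linarith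
  rw [h2]; norm_num

end AmGm

section Pack

variable {G : Type*} [Group G] [Finite G] {M : Ideal AlgInt} [hMp : M.IsPrime] {p : ℕ} [hp : Fact p.Prime]

/-- the local block at `Q` has rank one with a lift -/
def LocQ (p : ℕ) (a : Subgroup G × MonoidAlgebra (kk M) G) (Q : Subgroup G) : Prop :=
  ∃ (e : Set (IrrCharacter (cz Q))) (θ : IrrCharacter (cz Q)), IsPBlock M e ∧ idH M (cz Q) e = bq p a Q ∧ IsR1 p e θ

theorem exists_pack (hM : IsPModular p M) {B : MonoidAlgebra (kk M) G} (hB : IsBl (⊤ : Subgroup G) B) (hnil : NilB p B)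
    {a : Subgroup G × MonoidAlgebra (kk M) G} (hmax : MP p ⊤ B a) {ib : MonoidAlgebra (kk M) G} (hib : ib * ib = ib)
    (hfib : Fx a.1 ib) (hbr : ∀ (Q : Subgroup G) (f : MonoidAlgebra (kk M) G), LE p (Q, f) a → br Q ib * f = br Q ib)
    {i : MonoidAlgebra ℂ G} (hi : InS M i) (hii : i * i = i) (hred : rd M i = ib) (hfi : Fx a.1 i) :
    ∃ (n : Subgroup G → ℕ) (dd : G → IrrCharacter G → ℂ), ∀ v : a.1, LocQ p a (Subgroup.zpowers (v : G)) →
      (∀ χ : IrrCharacter G, ev (χ : G → ℂ) (single (v : G) 1 * i) = n (Subgroup.zpowers (v : G)) * dd v χ) ∧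
      (∀ χ : IrrCharacter G, IsIntegral ℤ (dd v χ)) ∧
      (∀ χ ψ : IrrCharacter G, wP a.1 v * Yf p (χ : G → ℂ) (ψ : G → ℂ) (v : G)
        (lb (cz (Subgroup.zpowers (v : G))) (bq p a (Subgroup.zpowers (v : G)))) = dd v χ * conj (dd v ψ)) := by
  classical
  have ha : IsBl (cz a.1) a.2 := hmax.1.2.2.2.1
  have hap : IsPGroup p a.1 := hmax.1.1
  haveI : ∀ Q : Subgroup G, Fintype (cz Q) := fun Q => Fintype.ofFinite _
  have hch : ∀ Q : Subgroup G, ∃ (e : Set (IrrCharacter (cz Q))) (θ : IrrCharacter (cz Q)) (n : ℕ),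
      LocQ p a Q → Q ≤ a.1 → (IsPBlock M e ∧ idH M (cz Q) e = bq p a Q ∧ IsR1 p e θ) ∧
        ∀ u : cz Q, Subgroup.zpowers (u : G) = Q → ∀ χ : IrrCharacter G,
          ev (χ : G → ℂ) (single (u : G) 1 * i) = n * (Xf u e (χ : G → ℂ) 1 / (θ : cz Q → ℂ) 1) := by
    intro Q
    by_cases h : LocQ p a Q ∧ Q ≤ a.1
    · obtain ⟨⟨e, θ, he, hid, hθ⟩, hQ⟩ := h
      obtain ⟨n, hn⟩ := exists_nn hM hap ha hib hfib hbr hi hii hred hfi hQ he hid hθ
      exact ⟨e, θ, n, fun _ _ => ⟨⟨he, hid, hθ⟩, hn⟩⟩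
    · exact ⟨∅, irrOne _, 0, fun h1 h2 => absurd ⟨h1, h2⟩ h⟩
  choose e θ n hch using hch
  refine ⟨n, fun v χ => Xf (uc v) (e (Subgroup.zpowers v)) (χ : G → ℂ) 1 / (θ (Subgroup.zpowers v) : cz (Subgroup.zpowers v) → ℂ) 1, ?_⟩
  intro v hv
  have hQ : Subgroup.zpowers (v : G) ≤ a.1 := by rw [Subgroup.zpowers_le]; exact v.2
  obtain ⟨⟨h1, h2, h3⟩, h4⟩ := hch (Subgroup.zpowers (v : G)) hv hQ
  have hup : ∃ k, orderOf (v : G) = p ^ k := by
    obtain ⟨k, hk⟩ := (IsPGroup.iff_orderOf.1 hap) v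
    exact ⟨k, by rw [← hk, Subgroup.orderOf_coe]⟩
  refine ⟨fun χ => h4 (uc (v : G)) rfl χ, fun χ => Xf_R1_int hM (uc_center (v : G)) hup h3 (IsIrr.isCharacter χ.2),
    fun χ ψ => wP_Yf hM hB hnil hmax v h1 h2 h3 χ ψ⟩

end Pack

end CfsgH4
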