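import Cfsg.Agent.H4.Nil10
import Cfsg.Agent.H5.Reg
import Cfsg.Agent.H4.BrauerB

set_option autoImplicit false
set_option linter.all false

/-! # Nilpotent blocks: the main step -/

open Cfsg MonoidAlgebra
open CfsgH4 hiding centralChar sum_conj regInner_symm
open CfsgH5 ComplexConjugate

namespace CfsgH4

section Core

variable {G : Type*} [Group G] [Fintype G] {M : Ideal AlgInt} [hMp : M.IsPrime] {p : ℕ} [hp : Fact p.Prime]

theorem zp_pow {v : G} {N k : ℕ} (hv : orderOf v ∣ N) (hk : k.Coprime N) :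
    Subgroup.zpowers (v ^ k) = Subgroup.zpowers v := by
  apply le_antisymm
  · rw [Subgroup.zpowers_le]; exact Subgroup.pow_mem _ (Subgroup.mem_zpowers v) k
  · rw [Subgroup.zpowers_le]
    exact zpowers_pow_coprime (Nat.Coprime.coprime_dvd_left hv hk.symm)

theorem center_iff_zp {v : G} : v ∈ Subgroup.center G ↔ Subgroup.zpowers v ≤ Subgroup.center G := by
  rw [Subgroup.zpowers_le]

theorem wt_val (χ : IrrCharacter G) {v : G} (hv : v ∈ Subgroup.center G) (s : G) :
    (χ : G → ℂ) (v * s) = (χ : G → ℂ) v / (χ : G → ℂ) 1 * (χ : G → ℂ) s := by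
  have h0 : (χ : G → ℂ) 1 ≠ 0 := IsIrr.one_ne_zero χ.2
  have := irr_central_mul χ.2 hv s
  field_simp
  linear_combination -this

/-- the contribution of a central element -/
theorem wP_Yf_central (hM : IsPModular p M) {B : Set (IrrCharacter G)} (hB : IsPBlock M B)
    {a : Subgroup G × MonoidAlgebra (kk M) G} (hmax : MP p ⊤ (idB M B) a) (v : a.1) (hv : (v : G) ∈ Subgroup.center G)
    {χ ψ : IrrCharacter G} (hχ : χ ∈ B) (hψ : ψ ∈ B) :
    wP a.1 v * Yf p (χ : G → ℂ) (ψ : G → ℂ) (v : G)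
        (lb (cz (Subgroup.zpowers (v : G))) (bq p a (Subgroup.zpowers (v : G)))) =
      ((χ : G → ℂ) v / (χ : G → ℂ) 1) * conj ((ψ : G → ℂ) v / (ψ : G → ℂ) 1) *
        ((Nat.card a.1 : ℂ) / (Nat.card G : ℂ) * regInner p (χ : G → ℂ) (ψ : G → ℂ)) := by
  classical
  have hBt := isBl_top hB
  have ha : IsBl (cz a.1) a.2 := hmax.1.2.2.2.1
  have hap : IsPGroup p a.1 := hmax.1.1
  have htop : cz (Subgroup.zpowers (v : G)) = ⊤ := by
    rw [eq_top_iff]
    intro g _
    exact mem_cz_zpowers.2 (Subgroup.mem_center_iff.1 hv g).symm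
  have hle := bq_le hM hap ha (Q := Subgroup.zpowers (v : G)) (by rw [Subgroup.zpowers_le]; exact v.2)
  have hof := (LE.of_iff hM hBt hle le_top le_top).2 hmax.1
  have hbq : bq p a (Subgroup.zpowers (v : G)) = idB M B := by
    have h1 : br (Subgroup.zpowers (v : G)) (idB M B) * bq p a (Subgroup.zpowers (v : G)) = bq p a (Subgroup.zpowers (v : G)) := hof.2.2.2.2
    have h2 : br (Subgroup.zpowers (v : G)) (idB M B) = idB M B := by
      apply br_of_sup
      rw [show Subgroup.centralizer ((Subgroup.zpowers (v : G) : Subgroup G) : Set G) = ⊤ from htop]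
      exact sup_top _
    rw [h2] at h1
    have h3 : IsBl (⊤ : Subgroup G) (bq p a (Subgroup.zpowers (v : G))) := by
      have := hle.isBl ha
      rwa [show cz (Subgroup.zpowers (v : G), bq p a (Subgroup.zpowers (v : G))).1 = ⊤ from htop] at this
    symm
    apply hBt.eq_of_mul h3
    rw [h1]; exact h3.ne
  have hlb : lb (cz (Subgroup.zpowers (v : G))) (bq p a (Subgroup.zpowers (v : G))) = eSet B := by
    apply lb_eq
    rw [hbq, htop]
    exact ⟨inS_eSet hB, eSet_mul_self B, sup_top _, fx_top.2 (isCen_eSet B), rfl⟩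
  have hY : Yf p (χ : G → ℂ) (ψ : G → ℂ) (v : G) (eSet B) =
      ((χ : G → ℂ) v / (χ : G → ℂ) 1) * conj ((ψ : G → ℂ) v / (ψ : G → ℂ) 1) * regInner p (χ : G → ℂ) (ψ : G → ℂ) := by
    rw [Yf_eq, regInner, Finset.mul_sum]
    refine Finset.sum_congr rfl fun s _ => ?_
    have hc : (v : G) * s = s * v := (Subgroup.mem_center_iff.1 hv s).symm
    by_cases hs : p ∣ orderOf s
    · rw [if_neg (fun h => h.2 hs), if_pos hs, mul_zero]
    · rw [if_pos ⟨hc, hs⟩, if_neg hs, ev_mul_eSet hχ, ev_mul_eSet hψ, ev_single, ev_single, one_mul, one_mul,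
        wt_val χ hv, wt_val ψ hv, map_mul]
      ring
  have hw : wP a.1 v = (Nat.card a.1 : ℂ) / (Nat.card G : ℂ) := by
    have h1 : Subgroup.centralizer ({v} : Set a.1) = ⊤ := by
      rw [eq_top_iff]
      intro g _
      rw [Subgroup.mem_centralizer_iff]
      intro h hh
      have hh' : h = v := hh
      rw [hh']
      exact Subtype.ext (Subgroup.mem_center_iff.1 hv g).symm
    have h2 : Subgroup.centralizer ({(v : G)} : Set G) = ⊤ := by
      rw [← cz_zpowers_eq, htop]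
    rw [wP, h1, h2, Subgroup.card_top, Subgroup.card_top]
  rw [hlb, hY, hw]
  ring

/-- the row relation, split -/
theorem row_split (hM : IsPModular p M) {B : Set (IrrCharacter G)} (hB : IsPBlock M B)
    (hnil : NilB p (idB M B)) {a : Subgroup G × MonoidAlgebra (kk M) G} [Fintype a.1] (hmax : MP p ⊤ (idB M B) a)
    {dd : G → IrrCharacter G → ℂ}
    (hdd : ∀ v : a.1, (v : G) ∉ Subgroup.center G → ∀ χ ψ : IrrCharacter G,
      wP a.1 v * Yf p (χ : G → ℂ) (ψ : G → ℂ) (v : G)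
        (lb (cz (Subgroup.zpowers (v : G))) (bq p a (Subgroup.zpowers (v : G)))) = dd v χ * conj (dd v ψ))
    {χ ψ : IrrCharacter G} (hχ : χ ∈ B) (hψ : ψ ∈ B)
    (hkχ : ∀ x ∈ a.1, x ∈ Subgroup.center G → (χ : G → ℂ) x = (χ : G → ℂ) 1)
    (hkψ : ∀ x ∈ a.1, x ∈ Subgroup.center G → (ψ : G → ℂ) x = (ψ : G → ℂ) 1) :
    (Nat.card a.1 : ℂ) * classInner (χ : G → ℂ) (ψ : G → ℂ) =
      ∑ v : a.1, (open Classical in if (v : G) ∈ Subgroup.center G then
        ((Nat.card a.1 : ℂ) / (Nat.card G : ℂ) * regInner p (χ : G → ℂ) (ψ : G → ℂ)) else dd v χ * conj (dd v ψ)) := by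
  classical
  rw [row_rel hM hB hnil hmax hχ ψ]
  refine Finset.sum_congr rfl fun v _ => ?_
  split_ifs with hv
  · rw [wP_Yf_central hM hB hmax v hv hχ hψ, hkχ v v.2 hv, hkψ v v.2 hv, div_self (IsIrr.one_ne_zero χ.2),
      div_self (IsIrr.one_ne_zero ψ.2)]
    simp
  · exact hdd v hv χ ψ

theorem ev_single_mul (χ : G → ℂ) (v : G) (i : MonoidAlgebra ℂ G) :
    ev χ (single v 1 * i) = ∑ g : G, i.coeff g * χ (v * g) := by
  rw [ev_eq_sum, ← Equiv.sum_comp (Equiv.mulLeft v)]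
  refine Finset.sum_congr rfl fun g _ => ?_
  have : (single v (1 : ℂ) * i).coeff (v * g) = i.coeff g := by
    rw [MonoidAlgebra.single_mul_apply]
    simp
  show (single v (1 : ℂ) * i).coeff (v * g) * χ (v * g) = _
  rw [this]

theorem card_mp (hM : IsPModular p M) {B : Set (IrrCharacter G)} (hB : IsPBlock M B)
    {a : Subgroup G × MonoidAlgebra (kk M) G} (hmax : MP p ⊤ (idB M B) a) : Nat.card a.1 = p ^ blockDefect p B :=
  defectGroup_card hM hB ((isDefectGroup_iff_DG hM hB).2 (hmax.dg hM (isBl_top hB)))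

theorem exists_height_zero_ker (hM : IsPModular p M) {B : Set (IrrCharacter G)} (hB : IsPBlock M B)
    {Z : Subgroup G} (hZ : Z ≤ Subgroup.center G) (hZp : IsPGroup p Z) :
    ∃ χ ∈ B, blockHeight p B (χ : G → ℂ) = 0 ∧ ∀ x ∈ Z, (χ : G → ℂ) x = (χ : G → ℂ) 1 := by
  classical
  obtain ⟨ξ, hξ, hξ0⟩ := exists_height_zero p (IsPBlock.nonempty hB)
  obtain ⟨c, hc1, hc2⟩ := reg_expand hM hZ hZp hB hξ
  by_contra hcon
  push Not at hcon
  set m := sInf ((fun χ : IrrCharacter G => (charDegree (χ : G → ℂ)).factorization p) '' B) with hm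
  have h1 := (height_zero_iff hξ).1 hξ0
  rw [← hm] at h1
  have h2 : ∀ χ : IrrCharacter G, c χ ≠ 0 → p ^ (m + 1) ∣ charDegree (χ : G → ℂ) := by
    intro χ hχ
    obtain ⟨hχB, hχk⟩ := hc1 χ hχ
    have h3 : blockHeight p B (χ : G → ℂ) ≠ 0 := by
      intro h0
      obtain ⟨x, hx, hne⟩ := hcon χ hχB h0
      exact hne (hχk x hx)
    have h4 : m ≤ (charDegree (χ : G → ℂ)).factorization p := min_degree_le hχB
    have h5 : (charDegree (χ : G → ℂ)).factorization p ≠ m := fun h => h3 ((height_zero_iff hχB).2 h)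
    exact (hp.out.pow_dvd_iff_le_factorization (charDegree_ne_zero χ)).2 (by omega)
  have h3 : (charDegree (ξ : G → ℂ) : ℤ) = ∑ χ : IrrCharacter G, c χ * (charDegree (χ : G → ℂ) : ℤ) := by
    have h4 := hc2 1 not_dvd_orderOf_one
    rw [(IsIrr.one_eq ξ.2).1] at h4
    have h5 : (charDegree (ξ : G → ℂ) : ℂ) = ∑ χ : IrrCharacter G, (c χ : ℂ) * (charDegree (χ : G → ℂ) : ℂ) := by
      rw [h4]
      exact Finset.sum_congr rfl fun χ _ => by rw [(IsIrr.one_eq χ.2).1]
    exact_mod_cast h5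
  have h4 : ((p ^ (m + 1) : ℕ) : ℤ) ∣ (charDegree (ξ : G → ℂ) : ℤ) := by
    rw [h3]
    apply Finset.dvd_sum
    intro χ _
    by_cases hχ : c χ = 0
    · rw [hχ, zero_mul]; exact dvd_zero _
    · exact Dvd.dvd.mul_left (by exact_mod_cast h2 χ hχ) _
  have h5 : p ^ (m + 1) ∣ charDegree (ξ : G → ℂ) := by exact_mod_cast h4
  have h6 := (hp.out.pow_dvd_iff_le_factorization (charDegree_ne_zero ξ)).1 h5
  rw [h1] at h6
  omega

end Core

end CfsgH4
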