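import Cfsg.Agent.H4.Nil11

set_option autoImplicit false
set_option linter.all false

/-! # Nilpotent blocks: the core of the main step -/

open Cfsg MonoidAlgebra
open CfsgH4 hiding centralChar sum_conj regInner_symm
open CfsgH5 ComplexConjugate

namespace CfsgH4

section Core2

variable {G : Type*} [Group G] [Fintype G] {M : Ideal AlgInt} [hMp : M.IsPrime] {p : ℕ} [hp : Fact p.Prime]

/-- the central characteristic function -/
theorem inner_cenFun {P : Subgroup G} [Fintype P] (μ : IrrCharacter P) :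
    ∃ m : ℕ, classInner (fun v : P => open Classical in if (v : G) ∈ Subgroup.center G then (1 : ℂ) else 0) (μ : P → ℂ) =
      (Nat.card P : ℂ)⁻¹ * (Nat.card ((Subgroup.center G).subgroupOf P) : ℂ) * m := by
  classical
  haveI := Fintype.ofFinite ((Subgroup.center G).subgroupOf P)
  obtain ⟨m, hm⟩ := IsCharacter.inner_nat
    (isCharacter_restrict ((Subgroup.center G).subgroupOf P) (IsIrr.isCharacter μ.2))
    (isCharacter_one (G := (Subgroup.center G).subgroupOf P))
  refine ⟨m, ?_⟩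
  have hc0 : (Nat.card ((Subgroup.center G).subgroupOf P) : ℂ) ≠ 0 := by exact_mod_cast Nat.card_pos.ne'
  rw [classInner_def] at hm
  have h1 : ∑ z : (Subgroup.center G).subgroupOf P, conj ((μ : P → ℂ) z) =
      (Nat.card ((Subgroup.center G).subgroupOf P) : ℂ) * m := by
    have h2 : ∑ z : (Subgroup.center G).subgroupOf P, (μ : P → ℂ) z =
        (Nat.card ((Subgroup.center G).subgroupOf P) : ℂ) * m := by
      rw [← hm, ← mul_assoc, mul_inv_cancel₀ hc0, one_mul]
      exact Finset.sum_congr rfl fun z _ => by simp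
    rw [← map_sum, h2]; simp
  rw [classInner_def, mul_assoc, ← h1]
  congr 1
  rw [sum_of_support (H := (Subgroup.center G).subgroupOf P) _ (fun x hx => by
    have : (x : G) ∉ Subgroup.center G := fun h => hx (Subgroup.mem_subgroupOf.2 h)
    simp only [if_neg this, zero_mul])]
  refine Finset.sum_congr rfl fun z _ => ?_
  have : ((z : P) : G) ∈ Subgroup.center G := Subgroup.mem_subgroupOf.1 z.2
  simp only [if_pos this, one_mul]

theorem nil_core (hM : IsPModular p M) {B : Set (IrrCharacter G)} (hB : IsPBlock M B)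
    (hnil : NilB p (idB M B)) {a : Subgroup G × MonoidAlgebra (kk M) G} (hmax : MP p ⊤ (idB M B) a)
    {i : MonoidAlgebra ℂ G} (hi : InS M i) (hii : i * i = i) (hfi : Fx a.1 i)
    {n : Subgroup G → ℕ} {dd : G → IrrCharacter G → ℂ}
    (hpk : ∀ v : a.1, (v : G) ∉ Subgroup.center G →
      (∀ χ : IrrCharacter G, ev (χ : G → ℂ) (single (v : G) 1 * i) = n (Subgroup.zpowers (v : G)) * dd v χ) ∧
      (∀ χ : IrrCharacter G, IsIntegral ℤ (dd v χ)) ∧
      (∀ χ ψ : IrrCharacter G, wP a.1 v * Yf p (χ : G → ℂ) (ψ : G → ℂ) (v : G)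
        (lb (cz (Subgroup.zpowers (v : G))) (bq p a (Subgroup.zpowers (v : G)))) = dd v χ * conj (dd v ψ)))
    {χ : IrrCharacter G} (hχ : χ ∈ B) (h0 : blockHeight p B (χ : G → ℂ) = 0)
    (hkχ : ∀ x ∈ a.1, x ∈ Subgroup.center G → (χ : G → ℂ) x = (χ : G → ℂ) 1)
    (hπ : ¬ MemLocalIdeal M (ev (χ : G → ℂ) i)) {ψ : IrrCharacter G} (hψ : ψ ∈ B)
    (hkψ : ∀ x ∈ a.1, x ∈ Subgroup.center G → (ψ : G → ℂ) x = (ψ : G → ℂ) 1) :
    ∃ A : ℤ, ∀ x : G, ¬ p ∣ orderOf x → (ψ : G → ℂ) x = A * (χ : G → ℂ) x := by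
  classical
  haveI : Fintype a.1 := Fintype.ofFinite _
  have hBt := isBl_top hB
  have ha : IsBl (cz a.1) a.2 := hmax.1.2.2.2.1
  have hap : IsPGroup p a.1 := hmax.1.1
  have hcard := card_mp hM hB hmax
  have hcX0 : (Nat.card a.1 : ℂ) ≠ 0 := by exact_mod_cast Nat.card_pos.ne'
  have hcG0 : (Nat.card G : ℂ) ≠ 0 := by exact_mod_cast Nat.card_pos.ne'
  obtain ⟨A, hA1, -, -, hApos, -, -, -, -, -, hAne⟩ := contr hM hB hχ
  have hAne' : A ψ ≠ 0 := hAne h0 ψ hψ
  have hreg : ∀ φ : IrrCharacter G, (Nat.card a.1 : ℂ) / (Nat.card G : ℂ) * regInner p (χ : G → ℂ) (φ : G → ℂ) = A φ := by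
    intro φ
    have := hA1 φ
    rw [hcard]; push_cast
    field_simp
    linear_combination this
  have hreg' : (Nat.card a.1 : ℂ) / (Nat.card G : ℂ) * regInner p (ψ : G → ℂ) (χ : G → ℂ) = A ψ := by
    rw [CfsgH5.regInner_symm (IsIrr.isCharacter ψ.2) (IsIrr.isCharacter χ.2)]; exact hreg ψ
  -- the cut characters
  obtain ⟨π, hπdef⟩ : ∃ π : IrrCharacter G → a.1 → ℂ, π = fun (φ : IrrCharacter G) (v : a.1) => ev (φ : G → ℂ) (single (v : G) 1 * i) := ⟨_, rfl⟩
  have hπc : ∀ φ, IsCharacter a.1 (π φ) := by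
    intro φ
    rw [hπdef]
    exact isCharacter_cut a.1 hii hfi (IsIrr.isCharacter φ.2)
  have hord : ∀ v : a.1, ∃ k, orderOf v = p ^ k := fun v => (IsPGroup.iff_orderOf.1 hap) v
  have hunit : ∀ v : a.1, ¬ MemLocalIdeal M (π χ v) := by
    intro v
    have h1 := char_cong' hM (hπc χ) (Commute.one_right v) (hord v)
    rw [mul_one] at h1
    apply not_memLocalIdeal_of_sub h1
    rw [hπdef]
    show ¬ MemLocalIdeal M (ev (χ : G → ℂ) (single ((1 : a.1) : G) 1 * i))
    rw [Subgroup.coe_one, ← MonoidAlgebra.one_def, one_mul]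
    exact hπ
  have hπne : ∀ v : a.1, π χ v ≠ 0 := fun v => ne_zero_of_not_memLocalIdeal (hunit v)
  have hpi : ∀ (φ : IrrCharacter G) (v : a.1), (v : G) ∉ Subgroup.center G → π φ v = n (Subgroup.zpowers (v : G)) * dd v φ := by
    intro φ v hv
    rw [hπdef]; exact (hpk v hv).1 φ
  have hn0 : ∀ v : a.1, (v : G) ∉ Subgroup.center G → (n (Subgroup.zpowers (v : G)) : ℂ) ≠ 0 := by
    intro v hv h
    apply hπne v
    rw [hpi χ v hv, h, zero_mul]
  have hddeq : ∀ (φ : IrrCharacter G) (v : a.1), (v : G) ∉ Subgroup.center G →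
      dd v φ = π φ v / n (Subgroup.zpowers (v : G)) := by
    intro φ v hv
    rw [hpi φ v hv, mul_div_cancel_left₀ _ (hn0 v hv)]
  -- powers
  have hzp : ∀ (v : a.1) (k : ℕ), k.Coprime (Nat.card a.1) →
      Subgroup.zpowers ((v ^ k : a.1) : G) = Subgroup.zpowers (v : G) := by
    intro v k hk
    rw [Subgroup.coe_pow]
    apply zp_pow _ hk
    rw [Subgroup.orderOf_coe]; exact orderOf_dvd_natCard v
  have hcpow : ∀ (v : a.1) (k : ℕ), k.Coprime (Nat.card a.1) →
      (((v ^ k : a.1) : G) ∈ Subgroup.center G ↔ (v : G) ∈ Subgroup.center G) := by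
    intro v k hk
    rw [center_iff_zp, hzp v k hk, ← center_iff_zp]
  have hgaldd : ∀ (σ : ℂ ≃+* ℂ) (k : ℕ), k.Coprime (Nat.card a.1) → (∀ z : ℂ, z ^ Nat.card a.1 = 1 → σ z = z ^ k) →
      ∀ (v : a.1), (v : G) ∉ Subgroup.center G → ∀ φ : IrrCharacter G, σ (dd v φ) = dd ((v ^ k : a.1) : G) φ ∧
        σ (conj (dd v φ)) = conj (dd ((v ^ k : a.1) : G) φ) := by
    intro σ k hk hσ v hv φ
    have hv' : ((v ^ k : a.1) : G) ∉ Subgroup.center G := fun h => hv ((hcpow v k hk).1 h)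
    rw [hddeq φ v hv, hddeq φ (v ^ k) hv', hzp v k hk]
    constructor
    · rw [map_div₀, map_natCast, char_aut_pow (fun g => orderOf_dvd_natCard g) σ hσ (hπc φ)]
    · rw [map_div₀, map_div₀, map_div₀, Complex.conj_natCast, map_natCast,
        galois_conj_char rfl σ hσ (hπc φ)]
  -- the arithmetic-geometric step
  set S : Finset a.1 := Finset.univ.filter (fun v : a.1 => (v : G) ∉ Subgroup.center G) with hS
  have hmemS : ∀ v : a.1, v ∈ S ↔ (v : G) ∉ Subgroup.center G := fun v => by rw [hS, Finset.mem_filter]; simp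
  set Zc : Finset a.1 := Finset.univ.filter (fun v : a.1 => (v : G) ∈ Subgroup.center G) with hZc
  have hcZ : Zc.card = Nat.card ((Subgroup.center G).subgroupOf a.1) := by
    rw [hZc, Nat.card_eq_fintype_card, ← Fintype.card_subtype]
    exact Fintype.card_congr (Equiv.subtypeEquivRight fun v => Subgroup.mem_subgroupOf.symm)
  have hSZ : S.card + Zc.card = Nat.card a.1 := by
    rw [hS, hZc, Nat.card_eq_fintype_card, add_comm, Finset.card_filter_add_card_filter_not]
    rfl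
  have hZpos : 0 < Zc.card := by rw [hcZ]; exact Nat.card_pos
  have hsplit : ∀ {φ φ' : IrrCharacter G}, φ ∈ B → φ' ∈ B →
      (∀ x ∈ a.1, x ∈ Subgroup.center G → (φ : G → ℂ) x = (φ : G → ℂ) 1) →
      (∀ x ∈ a.1, x ∈ Subgroup.center G → (φ' : G → ℂ) x = (φ' : G → ℂ) 1) →
      (Nat.card a.1 : ℂ) * classInner (φ : G → ℂ) (φ' : G → ℂ) =
      ∑ v ∈ S, dd v φ * conj (dd v φ') +
        Zc.card * ((Nat.card a.1 : ℂ) / (Nat.card G : ℂ) * regInner p (φ : G → ℂ) (φ' : G → ℂ)) := by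
    intro φ φ' hφ hφ' hk hk'
    rw [row_split hM hB hnil hmax (fun v hv => (hpk v hv).2.2) hφ hφ' hk hk', Finset.sum_ite, ← hS, ← hZc,
      Finset.sum_const, nsmul_eq_mul, add_comm]
  obtain ⟨hAχ, hone⟩ := amgm S (fun k hk v => by
      rw [hmemS, hmemS, hcpow v k hk]) (fun v : a.1 => dd v χ)
    (fun v hv => (hpk v ((hmemS v).1 hv)).2.1 χ)
    (fun v hv h => hπne v (by rw [hpi χ v ((hmemS v).1 hv), h, mul_zero]))
    (fun σ k hk hσ v hv => by
      have := hgaldd σ k hk hσ v ((hmemS v).1 hv) χ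
      rw [map_mul, this.1, this.2]) hApos hZpos (by
      have h1 := hsplit hχ hχ hkχ hkχ
      rw [classInner_irr_self χ.2, mul_one, hreg χ] at h1
      have h2 : (Nat.card a.1 : ℂ) = (S.card : ℂ) + Zc.card := by rw [← hSZ]; push_cast; rfl
      rw [← h2, h1])
  -- the function D
  obtain ⟨D, hD⟩ : ∃ D : a.1 → ℂ, D = fun v : a.1 => if (v : G) ∈ Subgroup.center G then (A ψ : ℂ) else dd v ψ * conj (dd v χ) := ⟨_, rfl⟩
  have hDz : ∀ v : a.1, (v : G) ∈ Subgroup.center G → D v = A ψ := fun v hv => by rw [hD]; exact if_pos hv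
  have hDs : ∀ v : a.1, (v : G) ∉ Subgroup.center G → D v = dd v ψ * conj (dd v χ) := fun v hv => by rw [hD]; exact if_neg hv
  obtain ⟨F, hF⟩ : ∃ F : a.1 → ℂ, F = fun v : a.1 => (π ψ v * conj (π χ v)) / (π χ v * conj (π χ v)) := ⟨_, rfl⟩
  have hconjne : ∀ v : a.1, conj (π χ v) ≠ 0 := fun v h => hπne v (by
    have := congrArg conj h
    rwa [Complex.conj_conj, map_zero] at this)
  have hFs : ∀ v : a.1, (v : G) ∉ Subgroup.center G → F v = D v := by
    intro v hv
    rw [hDs v hv, hF]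
    show (π ψ v * conj (π χ v)) / (π χ v * conj (π χ v)) = _
    rw [div_eq_iff (mul_ne_zero (hπne v) (hconjne v)), hpi ψ v hv, hpi χ v hv, map_mul, Complex.conj_natCast]
    have h1 := hone v ((hmemS v).2 hv)
    linear_combination (-(n (Subgroup.zpowers (v : G)) : ℂ) ^ 2 * dd v ψ * conj (dd v χ)) * h1
  have hπcen : ∀ (φ : IrrCharacter G), (∀ x ∈ a.1, x ∈ Subgroup.center G → (φ : G → ℂ) x = (φ : G → ℂ) 1) →
      ∀ v : a.1, (v : G) ∈ Subgroup.center G → π φ v = π φ 1 := by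
    intro φ hk v hv
    rw [hπdef]
    show ev (φ : G → ℂ) (single (v : G) 1 * i) = ev (φ : G → ℂ) (single ((1 : a.1) : G) 1 * i)
    rw [ev_single_mul, ev_single_mul]
    refine Finset.sum_congr rfl fun g _ => ?_
    rw [wt_val φ hv, hk v v.2 hv, div_self (IsIrr.one_ne_zero φ.2), one_mul, Subgroup.coe_one, one_mul]
  have hFz : ∀ v : a.1, (v : G) ∈ Subgroup.center G → F v = F 1 := by
    intro v hv
    rw [hF]
    show (π ψ v * conj (π χ v)) / (π χ v * conj (π χ v)) = (π ψ 1 * conj (π χ 1)) / (π χ 1 * conj (π χ 1))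
    rw [hπcen ψ hkψ v hv, hπcen χ hkχ v hv]
  obtain ⟨IZ, hIZ⟩ : ∃ IZ : a.1 → ℂ, IZ = fun v : a.1 => if (v : G) ∈ Subgroup.center G then (1 : ℂ) else 0 := ⟨_, rfl⟩
  have hDF : D = F + (A ψ - F 1) • IZ := by
    funext v
    rw [Pi.add_apply, Pi.smul_apply, smul_eq_mul, hIZ]
    by_cases hv : (v : G) ∈ Subgroup.center G
    · rw [hDz v hv, hFz v hv]
      simp only [if_pos hv]; ring
    · rw [hFs v hv]
      simp only [if_neg hv]; ring
  have hgψ := IsCharacter.isGen (hπc ψ)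
  have hgχ := IsCharacter.isGen (hπc χ)
  have hgc := isGen_conj hgχ
  have hFro : ∀ μ : IrrCharacter a.1, MemLocalRing M (classInner F (μ : a.1 → ℂ)) := by
    intro μ
    rw [hF]
    apply mem_ro (isGen_mul hgψ hgc) (isGen_mul hgχ hgc)
    intro v
    show ¬ MemLocalIdeal M (π χ v * conj (π χ v))
    rw [memLocalIdeal_mul_iff (memLocalRing_char (hπc χ) v) (by
      rw [← IsCharacter.inv_eq (hπc χ)]; exact memLocalRing_char (hπc χ) _)]
    rintro (h | h)
    · exact hunit v h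
    · rw [← IsCharacter.inv_eq (hπc χ)] at h
      exact hunit _ h
  have hinnerD : ∀ μ : IrrCharacter a.1, classInner D (μ : a.1 → ℂ) = classInner F (μ : a.1 → ℂ) +
      (A ψ - F 1) * classInner IZ (μ : a.1 → ℂ) := by
    intro μ
    rw [hDF, classInner_add_left, classInner_smul_left]
  have hsumD : ∑ v : a.1, D v = (Nat.card a.1 : ℂ) * classInner (ψ : G → ℂ) (χ : G → ℂ) := by
    rw [hsplit hψ hχ hkψ hkχ, hreg']
    have h1 : ∑ v : a.1, D v = ∑ v ∈ Zc, D v + ∑ v ∈ S, D v := by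
      rw [hZc, hS]
      exact (Finset.sum_filter_add_sum_filter_not _ _ _).symm
    rw [h1, add_comm]
    congr 1
    · exact Finset.sum_congr rfl fun v hv => hDs v ((hmemS v).1 hv)
    · rw [Finset.sum_congr rfl fun v hv => hDz v (Finset.mem_filter.1 hv).2, Finset.sum_const, nsmul_eq_mul]
  have hD1 : MemLocalRing M (classInner D (irrOne a.1 : a.1 → ℂ)) := by
    have h1 : classInner D (irrOne a.1 : a.1 → ℂ) = classInner (ψ : G → ℂ) (χ : G → ℂ) := by
      rw [classInner_def]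
      have h2 : ∑ v : a.1, D v * conj ((irrOne a.1 : a.1 → ℂ) v) = ∑ v : a.1, D v := by
        refine Finset.sum_congr rfl fun v _ => ?_
        show D v * conj (1 : ℂ) = D v
        rw [map_one, mul_one]
      rw [h2, hsumD, ← mul_assoc, inv_mul_cancel₀ hcX0, one_mul]
    rw [h1, classInner_irr']
    split_ifs
    · exact memLocalRing_one
    · exact memLocalRing_zero
  have hκ : MemLocalRing M ((A ψ - F 1) * ((Nat.card a.1 : ℂ)⁻¹ * (Nat.card ((Subgroup.center G).subgroupOf a.1) : ℂ))) := by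
    have h1 : classInner IZ (irrOne a.1 : a.1 → ℂ) =
        (Nat.card a.1 : ℂ)⁻¹ * (Nat.card ((Subgroup.center G).subgroupOf a.1) : ℂ) := by
      rw [classInner_def, hIZ, ← hcZ]
      congr 1
      have h2 : ∀ v : a.1, (if (v : G) ∈ Subgroup.center G then (1 : ℂ) else 0) * conj ((irrOne a.1 : a.1 → ℂ) v) =
          if (v : G) ∈ Subgroup.center G then (1 : ℂ) else 0 := by
        intro v
        show _ * conj (1 : ℂ) = _
        rw [map_one, mul_one]
      rw [Finset.sum_congr rfl fun v _ => h2 v, Finset.sum_boole, hZc]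
    have h2 := hinnerD (irrOne a.1)
    rw [h1] at h2
    have h3 : (A ψ - F 1) * ((Nat.card a.1 : ℂ)⁻¹ * (Nat.card ((Subgroup.center G).subgroupOf a.1) : ℂ)) =
        classInner D (irrOne a.1 : a.1 → ℂ) - classInner F (irrOne a.1 : a.1 → ℂ) := by rw [h2]; ring
    rw [h3]
    exact MemLocalRing.sub hD1 (hFro _)
  have hDro : ∀ μ : IrrCharacter a.1, MemLocalRing M (classInner D (μ : a.1 → ℂ)) := by
    intro μ
    obtain ⟨m, hm⟩ := inner_cenFun μ
    have h1 : classInner IZ (μ : a.1 → ℂ) =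
      (Nat.card a.1 : ℂ)⁻¹ * (Nat.card ((Subgroup.center G).subgroupOf a.1) : ℂ) * m := by
      rw [hIZ]; convert hm
    rw [hinnerD μ, h1]
    refine MemLocalRing.add (hFro μ) ?_
    rw [← mul_assoc]
    exact MemLocalRing.mul hκ (memLocalRing_natCast m)
  have hDint : ∀ v, IsIntegral ℤ (D v) := by
    intro v
    by_cases hv : (v : G) ∈ Subgroup.center G
    · rw [hDz v hv]; exact isIntegral_algebraMap (R := ℤ) (A := ℂ) (x := A ψ)
    · rw [hDs v hv]
      exact ((hpk v hv).2.1 ψ).mul (isIntegral_conj ((hpk v hv).2.1 χ))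
  have hDgal : GalEq D := by
    intro σ k hk hσ v
    by_cases hv : (v : G) ∈ Subgroup.center G
    · rw [hDz v hv, hDz _ ((hcpow v k hk).2 hv), map_intCast]
    · rw [hDs v hv, hDs _ (fun h => hv ((hcpow v k hk).1 h)), map_mul, (hgaldd σ k hk hσ v hv ψ).1,
        (hgaldd σ k hk hσ v hv χ).2]
  have hDcl : IsClassFunction a.1 D := by
    intro g h
    have hcen : ((h * g * h⁻¹ : a.1) : G) ∈ Subgroup.center G ↔ (g : G) ∈ Subgroup.center G := by
      have hn : (Subgroup.center G).Normal := inferInstance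
      constructor
      · intro hh
        have := hn.conj_mem _ hh ((h : G)⁻¹)
        have e : (h : G)⁻¹ * ((h * g * h⁻¹ : a.1) : G) * ((h : G)⁻¹)⁻¹ = g := by push_cast; group
        rwa [e] at this
      · intro hh
        have := hn.conj_mem _ hh (h : G)
        exact this
    by_cases hg : (g : G) ∈ Subgroup.center G
    · rw [hDz g hg, hDz _ (hcen.2 hg)]
    · rw [← hFs g hg, ← hFs _ (fun h' => hg (hcen.1 h')), hF]
      show (π ψ (h * g * h⁻¹) * conj (π χ (h * g * h⁻¹))) / (π χ (h * g * h⁻¹) * conj (π χ (h * g * h⁻¹))) = _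
      rw [IsCharacter.isClassFunction (hπc ψ), IsCharacter.isClassFunction (hπc χ)]
  obtain ⟨-, m, hm⟩ := norm_int hDcl (fun μ => int_of_ro hM hcard hDint hDgal (hDro μ))
  -- the norm
  have hnorm : (Nat.card a.1 : ℂ) * classInner D D = ∑ v ∈ S, dd v ψ * conj (dd v ψ) + Zc.card * (A ψ : ℂ) ^ 2 := by
    rw [classInner_def, ← mul_assoc, mul_inv_cancel₀ hcX0, one_mul]
    have h1 : ∑ v : a.1, D v * conj (D v) = ∑ v ∈ Zc, D v * conj (D v) + ∑ v ∈ S, D v * conj (D v) := by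
      rw [hZc, hS]
      exact (Finset.sum_filter_add_sum_filter_not _ _ _).symm
    rw [h1, add_comm]
    congr 1
    · refine Finset.sum_congr rfl fun v hv => ?_
      rw [hDs v ((hmemS v).1 hv), map_mul, Complex.conj_conj]
      linear_combination (dd v ψ * conj (dd v ψ)) * hone v hv
    · have h2 : ∀ v ∈ Zc, D v * conj (D v) = (A ψ : ℂ) ^ 2 := by
        intro v hv
        rw [hDz v (Finset.mem_filter.1 hv).2, map_intCast]; ring
      rw [Finset.sum_congr rfl h2, Finset.sum_const, nsmul_eq_mul]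
  have hψψ := hsplit hψ hψ hkψ hkψ
  rw [classInner_irr_self ψ.2, mul_one] at hψψ
  set R : ℝ := ∑ x : G, if p ∣ orderOf x then 0 else Complex.normSq ((ψ : G → ℂ) x - A ψ * (χ : G → ℂ) x) with hR
  have hRC : (R : ℂ) = regInner p (ψ : G → ℂ) (ψ : G → ℂ) - A ψ * regInner p (ψ : G → ℂ) (χ : G → ℂ)
      - A ψ * regInner p (χ : G → ℂ) (ψ : G → ℂ) + (A ψ : ℂ) ^ 2 * regInner p (χ : G → ℂ) (χ : G → ℂ) := by
    rw [hR]
    push_cast
    simp only [regInner, Finset.mul_sum, ← Finset.sum_sub_distrib, ← Finset.sum_add_distrib]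
    refine Finset.sum_congr rfl fun x _ => ?_
    split_ifs
    · simp
    · rw [← Complex.mul_conj, map_sub, map_mul, map_intCast]; ring
  have hχχ := hreg χ
  rw [hAχ] at hχχ
  have hfin : (Nat.card a.1 : ℂ) * (m : ℂ) = (Nat.card a.1 : ℂ) - (Zc.card : ℂ) * ((Nat.card a.1 : ℂ) / (Nat.card G : ℂ) * R) := by
    rw [← hm, hnorm, hRC]
    have h1 := hreg ψ
    push_cast at hχχ
    linear_combination -hψψ + (Zc.card : ℂ) * (-(A ψ : ℂ)) * (h1 - (1:ℂ) * h1) - (Zc.card : ℂ) * (A ψ : ℂ) * h1 - (Zc.card : ℂ) * (A ψ : ℂ) * hreg' + (Zc.card : ℂ) * (A ψ : ℂ) ^ 2 * hχχ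
  have hfinR : (Nat.card a.1 : ℝ) * (m : ℝ) = (Nat.card a.1 : ℝ) - (Zc.card : ℝ) * ((Nat.card a.1 : ℝ) / (Nat.card G : ℝ) * R) := by
    apply Complex.ofReal_injective
    push_cast
    exact hfin
  have hR0 : 0 ≤ R := by
    rw [hR]
    refine Finset.sum_nonneg fun x _ => ?_
    split_ifs
    · exact le_rfl
    · exact Complex.normSq_nonneg _
  have hXpos : (0 : ℝ) < Nat.card a.1 := by exact_mod_cast Nat.card_pos
  have hGpos : (0 : ℝ) < Nat.card G := by exact_mod_cast Nat.card_pos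
  have hZr : (0 : ℝ) < Zc.card := by exact_mod_cast hZpos
  have hm1 : 1 ≤ m := by
    have hm0 : m ≠ 0 := by
      rintro rfl
      rw [Int.cast_zero] at hm
      have h1 := classInner_self_eq_zero hm
      have h2 := congrFun h1 1
      rw [hDz 1 (by rw [Subgroup.coe_one]; exact Subgroup.one_mem _)] at h2
      apply hAne'
      have h3 : (A ψ : ℂ) = 0 := h2
      exact_mod_cast h3
    have h1 := classInner_self_eq D
    rw [hm] at h1
    have h2 : (m : ℝ) = (Nat.card a.1 : ℝ)⁻¹ * ∑ g : a.1, ‖D g‖ ^ 2 := by exact_mod_cast h1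
    have h3 : (0 : ℝ) ≤ m := by
      rw [h2]
      exact mul_nonneg (inv_nonneg.2 hXpos.le) (Finset.sum_nonneg fun g _ => by positivity)
    have h4 : 0 ≤ m := by exact_mod_cast h3
    omega
  have hRz : R = 0 := by
    have h1 : (1 : ℝ) ≤ m := by exact_mod_cast hm1
    have h2 : 0 ≤ (Zc.card : ℝ) * ((Nat.card a.1 : ℝ) / (Nat.card G : ℝ) * R) :=
      mul_nonneg hZr.le (mul_nonneg (div_nonneg hXpos.le hGpos.le) hR0)
    have h3 : (Zc.card : ℝ) * ((Nat.card a.1 : ℝ) / (Nat.card G : ℝ) * R) ≤ 0 := by nlinarith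
    have h4 : (Zc.card : ℝ) * ((Nat.card a.1 : ℝ) / (Nat.card G : ℝ) * R) = 0 := le_antisymm h3 h2
    have h5 : (Zc.card : ℝ) * ((Nat.card a.1 : ℝ) / (Nat.card G : ℝ)) ≠ 0 :=
      mul_ne_zero hZr.ne' (div_ne_zero hXpos.ne' hGpos.ne')
    rw [← mul_assoc] at h4
    rcases mul_eq_zero.1 h4 with h | h
    · exact absurd h h5
    · exact h
  refine ⟨A ψ, fun x hx => ?_⟩
  have h1 : ∀ y ∈ (Finset.univ : Finset G), 0 ≤ (if p ∣ orderOf y then 0 else Complex.normSq ((ψ : G → ℂ) y - A ψ * (χ : G → ℂ) y)) := by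
    intro y _
    split_ifs
    · exact le_rfl
    · exact Complex.normSq_nonneg _
  have h2 := (Finset.sum_eq_zero_iff_of_nonneg h1).1 hRz x (Finset.mem_univ x)
  rw [if_neg hx, Complex.normSq_eq_zero, sub_eq_zero] at h2
  exact h2

end Core2

end CfsgH4
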