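import Cfsg.Agent.H4.Nil12

set_option autoImplicit false
set_option linter.all false

/-! # Nilpotent blocks have rank one -/

open Cfsg MonoidAlgebra
open CfsgH4 hiding centralChar sum_conj regInner_symm
open CfsgH5 ComplexConjugate

namespace CfsgH4

section Step

variable {G : Type*} [Group G] [Fintype G] {M : Ideal AlgInt} [hMp : M.IsPrime] {p : ℕ} [hp : Fact p.Prime]

theorem memLocalRing_ev {χ : IrrCharacter G} {i : MonoidAlgebra ℂ G} (hi : InS M i) : MemLocalRing M (ev (χ : G → ℂ) i) := by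
  rw [ev_eq_sum]
  exact memLocalRing_sum _ _ fun g _ => MemLocalRing.mul (hi g) (memLocalRing_char (IsIrr.isCharacter χ.2) g)

/-- the good idempotent -/
theorem exists_good (hM : IsPModular p M) {B : Set (IrrCharacter G)} (hB : IsPBlock M B)
    {P : Subgroup G} (hP : IsDefectGroup p M B P) {χ : IrrCharacter G} (hχ : χ ∈ B) (h0 : blockHeight p B (χ : G → ℂ) = 0) :
    ∃ (e : MonoidAlgebra (kk M) G) (ib : MonoidAlgebra (kk M) G) (i : MonoidAlgebra ℂ G), MP p ⊤ (idB M B) (P, e) ∧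
      ib * ib = ib ∧ Fx P ib ∧ (∀ (Q : Subgroup G) (f : MonoidAlgebra (kk M) G), LE p (Q, f) (P, e) → br Q ib * f = br Q ib) ∧
      InS M i ∧ i * i = i ∧ rd M i = ib ∧ Fx P i ∧ ¬ MemLocalIdeal M (ev (χ : G → ℂ) i) := by
  have hPp : IsPGroup p P := IsDefectGroup.isPGroup hP
  obtain ⟨e, hmax, z, hz1, hz2, hz3⟩ := exists_pair hM hB hP hχ h0
  obtain ⟨ib, hib, hfib, hτ, hbr⟩ := exists_local_idem hM (isBl_top hB) hmax (evk M (χ : G → ℂ)).toAddMonoidHom
    ⟨z, hz1, hz2, hz3⟩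
  obtain ⟨i, hi, hii, hred, hfi⟩ := exists_lift_fx hib hfib
  refine ⟨e, ib, i, hmax, hib, hfib, hbr, hi, hii, hred, hfi, ?_⟩
  intro h
  apply hτ
  show evk M (χ : G → ℂ) (br P ib * e) = 0
  have hcl : ∀ x g, (χ : G → ℂ) (x * g * x⁻¹) = (χ : G → ℂ) g := fun x g => (IsIrr.isClassFunction χ.2) g x
  rw [hbr P e (LE.refl _), evk_br hM hcl hPp hfib, ← hred,
    evk_rd (fun g => memLocalRing_char (IsIrr.isCharacter χ.2) g) hi]
  exact (resid_eq_zero_iff (memLocalRing_ev hi)).2 h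

theorem nil_step (hM : IsPModular p M) {B : Set (IrrCharacter G)} (hB : IsPBlock M B)
    (hnil : NilB p (idB M B)) (hloc : ∀ a : Subgroup G × MonoidAlgebra (kk M) G, MP p ⊤ (idB M B) a →
      ∀ v ∈ a.1, v ∉ Subgroup.center G → LocQ p a (Subgroup.zpowers v)) : ∃ θ, IsR1 p B θ := by
  classical
  obtain ⟨P, hP⟩ := exists_defectGroup hM hB
  have hPp : IsPGroup p P := IsDefectGroup.isPGroup hP
  have hZ : P ⊓ Subgroup.center G ≤ Subgroup.center G := inf_le_right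
  have hZp : IsPGroup p (P ⊓ Subgroup.center G : Subgroup G) := hPp.to_le inf_le_left
  obtain ⟨χ, hχ, h0, hker⟩ := exists_height_zero_ker hM hB hZ hZp
  obtain ⟨e, ib, i, hmax, hib, hfib, hbr, hi, hii, hred, hfi, hπ⟩ := exists_good hM hB hP hχ h0
  obtain ⟨n, dd, hpk⟩ := exists_pack hM (isBl_top hB) hnil hmax hib hfib hbr hi hii hred hfi
  have hcore : ∀ ψ : IrrCharacter G, ψ ∈ B → (∀ x ∈ P, x ∈ Subgroup.center G → (ψ : G → ℂ) x = (ψ : G → ℂ) 1) →
      ∃ A : ℤ, ∀ x : G, ¬ p ∣ orderOf x → (ψ : G → ℂ) x = A * (χ : G → ℂ) x := fun ψ hψ hkψ =>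
    nil_core hM hB hnil hmax hi hii hfi (fun v hv => hpk v (hloc _ hmax v v.2 hv)) hχ h0
      (fun x hx hx' => hker x ⟨hx, hx'⟩) hπ hψ hkψ
  refine ⟨χ, hχ, fun ψ hψ => ?_⟩
  obtain ⟨c, hc1, hc2⟩ := reg_expand hM hZ hZp hB hψ
  have hA : ∀ φ : IrrCharacter G, ∃ A : ℤ, c φ ≠ 0 → ∀ x : G, ¬ p ∣ orderOf x → (φ : G → ℂ) x = A * (χ : G → ℂ) x := by
    intro φ
    by_cases h : c φ = 0
    · exact ⟨0, fun h' => absurd h h'⟩
    · obtain ⟨h1, h2⟩ := hc1 φ h
      obtain ⟨A, hA⟩ := hcore φ h1 (fun x hx hx' => h2 x ⟨hx, hx'⟩)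
      exact ⟨A, fun _ => hA⟩
  choose A hA using hA
  have hN : ∀ x : G, ¬ p ∣ orderOf x → (ψ : G → ℂ) x = ((∑ φ : IrrCharacter G, c φ * A φ : ℤ) : ℂ) * (χ : G → ℂ) x := by
    intro x hx
    rw [hc2 x hx]
    push_cast
    rw [Finset.sum_mul]
    refine Finset.sum_congr rfl fun φ _ => ?_
    by_cases h : c φ = 0
    · rw [h]; simp
    · rw [hA φ h x hx]; ring
  set N : ℤ := ∑ φ : IrrCharacter G, c φ * A φ with hNdef
  have h1 := hN 1 not_dvd_orderOf_one
  rw [(IsIrr.one_eq ψ.2).1, (IsIrr.one_eq χ.2).1] at h1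
  have h2 : (charDegree (ψ : G → ℂ) : ℤ) = N * charDegree (χ : G → ℂ) := by exact_mod_cast h1
  have h3 : 0 ≤ N := by
    by_contra hneg
    push Not at hneg
    have h4 : (0 : ℤ) < charDegree (χ : G → ℂ) := by exact_mod_cast (IsIrr.one_eq χ.2).2
    have h5 : (0 : ℤ) < charDegree (ψ : G → ℂ) := by exact_mod_cast (IsIrr.one_eq ψ.2).2
    nlinarith
  refine ⟨N.toNat, fun x hx => ?_⟩
  rw [hN x hx]
  congr 1
  have : ((N.toNat : ℤ) : ℂ) = (N : ℂ) := by rw [Int.toNat_of_nonneg h3]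
  rw [← this]; push_cast; rfl

end Step

section Main

universe u

variable {M : Ideal AlgInt} [hMp : M.IsPrime] {p : ℕ} [hp : Fact p.Prime]

theorem nil_R1_aux (hM : IsPModular p M) : ∀ (n : ℕ) (G : Type u) [Group G] [Finite G], Nat.card G = n →
    ∀ {B : Set (IrrCharacter G)}, IsPBlock M B → NilB p (idB M B) → ∃ θ, IsR1 p B θ := by
  intro n
  induction n using Nat.strong_induction_on with
  | _ n ih =>
    intro G _ _ hcard B hB hnil
    haveI := Fintype.ofFinite G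
    apply nil_step hM hB hnil
    intro a hmax v hv hvc
    have hBt := isBl_top hB
    have ha : IsBl (cz a.1) a.2 := hmax.1.2.2.2.1
    have hap : IsPGroup p a.1 := hmax.1.1
    have hle := bq_le hM hap ha (Q := Subgroup.zpowers v) (by rw [Subgroup.zpowers_le]; exact hv)
    have hof := (LE.of_iff hM hBt hle le_top le_top).2 hmax.1
    have hnl := nilB_local hM hBt hnil hof
    obtain ⟨e, he, hid⟩ := exists_block_of_isBl (hle.isBl ha)
    simp only at hid
    rw [hid, rsK_idH] at hnl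
    have hlt : Nat.card (cz (Subgroup.zpowers v)) < n := by
      rw [← hcard]
      have h1 : cz (Subgroup.zpowers v) ≠ ⊤ := by
        intro h
        apply hvc
        rw [Subgroup.mem_center_iff]
        intro g
        have : g ∈ cz (Subgroup.zpowers v) := by rw [h]; trivial
        exact (mem_cz_zpowers.1 this).symm
      by_contra h2
      push Not at h2
      exact h1 (Subgroup.eq_top_of_le_card _ h2)
    obtain ⟨θ, hθ⟩ := ih _ hlt (cz (Subgroup.zpowers v)) rfl he hnl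
    exact ⟨e, θ, he, hid.symm, hθ⟩

theorem nil_R1 {G : Type u} [Group G] [Finite G] (hM : IsPModular p M) {B : Set (IrrCharacter G)} (hB : IsPBlock M B)
    (hnil : NilB p (idB M B)) : ∃ θ, IsR1 p B θ := nil_R1_aux hM _ G rfl hB hnil

/-- all local blocks of a nilpotent block have rank one -/
theorem nil_loc {G : Type u} [Group G] [Finite G] (hM : IsPModular p M) {B : Set (IrrCharacter G)} (hB : IsPBlock M B)
    (hnil : NilB p (idB M B)) {a : Subgroup G × MonoidAlgebra (kk M) G} (hmax : MP p ⊤ (idB M B) a) {Q : Subgroup G}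
    (hQ : Q ≤ a.1) : LocQ p a Q := by
  have hBt := isBl_top hB
  have ha : IsBl (cz a.1) a.2 := hmax.1.2.2.2.1
  have hap : IsPGroup p a.1 := hmax.1.1
  have hle := bq_le hM hap ha hQ
  have hof := (LE.of_iff hM hBt hle le_top le_top).2 hmax.1
  have hnl := nilB_local hM hBt hnil hof
  obtain ⟨e, he, hid⟩ := exists_block_of_isBl (hle.isBl ha)
  simp only at hid
  rw [hid, rsK_idH] at hnl
  obtain ⟨θ, hθ⟩ := nil_R1 hM he hnl
  exact ⟨e, θ, he, hid.symm, hθ⟩

theorem nil_rank_one {G : Type u} [Group G] [Fintype G] (hM : IsPModular p M) {B : Set (IrrCharacter G)}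
    (hnil : IsNilpotentBlock p M B) : blockRank p B = 1 ∧ ∃ χ₀ ∈ B, ∀ χ ∈ B, ∃ d : ℕ, ∀ x : G,
      pRegularPart p (χ : G → ℂ) x = (d : ℂ) * pRegularPart p (χ₀ : G → ℂ) x := by
  obtain ⟨hB, hn⟩ := (nil_iff hM).1 hnil
  obtain ⟨θ, hθ⟩ := nil_R1 hM hB hn
  refine ⟨hθ.rank, θ, hθ.1, fun χ hχ => ?_⟩
  obtain ⟨d, hd⟩ := hθ.2 χ hχ
  refine ⟨d, fun x => ?_⟩
  rw [rho_apply, rho_apply]
  split_ifs with hx
  · rw [mul_zero]
  · exact hd x hx

end Main

end CfsgH4
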