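import Cfsg.Agent.H4.Nil7
import Cfsg.Agent.H4.Galois
import Cfsg.Agent.H4.Classes

set_option autoImplicit false
set_option linter.all false

/-! # Characters cut by an idempotent; localized character rings -/

open Cfsg MonoidAlgebra
open CfsgH4 hiding centralChar sum_conj regInner_symm
open CfsgH5 ComplexConjugate

namespace CfsgH4

section PiChar

variable {G : Type*} [Group G] [Finite G]

theorem isCharacter_cut (P : Subgroup G) {i : MonoidAlgebra ℂ G} (hii : i * i = i) (hfi : Fx P i) {χ : G → ℂ}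
    (hχ : IsCharacter G χ) : IsCharacter P (fun v : P => ev χ (single (v : G) 1 * i)) := by
  obtain ⟨n, ρ, rfl⟩ := hχ
  set E : (Fin n → ℂ) →ₗ[ℂ] (Fin n → ℂ) := ρ.asAlgebraHom i with hE
  have hEE : E ∘ₗ E = E := by
    have : E * E = E := by rw [hE, ← map_mul, hii]
    exact this
  have hEx : ∀ x ∈ LinearMap.range E, E x = x := by
    rintro _ ⟨y, rfl⟩
    exact congrArg (fun f => f y) hEE
  have hcomm : ∀ v : P, ∀ x, ρ v (E x) = E (ρ v x) := by
    intro v x
    have h1 := fx_iff_commute.1 hfi v v.2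
    have h2 := congrArg ρ.asAlgebraHom h1.eq
    rw [map_mul, map_mul, Representation.asAlgebraHom_single_one] at h2
    exact (congrArg (fun f => f x) h2).symm
  have hW : ∀ v : P, ∀ x ∈ LinearMap.range E, ρ v x ∈ LinearMap.range E := by
    rintro v _ ⟨y, rfl⟩
    exact ⟨ρ v y, (hcomm v y).symm⟩
  let σ : Representation ℂ P (LinearMap.range E) :=
    { toFun := fun v => (ρ v).restrict (hW v)
      map_one' := by
        ext x
        simp
      map_mul' := fun v w => by
        ext x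
        simp }
  have hchar : σ.character = fun v : P => ev ρ.character (single (v : G) 1 * i) := by
    funext v
    rw [← trace_asAlgebraHom, map_mul, Representation.asAlgebraHom_single_one, ← hE]
    have h1 := LinearMap.trace_restrict_eq_of_forall_mem (LinearMap.range E) (ρ v * E) (fun x => hW v _ ⟨x, rfl⟩)
    rw [← h1]
    show LinearMap.trace ℂ _ (σ v) = _
    congr 1
    apply LinearMap.ext
    intro x
    apply Subtype.ext
    show ρ v x = ρ v (E x)
    rw [hEx x x.2]
  rw [← hchar]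
  exact isCharacter_of_rep σ

end PiChar

section RO

variable {X : Type*} [Group X] [Fintype X] {M : Ideal AlgInt} [hMp : M.IsPrime] {p : ℕ} [hp : Fact p.Prime]

theorem isGen_one' : IsGeneralizedCharacter X (fun _ => (1 : ℂ)) := IsCharacter.isGen isCharacter_one

theorem isGen_pow {f : X → ℂ} (hf : IsGeneralizedCharacter X f) (n : ℕ) :
    IsGeneralizedCharacter X (fun v => f v ^ n) := by
  induction n with
  | zero => simpa using isGen_one' (X := X)
  | succ n ih =>
    have := isGen_mul ih hf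
    have e : (fun v => f v ^ (n + 1)) = (fun v => f v ^ n) * f := by
      funext v; rw [Pi.mul_apply, pow_succ]
    rw [e]; exact this

theorem mem_ro {f g : X → ℂ} (hf : IsGeneralizedCharacter X f) (hg : IsGeneralizedCharacter X g)
    (hu : ∀ v, ¬ MemLocalIdeal M (g v)) (μ : IrrCharacter X) :
    MemLocalRing M (classInner (fun v => f v / g v) (μ : X → ℂ)) := by
  classical
  have hgm : ∀ v, MemLocalRing M (g v) := fun v => memLocalRing_of_isIntegral (IsGen.isIntegral hg v)
  let gg : X → locRing M := fun v => ⟨g v, hgm v⟩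
  set Q : Polynomial (locRing M) := ∏ u : X, (Polynomial.X - Polynomial.C (gg u)) with hQ
  have hroot : ∀ v : X, Polynomial.aeval (g v) Q = 0 := by
    intro v
    rw [hQ, map_prod]
    apply Finset.prod_eq_zero (Finset.mem_univ v)
    rw [map_sub, Polynomial.aeval_X, Polynomial.aeval_C]
    show g v - g v = 0
    exact sub_self _
  have hc0 : ¬ MemLocalIdeal M ((Q.coeff 0 : locRing M) : ℂ) := by
    have h1 : Q.coeff 0 = ∏ u : X, (- gg u) := by
      rw [hQ, Polynomial.coeff_zero_prod]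
      refine Finset.prod_congr rfl fun u _ => ?_
      rw [Polynomial.coeff_sub, Polynomial.coeff_X_zero, Polynomial.coeff_C_zero, zero_sub]
    rw [h1]
    have h2 : ((∏ u : X, (- gg u) : locRing M) : ℂ) = ∏ u : X, (- g u) := by
      rw [← Subring.subtype_apply, map_prod]
      rfl
    rw [h2, memLocalIdeal_prod_iff _ _ (fun u _ => MemLocalRing.neg (hgm u))]
    rintro ⟨u, -, h3⟩
    apply hu u
    have := MemLocalIdeal.neg h3
    rwa [neg_neg] at this
  set c : ℂ := ((Q.coeff 0 : locRing M) : ℂ) with hc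
  have hc1 : c ≠ 0 := ne_zero_of_not_memLocalIdeal hc0
  have hinv : ∀ v : X, (g v)⁻¹ = - c⁻¹ * Polynomial.aeval (g v) Q.divX := by
    intro v
    have h1 := congrArg (Polynomial.aeval (g v)) (Polynomial.divX_mul_X_add Q)
    rw [map_add, map_mul, Polynomial.aeval_X, Polynomial.aeval_C, hroot v] at h1
    have h2 : (algebraMap (locRing M) ℂ) (Q.coeff 0) = c := rfl
    rw [h2] at h1
    have hg0 : g v ≠ 0 := ne_zero_of_not_memLocalIdeal (hu v)
    field_simp
    linear_combination h1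
  have hexp : (fun v => f v / g v) = fun v => ∑ j ∈ Finset.range (Q.divX.natDegree + 1),
      (- c⁻¹ * ((Q.divX.coeff j : locRing M) : ℂ)) * (f v * g v ^ j) := by
    funext v
    rw [div_eq_mul_inv, hinv, Polynomial.aeval_eq_sum_range, Finset.mul_sum, Finset.mul_sum]
    refine Finset.sum_congr rfl fun j _ => ?_
    rw [Algebra.smul_def]
    show f v * (- c⁻¹ * (((Q.divX.coeff j : locRing M) : ℂ) * g v ^ j)) = _
    ring
  have hin : classInner (fun v => f v / g v) (μ : X → ℂ) = ∑ j ∈ Finset.range (Q.divX.natDegree + 1),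
      (- c⁻¹ * ((Q.divX.coeff j : locRing M) : ℂ)) * classInner (fun v => f v * g v ^ j) (μ : X → ℂ) := by
    rw [hexp, classInner_def]
    simp only [Finset.sum_mul]
    rw [Finset.sum_comm, Finset.mul_sum]
    refine Finset.sum_congr rfl fun j _ => ?_
    rw [classInner_def, Finset.mul_sum, Finset.mul_sum, Finset.mul_sum]
    refine Finset.sum_congr rfl fun v _ => ?_
    ring
  rw [hin]
  refine memLocalRing_sum _ _ fun j _ => ?_
  refine MemLocalRing.mul (MemLocalRing.mul (MemLocalRing.neg (memLocalRing_inv (Q.coeff 0).2 hc0)) (Q.divX.coeff j).2) ?_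
  obtain ⟨n, hn⟩ := IsGen.inner_int (isGen_mul hf (isGen_pow hg j)) (IsCharacter.isGen (IsIrr.isCharacter μ.2))
  have : classInner (fun v => f v * g v ^ j) (μ : X → ℂ) = n := hn
  rw [this]
  exact memLocalRing_intCast n

theorem galois_conj_char {n : ℕ} (hn : n = Nat.card X) (σ : ℂ ≃+* ℂ) {k : ℕ} (hσ : ∀ z : ℂ, z ^ n = 1 → σ z = z ^ k)
    {χ : X → ℂ} (hχ : IsCharacter X χ) (v : X) : σ (conj (χ v)) = conj (χ (v ^ k)) := by
  have h1 : ∀ g : X, orderOf g ∣ n := fun g => by rw [hn]; exact orderOf_dvd_natCard g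
  rw [← IsCharacter.inv_eq hχ, ← IsCharacter.inv_eq hχ, char_aut_pow h1 σ hσ hχ, inv_pow]

theorem int_of_gal {r : ℂ} (hint : IsIntegral ℤ r) (n : ℕ) (hn : 0 < n)
    (hgal : ∀ (σ : ℂ ≃+* ℂ) (k : ℕ), k.Coprime n → (∀ z : ℂ, z ^ n = 1 → σ z = z ^ k) → σ r = r) :
    ∃ m : ℤ, r = m := by
  obtain ⟨q, hq⟩ := rat_of_fixed (IsIntegral.tower_top (A := ℚ) hint) (fun σ => by
    obtain ⟨k, hk, hσ⟩ := aut_pow hn σ
    exact hgal σ k hk hσ)
  exact int_of_isIntegral_rat hint hq

/-- a Galois equivariant function -/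
def GalEq (D : X → ℂ) : Prop := ∀ (σ : ℂ ≃+* ℂ) (k : ℕ), k.Coprime (Nat.card X) →
  (∀ z : ℂ, z ^ Nat.card X = 1 → σ z = z ^ k) → ∀ v, σ (D v) = D (v ^ k)

theorem sum_pow_eq {k : ℕ} (hk : k.Coprime (Nat.card X)) (F : X → ℂ) : ∑ v : X, F (v ^ k) = ∑ v : X, F v :=
  Fintype.sum_equiv (powCoprime (Nat.Coprime.symm hk)) _ _ fun v => rfl

theorem int_of_ro (hM : IsPModular p M) {n : ℕ} (hX : Nat.card X = p ^ n) {D : X → ℂ}
    (hint : ∀ v, IsIntegral ℤ (D v)) (hgal : GalEq D) {μ : IrrCharacter X}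
    (hmem : MemLocalRing M (classInner D (μ : X → ℂ))) : ∃ m : ℤ, classInner D (μ : X → ℂ) = m := by
  have hcX : (Nat.card X : ℂ) ≠ 0 := by exact_mod_cast Nat.card_pos.ne'
  set r := ∑ v : X, D v * conj ((μ : X → ℂ) v) with hr
  have hrint : IsIntegral ℤ r := by
    refine IsIntegral.sum _ fun v _ => IsIntegral.mul (hint v) ?_
    rw [← IsCharacter.inv_eq (IsIrr.isCharacter μ.2)]
    exact IsCharacter.isIntegral (IsIrr.isCharacter μ.2) _
  obtain ⟨m, hm⟩ := int_of_gal hrint (Nat.card X) Nat.card_pos (fun σ k hk hσ => by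
    rw [hr, map_sum, ← sum_pow_eq hk (fun v => D v * conj ((μ : X → ℂ) v))]
    refine Finset.sum_congr rfl fun v _ => ?_
    rw [map_mul, hgal σ k hk hσ, galois_conj_char rfl σ hσ (IsIrr.isCharacter μ.2)])
  have h1 : classInner D (μ : X → ℂ) = (m : ℂ) / (p : ℂ) ^ n := by
    rw [classInner_def, ← hr, hm, hX]
    push_cast
    rw [div_eq_inv_mul]
  rw [h1] at hmem
  obtain ⟨c, hc⟩ := pow_dvd_of_local hM hmem
  refine ⟨c, ?_⟩
  have hp0 : (p : ℂ) ^ n ≠ 0 := pow_ne_zero _ (by exact_mod_cast hp.out.ne_zero)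
  rw [h1, hc]
  push_cast
  rw [mul_div_cancel_left₀ _ hp0]

/-- Parseval with integral coefficients -/
theorem norm_int {D : X → ℂ} (hcl : IsClassFunction X D) (h : ∀ μ : IrrCharacter X, ∃ m : ℤ, classInner D (μ : X → ℂ) = m) :
    IsGeneralizedCharacter X D ∧ ∃ m : ℤ, classInner D D = m := by
  have h2 : IsGeneralizedCharacter X D := isGen_iff.2 ⟨hcl, fun φ hφ => h ⟨φ, hφ⟩⟩
  exact ⟨h2, IsGen.inner_int h2 h2⟩

end RO

end CfsgH4
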