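import Cfsg.Agent.H4.Nil8
import Cfsg.Agent.H5.Major3

set_option autoImplicit false
set_option linter.all false

/-! # Local data of a nilpotent block at an element of the defect group -/

open Cfsg MonoidAlgebra
open CfsgH4 hiding centralChar sum_conj regInner_symm
open CfsgH5 ComplexConjugate

namespace CfsgH4

section R1

variable {G : Type*} [Group G] [Fintype G] {M : Ideal AlgInt} {p : ℕ} [hp : Fact p.Prime]

/-- `θ` is a lift of the unique Brauer character of `B` -/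
def IsR1 (p : ℕ) (B : Set (IrrCharacter G)) (θ : IrrCharacter G) : Prop :=
  θ ∈ B ∧ ∀ χ ∈ B, ∃ d : ℕ, ∀ x : G, ¬ p ∣ orderOf x → (χ : G → ℂ) x = d * (θ : G → ℂ) x

theorem IsR1.rank {B : Set (IrrCharacter G)} {θ : IrrCharacter G} (h : IsR1 p B θ) : blockRank p B = 1 := by
  apply rank_one_of h.1
  intro χ hχ
  obtain ⟨d, hd⟩ := h.2 χ hχ
  refine ⟨d, funext fun x => ?_⟩
  rw [Pi.smul_apply, rho_apply, rho_apply, smul_eq_mul]
  split_ifs with hx
  · rw [mul_zero]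
  · exact hd x hx

theorem not_dvd_orderOf_one : ¬ p ∣ orderOf (1 : G) := by
  rw [orderOf_one]; exact hp.out.one_lt.ne' ∘ Nat.dvd_one.1

theorem IsR1.reg (hM : IsPModular p M) {B : Set (IrrCharacter G)} (hB : IsPBlock M B) {θ : IrrCharacter G}
    (h : IsR1 p B θ) : (p : ℂ) ^ blockDefect p B * regInner p (θ : G → ℂ) (θ : G → ℂ) = Nat.card G := by
  classical
  obtain ⟨φ, d, n, h1, h2, -, h4, h5⟩ := rank_one_struct hM hB h.rank
  have hd : ∀ χ : IrrCharacter G, ∃ d : ℕ, χ ∈ B → ∀ x : G, ¬ p ∣ orderOf x → (χ : G → ℂ) x = d * (θ : G → ℂ) x := by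
    intro χ
    by_cases hχ : χ ∈ B
    · obtain ⟨d, hd⟩ := h.2 χ hχ
      exact ⟨d, fun _ => hd⟩
    · exact ⟨0, fun h => absurd h hχ⟩
  choose d' hd' using hd
  have h0 : (θ : G → ℂ) 1 ≠ 0 := IsIrr.one_ne_zero θ.2
  have hφ : φ 1 = ((∑ ψ : IrrCharacter G, (if ψ ∈ B then n ψ * (d' ψ : ℤ) else 0) : ℤ) : ℂ) * (θ : G → ℂ) 1 := by
    rw [h1]
    push_cast
    rw [Finset.sum_mul]
    refine Finset.sum_congr rfl fun ψ _ => ?_
    split_ifs with hψ
    · rw [hd' ψ hψ 1 not_dvd_orderOf_one]; push_cast; ring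
    · simp
  set N : ℤ := ∑ ψ : IrrCharacter G, (if ψ ∈ B then n ψ * (d' ψ : ℤ) else 0) with hN
  have h6 := h2 θ h.1 1 not_dvd_orderOf_one
  rw [hφ] at h6
  have h7 : ((d θ : ℤ) * N : ℤ) = 1 := by
    have : ((d θ : ℂ) * N) * (θ : G → ℂ) 1 = 1 * (θ : G → ℂ) 1 := by rw [one_mul]; linear_combination -h6
    have := mul_right_cancel₀ h0 this
    exact_mod_cast this
  have h8 : d θ = 1 := by
    have : (d θ : ℤ) ∣ 1 := ⟨N, h7.symm⟩
    have : d θ ∣ 1 := by exact_mod_cast this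
    exact Nat.dvd_one.1 this
  rw [h5 θ h.1 θ h.1, h8]
  simp

end R1

section LocalData

variable {G : Type*} [Group G] [Finite G] {M : Ideal AlgInt} [hMp : M.IsPrime] {p : ℕ} [hp : Fact p.Prime]

theorem rd_embK' {H : Subgroup G} (β : MonoidAlgebra ℂ H) : rd M (embK H β) = embK H (rd M β) := by
  apply algExt
  intro g
  rw [coeff_rd]
  by_cases hg : g ∈ H
  · have e1 := coeff_embK_mem β ⟨g, hg⟩
    have e2 := coeff_embK_mem (rd M β) ⟨g, hg⟩
    simp only at e1 e2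
    rw [e1, e2, coeff_rd]
  · rw [coeff_embK_notMem _ hg, coeff_embK_notMem _ hg, resid_zero]

theorem fx_lft {K : Subgroup G} {z : MonoidAlgebra (kk M) G} (hz : Fx K z) : Fx K (lft z) := by
  intro x hx g
  show rsec (z.coeff (x * g * x⁻¹)) = rsec (z.coeff g)
  rw [hz x hx g]

/-- lifting an idempotent fixed by a subgroup -/
theorem exists_lift_fx {K : Subgroup G} {z : MonoidAlgebra (kk M) G} (hzz : z * z = z) (hz : Fx K z) :
    ∃ i : MonoidAlgebra ℂ G, InS M i ∧ i * i = i ∧ rd M i = z ∧ Fx K i := by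
  obtain ⟨g, h1, h2, h3, h4⟩ := lift_idem (inS_lft z) (by rw [rd_lft, hzz])
  refine ⟨g, h1, h2, by rw [h3, rd_lft], ?_⟩
  rw [fx_iff_commute]
  intro x hx
  exact h4 _ (fx_iff_commute.1 (fx_lft hz) x hx)

theorem Xf_R1 {C : Subgroup G} [Fintype C] {u : C} (hu : u ∈ Subgroup.center C) {e : Set (IrrCharacter C)}
    {θ : IrrCharacter C} (hθ : IsR1 p e θ) (χ : G → ℂ) {s : C} (hs : ¬ p ∣ orderOf s) :
    Xf u e χ s = (Xf u e χ 1 / (θ : C → ℂ) 1) * (θ : C → ℂ) s := by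
  classical
  have hd : ∀ ζ : IrrCharacter C, ∃ d : ℕ, ζ ∈ e → ∀ x : C, ¬ p ∣ orderOf x → (ζ : C → ℂ) x = d * (θ : C → ℂ) x := by
    intro ζ
    by_cases hζ : ζ ∈ e
    · obtain ⟨d, hd⟩ := hθ.2 ζ hζ
      exact ⟨d, fun _ => hd⟩
    · exact ⟨0, fun h => absurd h hζ⟩
  choose d hd using hd
  have key : ∀ s : C, ¬ p ∣ orderOf s → Xf u e χ s =
      (∑ ζ : IrrCharacter C, if ζ ∈ e then mlt C χ ζ * wt u ζ * d ζ else 0) * (θ : C → ℂ) s := by
    intro s hs
    rw [Xf, Finset.sum_mul]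
    refine Finset.sum_congr rfl fun ζ _ => ?_
    split_ifs with h
    · rw [mul_wt hu, hd ζ h s hs]; ring
    · rw [zero_mul]
  have h0 : (θ : C → ℂ) 1 ≠ 0 := IsIrr.one_ne_zero θ.2
  rw [key s hs, key 1 not_dvd_orderOf_one, mul_div_assoc, div_self h0, mul_one]

theorem Xf_R1_int (hM : IsPModular p M) {C : Subgroup G} [Fintype C] {u : C} (hu : u ∈ Subgroup.center C)
    (hup : ∃ k, orderOf (u : G) = p ^ k) {e : Set (IrrCharacter C)}
    {θ : IrrCharacter C} (hθ : IsR1 p e θ) {χ : G → ℂ} (hχ : IsCharacter G χ) :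
    IsIntegral ℤ (Xf u e χ 1 / (θ : C → ℂ) 1) := by
  classical
  have h0 : (θ : C → ℂ) 1 ≠ 0 := IsIrr.one_ne_zero θ.2
  have hd : ∀ ζ : IrrCharacter C, ∃ d : ℕ, ζ ∈ e → ∀ x : C, ¬ p ∣ orderOf x → (ζ : C → ℂ) x = d * (θ : C → ℂ) x := by
    intro ζ
    by_cases hζ : ζ ∈ e
    · obtain ⟨d, hd⟩ := hθ.2 ζ hζ
      exact ⟨d, fun _ => hd⟩
    · exact ⟨0, fun h => absurd h hζ⟩
  choose d hd using hd
  have key : Xf u e χ 1 / (θ : C → ℂ) 1 =
      ∑ ζ : IrrCharacter C, if ζ ∈ e then mlt C χ ζ * wt u ζ * d ζ else 0 := by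
    rw [div_eq_iff h0, Xf, Finset.sum_mul]
    refine Finset.sum_congr rfl fun ζ _ => ?_
    split_ifs with h
    · rw [mul_wt hu, hd ζ h 1 not_dvd_orderOf_one]; ring
    · rw [zero_mul]
  rw [key]
  refine IsIntegral.sum _ fun ζ _ => ?_
  split_ifs
  · obtain ⟨n, hn⟩ := mlt_nat (C := C) hχ ζ
    obtain ⟨-, -, k, hk⟩ := wt_cong hM hu hup ζ
    have hw : IsIntegral ℤ (wt u ζ) := by
      refine IsIntegral.of_pow (pow_pos hp.out.pos k) ?_
      rw [hk]; exact isIntegral_one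
    rw [hn]
    refine IsIntegral.mul (IsIntegral.mul ?_ hw) ?_
    · exact_mod_cast isIntegral_algebraMap (R := ℤ) (A := ℂ) (x := (n : ℤ))
    · exact_mod_cast isIntegral_algebraMap (R := ℤ) (A := ℂ) (x := (d ζ : ℤ))
  · exact isIntegral_zero

theorem card_cz_zp (u : G) : Nat.card (cz (Subgroup.zpowers u)) = Nat.card (Subgroup.centralizer ({u} : Set G)) := by
  rw [cz_zpowers_eq]

theorem card_inf_cz {P : Subgroup G} (v : P) :
    Nat.card (P ⊓ cz (Subgroup.zpowers (v : G)) : Subgroup G) = Nat.card (Subgroup.centralizer ({v} : Set P)) := by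
  refine Nat.card_congr ⟨fun x => ⟨⟨x.1, x.2.1⟩, ?_⟩, fun x => ⟨x.1.1, x.1.2, ?_⟩, fun x => rfl, fun x => rfl⟩
  · rw [Subgroup.mem_centralizer_iff]
    intro h hh
    have hh' : h = v := hh
    have h1 : x.1 ∈ cz (Subgroup.zpowers (v : G)) := x.2.2
    rw [hh']
    exact Subtype.ext (mem_cz_zpowers.1 h1)
  · apply mem_cz_zpowers.2
    have h1 := Subgroup.mem_centralizer_iff.1 x.2 v rfl
    exact congrArg Subtype.val h1

/-- the weighted contribution for rank one -/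
theorem wP_Yf (hM : IsPModular p M) {B : MonoidAlgebra (kk M) G} (hB : IsBl (⊤ : Subgroup G) B) (hnil : NilB p B)
    {a : Subgroup G × MonoidAlgebra (kk M) G} (hmax : MP p ⊤ B a) (v : a.1)
    {e : Set (IrrCharacter (cz (Subgroup.zpowers (v : G))))} (he : IsPBlock M e)
    (hid : idH M (cz (Subgroup.zpowers (v : G))) e = bq p a (Subgroup.zpowers (v : G)))
    {θ : IrrCharacter (cz (Subgroup.zpowers (v : G)))} [Fintype (cz (Subgroup.zpowers (v : G)))]
    (hθ : IsR1 p e θ) (χ ψ : IrrCharacter G) :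
    wP a.1 v * Yf p (χ : G → ℂ) (ψ : G → ℂ) (v : G)
        (lb (cz (Subgroup.zpowers (v : G))) (bq p a (Subgroup.zpowers (v : G)))) =
      (Xf (uc (v : G)) e (χ : G → ℂ) 1 / (θ : cz (Subgroup.zpowers (v : G)) → ℂ) 1) *
        conj (Xf (uc (v : G)) e (ψ : G → ℂ) 1 / (θ : cz (Subgroup.zpowers (v : G)) → ℂ) 1) := by
  classical
  have ha : IsBl (cz a.1) a.2 := hmax.1.2.2.2.1
  have hap : IsPGroup p a.1 := hmax.1.1
  have hle := bq_le hM hap ha (Q := Subgroup.zpowers (v : G)) (by rw [Subgroup.zpowers_le]; exact v.2)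
  have hdg := nilB_fc hM hB hnil hmax hle
  rw [← hid] at hdg
  have hdd := (isDefectGroup_iff_DG' hM he (inf_le_right : a.1 ⊓ cz (Subgroup.zpowers (v : G)) ≤ cz (Subgroup.zpowers (v : G)))).2 hdg
  have hcard := defectGroup_card hM he hdd
  have hcard2 : Nat.card ((a.1 ⊓ cz (Subgroup.zpowers (v : G))).subgroupOf (cz (Subgroup.zpowers (v : G)))) =
      Nat.card (a.1 ⊓ cz (Subgroup.zpowers (v : G)) : Subgroup G) :=
    Nat.card_congr (Subgroup.subgroupOfEquivOfLe inf_le_right).toEquiv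
  rw [hcard2, card_inf_cz] at hcard
  have hreg := hθ.reg hM he
  obtain ⟨δ, hδ⟩ : ∃ δ, δ = Xf (uc (v : G)) e (χ : G → ℂ) 1 / (θ : cz (Subgroup.zpowers (v : G)) → ℂ) 1 := ⟨_, rfl⟩
  obtain ⟨ε, hε⟩ : ∃ ε, ε = Xf (uc (v : G)) e (ψ : G → ℂ) 1 / (θ : cz (Subgroup.zpowers (v : G)) → ℂ) 1 := ⟨_, rfl⟩
  rw [← hδ, ← hε]
  have hY : Yf p (χ : G → ℂ) (ψ : G → ℂ) (v : G) (lb (cz (Subgroup.zpowers (v : G))) (bq p a (Subgroup.zpowers (v : G)))) =
      δ * conj ε * regInner p (θ : cz (Subgroup.zpowers (v : G)) → ℂ) (θ : cz (Subgroup.zpowers (v : G)) → ℂ) := by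
    rw [← hid, Yf_eq_C he (IsIrr.isClassFunction χ.2) (IsIrr.isClassFunction ψ.2), regInner, Finset.mul_sum]
    refine Finset.sum_congr rfl fun s _ => ?_
    split_ifs with h
    · rw [mul_zero]
    · rw [Xf_R1 (uc_center (v : G)) hθ (χ : G → ℂ) h, Xf_R1 (uc_center (v : G)) hθ (ψ : G → ℂ) h, map_mul, ← hδ, ← hε]
      ring
  have hcC : (Nat.card (cz (Subgroup.zpowers (v : G))) : ℂ) ≠ 0 := by exact_mod_cast Nat.card_pos.ne'
  rw [hY, wP, hcard, ← card_cz_zp]
  push_cast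
  rw [div_mul_eq_mul_div, div_eq_iff hcC]
  linear_combination (δ * conj ε) * hreg

/-- the trace on the range of an idempotent is a natural number -/
theorem ev_idem_nat {C : Type*} [Group C] [Finite C] {j : MonoidAlgebra ℂ C} (hjj : j * j = j) {χ : C → ℂ}
    (hχ : IsCharacter C χ) : ∃ n : ℕ, ev χ j = n := by
  have hf : Fx (⊥ : Subgroup C) j := by
    intro x hx g
    rw [Subgroup.mem_bot.1 hx]; simp
  have h1 := isCharacter_cut (⊥ : Subgroup C) hjj hf hχ
  obtain ⟨n, hn⟩ := IsCharacter.one_nat h1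
  refine ⟨n, ?_⟩
  rw [← hn]
  show ev χ j = ev χ (single ((1 : (⊥ : Subgroup C)) : C) 1 * j)
  rw [Subgroup.coe_one, ← MonoidAlgebra.one_def, one_mul]

theorem ev_mul_eSet_fun {C : Type*} [Group C] [Fintype C] (e : Set (IrrCharacter C)) {F : C → ℂ}
    (hF : IsClassFunction C F) (j : MonoidAlgebra ℂ C) : ev F (j * eSet e) = ev (blockPart e F) j := by
  rw [ev_mul_comm (fun x g => hF g x)]
  have h1 : ∀ y : C, blockPart e F y = ev F (eSet e * single y 1) := by
    intro y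
    rw [blockPart_eq e hF y, ev_eq_sum]
    symm
    have h2 : ∀ x : C, (eSet e * single y (1 : ℂ)).coeff x = blockCoeff e (x * y⁻¹) := by
      intro x
      rw [MonoidAlgebra.mul_single_apply]
      rw [mul_one]; rfl
    rw [← Equiv.sum_comp (Equiv.mulRight y)]
    refine Finset.sum_congr rfl fun k _ => ?_
    rw [h2]
    simp
  conv_lhs => rw [eq_sum_single j, Finset.mul_sum, map_sum]
  rw [ev_eq_sum]
  refine Finset.sum_congr rfl fun y _ => ?_
  rw [h1 y]
  have h3 : (single y (j.coeff y) : MonoidAlgebra ℂ C) = (j.coeff y) • single y 1 := by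
    rw [MonoidAlgebra.smul_single, smul_eq_mul, mul_one]
  rw [h3, mul_smul_comm, map_smul, smul_eq_mul]

/-- the cut character at a local element -/
theorem exists_nn (hM : IsPModular p M) {a : Subgroup G × MonoidAlgebra (kk M) G} (hap : IsPGroup p a.1)
    (ha : IsBl (cz a.1) a.2) {ib : MonoidAlgebra (kk M) G} (hib : ib * ib = ib)
    (hfib : Fx a.1 ib) (hbr : ∀ (Q : Subgroup G) (f : MonoidAlgebra (kk M) G), LE p (Q, f) a → br Q ib * f = br Q ib)
    {i : MonoidAlgebra ℂ G} (hi : InS M i) (hii : i * i = i) (hred : rd M i = ib) (hfi : Fx a.1 i)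
    {Q : Subgroup G} (hQ : Q ≤ a.1) {e : Set (IrrCharacter (cz Q))} (he : IsPBlock M e)
    (hid : idH M (cz Q) e = bq p a Q) [Fintype (cz Q)] {θ : IrrCharacter (cz Q)} (hθ : IsR1 p e θ) :
    ∃ n : ℕ, ∀ u : cz Q, Subgroup.zpowers (u : G) = Q → ∀ χ : IrrCharacter G,
      ev (χ : G → ℂ) (single (u : G) 1 * i) = n * (Xf u e (χ : G → ℂ) 1 / (θ : cz Q → ℂ) 1) := by
  classical
  haveI := charP_kk hM
  haveI := Fintype.ofFinite G
  have hQp : IsPGroup p Q := hap.to_le hQ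
  have hle := bq_le hM hap ha hQ
  have hbs : Sup (cz Q) (br Q ib) := br_sup Q ib
  have hbb : br Q ib * br Q ib = br Q ib := by rw [← br_mul hQp (hfib.mono hQ) (hfib.mono hQ), hib]
  have hrr : rsK (cz Q) (br Q ib) * rsK (cz Q) (br Q ib) = rsK (cz Q) (br Q ib) := by rw [← rsK_mul hbs hbs, hbb]
  obtain ⟨j, hj, hjj, hjr, -⟩ := exists_lift_fx (K := ⊥) hrr (by
    intro x hx g
    rw [Subgroup.mem_bot.1 hx]; simp)
  obtain ⟨n, hn⟩ := ev_idem_nat hjj (IsIrr.isCharacter θ.2)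
  refine ⟨n, fun u hu χ => ?_⟩
  have huQ : (u : G) ∈ Q := by
    have := Subgroup.mem_zpowers (u : G)
    exact hu.le this
  have huc : u ∈ Subgroup.center (cz Q) := by
    rw [Subgroup.mem_center_iff]
    intro g
    have h1 : (g : G) ∈ cz Q := g.2
    have h2 := Subgroup.mem_centralizer_iff.1 h1 (u : G) huQ
    exact Subtype.ext h2.symm
  obtain ⟨m, hm⟩ : ∃ m, orderOf (u : G) = p ^ m := by
    obtain ⟨m, hm⟩ := hQp.exists_card_eq
    rw [← hu, Nat.card_zpowers] at hm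
    exact ⟨m, hm⟩
  have hcl := IsIrr.isClassFunction χ.2
  -- j * eSet e = j
  have hje : j * eSet e = j := by
    have hcm : eSet e * j = j * eSet e := (isCen_eSet e).comm j
    have h1 : (j - j * eSet e) * (j - j * eSet e) = j - j * eSet e := by
      have e1 : j * (j * eSet e) = j * eSet e := by rw [← mul_assoc, hjj]
      have e2 : j * eSet e * j = j * eSet e := by rw [mul_assoc, hcm, ← mul_assoc, hjj]
      have e3 : j * eSet e * (j * eSet e) = j * eSet e := by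
        rw [← mul_assoc, e2, mul_assoc, eSet_mul_self]
      rw [sub_mul, mul_sub, mul_sub, hjj, e1, e2, e3]; abel
    have h2 : rd M (j - j * eSet e) = 0 := by
      rw [rd_sub hj (InS.mul hj (inS_eSet he)), rd_mul hj (inS_eSet he), hjr]
      have h3 : rd M (eSet e) = rsK (cz Q) (bq p a Q) := by
        rw [← hid, rsK_idH]; rfl
      rw [h3, ← rsK_mul hbs (hle.isBl ha).sup, hbr Q _ hle, sub_self]
    have h3 := idem_eq_zero (InS.sub hj (InS.mul hj (inS_eSet he))) h1 h2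
    exact (sub_eq_zero.1 h3).symm
  -- reduction to j
  have hs : Sup (cz Q) (embK (cz Q) j) := sup_embK j
  have h1 : ev (χ : G → ℂ) (single (u : G) 1 * i) = ev (χ : G → ℂ) (single (u : G) 1 * embK (cz Q) j) := by
    apply trace_br_eq hM hm hi hii (by rw [hu]; exact hfi.mono hQ) (inS_embK' hj) (by rw [← map_mul, hjj])
      (by rw [hu]; exact fx_of_sup_centralizer hs) _ (fun x g => hcl g x)
    rw [hu, hred, rd_embK', hjr, embK_rsK hbs, br_br le_rfl]
  rw [h1]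
  -- to C
  set F : cz Q → ℂ := fun c => (χ : G → ℂ) ((u : G) * c) with hF
  have hFc : IsClassFunction (cz Q) F := by
    intro g h
    show (χ : G → ℂ) ((u : G) * (h * g * h⁻¹ : cz Q)) = (χ : G → ℂ) ((u : G) * g)
    have h2 : (u : G) * ((h * g * h⁻¹ : cz Q) : G) = (h : G) * ((u : G) * g) * (h : G)⁻¹ := by
      have h3 := congrArg (Subtype.val) (Subgroup.mem_center_iff.1 huc h)
      have h4 : (h : G) * u = u * h := h3
      push_cast
      calc (u : G) * ((h : G) * g * (h : G)⁻¹) = ((u : G) * h) * g * (h : G)⁻¹ := by group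
        _ = _ := by rw [← h4]; group
    rw [h2]; exact hcl _ _
  have h2 : ev (χ : G → ℂ) (single (u : G) 1 * embK (cz Q) j) = ev F j := by
    rw [ev_mul_comm (fun x g => hcl g x), ev_embK_mul, ev_eq_sum]
    refine Finset.sum_congr rfl fun k _ => ?_
    have h3 := congrArg (Subtype.val) (Subgroup.mem_center_iff.1 huc k)
    have h4 : (k : G) * u = u * k := h3
    rw [h4]
  have h3 : ev F j = ev (fun c => Xf u e (χ : G → ℂ) c) j := by
    conv_lhs => rw [← hje, ev_mul_eSet_fun e hFc j]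
    congr 1
    congr 1
    funext c
    exact blockPart_shift huc e (χ : G → ℂ) c
  have hXc : IsClassFunction (cz Q) (fun c => Xf u e (χ : G → ℂ) c) := by
    intro g h
    show Xf u e (χ : G → ℂ) (h * g * h⁻¹) = Xf u e (χ : G → ℂ) g
    rw [Xf, Xf]
    refine Finset.sum_congr rfl fun ζ _ => ?_
    split_ifs
    · rw [mul_wt huc, mul_wt huc, IsIrr.isClassFunction ζ.2]
    · rfl
  have h4 : ev (fun c => Xf u e (χ : G → ℂ) c) j =
      ev (fun c => (Xf u e (χ : G → ℂ) 1 / (θ : cz Q → ℂ) 1) * (θ : cz Q → ℂ) c) j := by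
    apply ev_idem_reg hM hj hjj hXc
    · intro g h
      show _ * (θ : cz Q → ℂ) (h * g * h⁻¹) = _ * (θ : cz Q → ℂ) g
      rw [IsIrr.isClassFunction θ.2]
    · intro g hg
      exact Xf_R1 huc hθ (χ : G → ℂ) hg
  rw [h2, h3, h4, ← hn, ev_eq_sum, ev_eq_sum, Finset.sum_mul]
  refine Finset.sum_congr rfl fun c _ => ?_
  ring

end LocalData

end CfsgH4
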