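import Cfsg.Agent.H4.Extend2
import Cfsg.Agent.H4.Gallagher
import Cfsg.Agent.H4.Galois
import Cfsg.Agent.H4.Degrees
import Cfsg.Agent.H5.ClifCorr

/-!
# Clifford theory with abelian quotient
-/

set_option autoImplicit false
open Cfsg ComplexConjugate CfsgH5

namespace CfsgH4

theorem ab_mult {T : Type*} [Group T] [Fintype T] (H : Subgroup T) [hN : H.Normal] [Fintype H]
    (hab : ∀ x y : T, x * y * x⁻¹ * y⁻¹ ∈ H) {θ : H → ℂ} (hθ : IsIrrCharacter H θ)
    (hinv : ∀ t, conjFun H θ t = θ) {ψ ψ' : T → ℂ} (hψ : IsIrrCharacter T ψ)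
    (hψ' : IsIrrCharacter T ψ')
    (h : classInner (fun n : H => ψ n) θ ≠ 0) (h' : classInner (fun n : H => ψ' n) θ ≠ 0) :
    ∃ f : T →* ℂˣ, (∀ n : H, f n = 1) ∧ ψ' = fun t => (f t : ℂ) * ψ t := by
  classical
  have hr : ∀ {φ : T → ℂ}, IsIrrCharacter T φ → classInner (fun n : H => φ n) θ ≠ 0 →
      (fun n : H => φ n) = classInner (fun n : H => φ n) θ • θ := by
    intro φ hφ hne
    have h1 := clifford H hφ hθ hne
    have h2 : {ψ : H → ℂ | ∃ g : T, ψ = conjFun H θ g} = {θ} := by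
      ext ξ
      simp only [Set.mem_setOf_eq, Set.mem_singleton_iff]
      constructor
      · rintro ⟨g, hg⟩; rw [hg, hinv]
      · intro hξ; exact ⟨1, by rw [hξ, hinv]⟩
    rw [h2, finsum_mem_singleton] at h1
    exact h1
  have h1 := hr hψ h
  have h2 := hr hψ' h'
  set c := classInner (fun n : H => ψ n) θ with hc
  set c' := classInner (fun n : H => ψ' n) θ with hc'
  have h3 : classInner (fun n : H => ψ n) (fun n : H => ψ' n) ≠ 0 := by
    rw [h1, h2, classInner_smul_left, classInner_smul_right, classInner_irr_self hθ, mul_one]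
    exact mul_ne_zero h ((map_ne_zero _).2 h')
  have h4 : classInner (indFun H (fun n : H => ψ n)) ψ' ≠ 0 := by
    rw [frobenius H _ (IsIrr.isClassFunction hψ')]; exact h3
  have h5 : indFun H (fun n : H => ψ n) = indFun H (fun _ => 1) * ψ := by
    rw [← indFun_mul_restrict H _ (IsIrr.isClassFunction hψ)]
    congr 1
    ext n; simp
  rw [h5, classFun_expand (indFun_isClassFunction H (fun _ => 1)), Finset.sum_mul,
    classInner_sum_left] at h4
  obtain ⟨χ, -, hχ⟩ := Finset.exists_ne_zero_of_sum_ne_zero h4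
  rw [smul_mul_assoc, classInner_smul_left] at hχ
  have h6 : classInner (indFun H (fun _ => 1)) (χ : T → ℂ) ≠ 0 := left_ne_zero_of_mul hχ
  have h7 : classInner ((χ : T → ℂ) * ψ) ψ' ≠ 0 := right_ne_zero_of_mul hχ
  rw [frobenius H _ (IsIrr.isClassFunction χ.2)] at h6
  have h8 : classInner (fun n : H => (χ : T → ℂ) n) (fun _ => 1) ≠ 0 := by
    rw [← classInner_conj_symm]; exact (map_ne_zero _).2 h6
  have h9 : ∀ n ∈ H, (χ : T → ℂ) n = (χ : T → ℂ) 1 := by
    rcases inner_one_restrict H χ.2 with ⟨h, -⟩ | h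
    · exact h
    · exact absurd h h8
  obtain ⟨f, hf⟩ := linear_of_comm_image χ.2 (fun x y z =>
    IsCharacter.mul_ker (IsIrr.isCharacter χ.2) (h9 _ (hab x y)) z)
  refine ⟨f, fun n => ?_, ?_⟩
  · have := h9 n n.2
    rw [hf] at this
    simpa using this
  · have h10 : (χ : T → ℂ) * ψ = fun t => (f t : ℂ) * ψ t := by
      ext t; rw [Pi.mul_apply, hf]
    rw [h10] at h7
    by_contra hne
    exact h7 (classInner_irr_ne (linear_mul_irr f hψ) hψ' (fun h => hne h.symm))

theorem ab_struct {T : Type*} [Group T] [Fintype T] (H : Subgroup T) [hN : H.Normal] [Fintype H]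
    (hab : ∀ x y : T, x * y * x⁻¹ * y⁻¹ ∈ H) {θ : H → ℂ} (hθ : IsIrrCharacter H θ)
    (hinv : ∀ t, conjFun H θ t = θ) :
    ∃ (e : ℕ) (C : Finset (IrrCharacter T)), 0 < e ∧
      (∀ ψ ∈ C, classInner (fun n : H => (ψ : T → ℂ) n) θ = e) ∧
      indFun H θ = (e : ℂ) • ∑ ψ ∈ C, (ψ : T → ℂ) ∧ e ^ 2 * C.card = H.index ∧
      ∀ ψ ∈ C, (ψ : T → ℂ) 1 = e * θ 1 := by
  classical
  obtain ⟨ψ₀, hψ₀, hne0⟩ := exists_above H hθ
  have hχc := isCharacter_restrict H (IsIrr.isCharacter hψ₀)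
  obtain ⟨e, he⟩ := IsCharacter.inner_irr_nat hχc hθ
  have he0 : 0 < e := by
    rcases Nat.eq_zero_or_pos e with h | h
    · rw [h] at he; exact absurd (by rw [he]; simp) hne0
    · exact h
  set C : Finset (IrrCharacter T) := Finset.univ.filter
    (fun ψ : IrrCharacter T => classInner (fun n : H => (ψ : T → ℂ) n) θ ≠ 0) with hC
  have hmul : ∀ ψ ∈ C, classInner (fun n : H => (ψ : T → ℂ) n) θ = e := by
    intro ψ hψ
    rw [hC, Finset.mem_filter] at hψ
    obtain ⟨f, hf, hfe⟩ := ab_mult H hab hθ hinv hψ₀ ψ.2 hne0 hψ.2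
    rw [← he]
    congr 1
    ext n
    rw [hfe]
    show (f (n : T) : ℂ) * ψ₀ n = ψ₀ n
    rw [hf]; simp
  have hind : indFun H θ = (e : ℂ) • ∑ ψ ∈ C, (ψ : T → ℂ) := by
    rw [classFun_expand (indFun_isClassFunction H θ), Finset.smul_sum, hC, Finset.sum_filter]
    refine Finset.sum_congr rfl fun ψ _ => ?_
    rw [frobenius H _ (IsIrr.isClassFunction ψ.2), ← classInner_conj_symm]
    by_cases hψ : classInner (fun n : H => (ψ : T → ℂ) n) θ = 0
    · rw [if_neg (by simpa using hψ), hψ, map_zero, zero_smul]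
    · rw [if_pos hψ, hmul ψ (by rw [hC, Finset.mem_filter]; exact ⟨Finset.mem_univ _, hψ⟩)]
      simp
  refine ⟨e, C, he0, hmul, hind, ?_, ?_⟩
  · have h1 := norm_indFun_invariant H hθ hinv
    rw [hind, classInner_smul_left, classInner_smul_right, classInner_sum_left] at h1
    have h2 : ∀ ψ ∈ C, classInner (ψ : T → ℂ) (∑ φ ∈ C, (φ : T → ℂ)) = 1 := by
      intro ψ hψ
      rw [classInner_sum_right, Finset.sum_eq_single ψ]
      · exact classInner_irr_self ψ.2
      · intro φ _ hne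
        exact classInner_irr_ne ψ.2 φ.2 (fun h => hne (Subtype.ext h.symm))
      · intro h; exact absurd hψ h
    rw [Finset.sum_congr rfl h2, Finset.sum_const, nsmul_eq_mul, mul_one] at h1
    simp only [Complex.conj_natCast] at h1
    have h3 : ((e ^ 2 * C.card : ℕ) : ℂ) = (H.index : ℂ) := by
      push_cast; rw [← h1]; ring
    exact_mod_cast h3
  · intro ψ hψ
    have h1 := hmul ψ hψ
    have hne : classInner (fun n : H => (ψ : T → ℂ) n) θ ≠ 0 := by
      rw [h1]; exact_mod_cast he0.ne'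
    have h2 := clifford_degree H ψ.2 hθ hne
    have h3 : inertia H θ = ⊤ := (inertia_eq_top_iff H θ).2 hinv
    rw [h2, h1, h3, Subgroup.index_top]; simp

/-- the inertia group of the character seen in a subgroup `T` -/
theorem ab_main {G : Type*} [Group G] [Fintype G] (H : Subgroup G) [hN : H.Normal]
    {θ : H → ℂ} (hθ : IsIrrCharacter H θ)
    (hab : ∀ x ∈ inertia H θ, ∀ y ∈ inertia H θ, x * y * x⁻¹ * y⁻¹ ∈ H) :
    ∃ (e : ℕ) (C : Finset (G → ℂ)), 0 < e ∧ (∀ χ ∈ C, IsIrrCharacter G χ) ∧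
      e ^ 2 * C.card * Nat.card H = Nat.card (inertia H θ) ∧
      indFun H θ = (e : ℂ) • ∑ χ ∈ C, χ ∧
      (∀ χ ∈ C, χ 1 = ((inertia H θ).index : ℂ) * e * θ 1) ∧
      ((∃ η : inertia H θ → ℂ, IsIrrCharacter _ η ∧
        ∀ n : H.subgroupOf (inertia H θ), η n = θ ⟨(n : inertia H θ), Subgroup.mem_subgroupOf.1 n.2⟩) →
        e = 1) := by
  classical
  haveI : Fintype H := Fintype.ofFinite _
  set T := inertia H θ with hT
  haveI : Fintype T := Fintype.ofFinite _
  have hHT : H ≤ T := le_inertia H (IsIrr.isClassFunction hθ)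
  haveI : Fintype (H.subgroupOf T) := Fintype.ofFinite _
  set θ' : H.subgroupOf T → ℂ := fun x => θ ⟨(x : T), Subgroup.mem_subgroupOf.mp x.2⟩ with hθ'
  have hθ'e : θ' = fun x => θ (Subgroup.subgroupOfEquivOfLe hHT x) := by
    ext x; rfl
  have hθi : IsIrrCharacter (H.subgroupOf T) θ' := by
    rw [hθ'e]; exact (isIrr_comp_equiv (Subgroup.subgroupOfEquivOfLe hHT)).2 hθ
  have hinv : ∀ t : T, conjFun (H.subgroupOf T) θ' t = θ' := by
    intro t
    ext x
    have h1 : conjFun H θ (t : G) = θ := (mem_inertia H θ (t : G)).1 t.2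
    have h2 := congrFun h1 ⟨(x : T), Subgroup.mem_subgroupOf.mp x.2⟩
    exact h2
  obtain ⟨e, C, he, hmul, hind, hcard, hdeg⟩ := ab_struct (H.subgroupOf T)
    (fun x y => by
      rw [Subgroup.mem_subgroupOf]
      exact hab x x.2 y y.2) hθi hinv
  have hres : ∀ ψ : T → ℂ, classInner (fun n : H.subgroupOf T => ψ n) θ' =
      classInner (resLE hHT ψ) θ := by
    intro ψ
    rw [hθ'e]
    exact classInner_comp_equiv (Subgroup.subgroupOfEquivOfLe hHT) (resLE hHT ψ) θ
  have hne : ∀ ψ ∈ C, classInner (resLE hHT (ψ : T → ℂ)) θ ≠ 0 := by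
    intro ψ hψ
    rw [← hres, hmul ψ hψ]
    exact_mod_cast he.ne'
  have hinj : ∀ ψ ∈ C, ∀ φ ∈ C, indFun T (ψ : T → ℂ) = indFun T (φ : T → ℂ) → ψ = φ := by
    intro ψ hψ φ hφ h
    exact Subtype.ext (clif_inj H hθ hHT ψ.2 (hne ψ hψ) φ.2 (hne φ hφ) h).symm
  refine ⟨e, C.image (fun ψ : IrrCharacter T => indFun T (ψ : T → ℂ)), he, ?_, ?_, ?_, ?_, ?_⟩
  · intro χ hχ
    obtain ⟨ψ, hψ, rfl⟩ := Finset.mem_image.1 hχ
    exact clif_irr H hθ hHT ψ.2 (hne ψ hψ)
  · rw [Finset.card_image_of_injOn (fun a ha b hb h => hinj a ha b hb h), hcard]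
    have h1 := Subgroup.card_mul_index (H.subgroupOf T)
    rw [← h1, Nat.card_congr (Subgroup.subgroupOfEquivOfLe hHT).toEquiv, mul_comm]
  · rw [← indFun_trans H T hHT θ]
    show indFun T (indFun (H.subgroupOf T) θ') = _
    rw [hind, indFun_smul, indFun_sum, Finset.sum_image (fun a ha b hb h => hinj a ha b hb h)]
  · intro χ hχ
    obtain ⟨ψ, hψ, rfl⟩ := Finset.mem_image.1 hχ
    show indFun T (ψ : T → ℂ) 1 = _
    rw [indFun_one, hdeg ψ hψ, mul_assoc]
    rfl
  · rintro ⟨η, hη, hηe⟩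
    have h1 : (fun n : H.subgroupOf T => η n) = θ' := funext hηe
    have h2 : classInner (fun n : H.subgroupOf T => η n) θ' = 1 := by
      rw [h1]; exact classInner_irr_self hθi
    have h3 : classInner (indFun (H.subgroupOf T) θ') η ≠ 0 := by
      rw [frobenius _ _ (IsIrr.isClassFunction hη), ← classInner_conj_symm, h2]; simp
    have h4 : (⟨η, hη⟩ : IrrCharacter T) ∈ C := by
      by_contra hC
      apply h3
      rw [hind, classInner_smul_left, classInner_sum_left, Finset.sum_eq_zero, mul_zero]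
      intro ψ hψ
      exact classInner_irr_ne ψ.2 hη (fun h => hC (by
        have : ψ = ⟨η, hη⟩ := Subtype.ext h
        rwa [← this]))
    have h5 := hmul _ h4
    rw [show classInner (fun n : H.subgroupOf T => ((⟨η, hη⟩ : IrrCharacter T) : T → ℂ) n) θ' = 1
      from h2] at h5
    exact_mod_cast h5.symm

end CfsgH4
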