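import Cfsg.Agent.H4.Dade1
import Cfsg.Agent.H4.FrobGrp
import Cfsg.Agent.H4.Isom

/-!
# Signed irreducible characters, fixed classes
-/

set_option autoImplicit false
open Cfsg ComplexConjugate

namespace CfsgH4

section Fix

variable {G : Type*} [Group G] [Fintype G]

theorem card_fixed_conj (K : Subgroup G) [hN : K.Normal] [Fintype K] (g : G) :
    Nat.card {χ : IrrCharacter K // conjFun K (χ : K → ℂ) g = (χ : K → ℂ)} =
      Nat.card {C : ConjClasses K // ∀ k : K, ConjClasses.mk k = C →
        IsConj (⟨g * k * g⁻¹, hN.conj_mem k k.2 g⟩ : K) k} := by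
  let f : K → K := fun k => ⟨g * k * g⁻¹, hN.conj_mem k k.2 g⟩
  have hf : ∀ x y : K, IsConj x y → IsConj (f x) (f y) := by
    intro x y hxy
    obtain ⟨c, rfl⟩ := isConj_iff.1 hxy
    refine isConj_iff.2 ⟨f c, ?_⟩
    apply Subtype.ext
    simp [f, mul_assoc]
  exact card_fixed_irr f hf (fun χ => conjFun_isIrr K χ.2 g)

theorem inertia_of_cent (K : Subgroup G) [hN : K.Normal]
    (hC : ∀ n ∈ K, n ≠ 1 → Subgroup.centralizer ({n} : Set G) ≤ K)
    {τ : K → ℂ} (hτ : IsIrrCharacter K τ) (hτ1 : τ ≠ fun _ => 1) : inertia K τ = K := by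
  classical
  haveI : Fintype K := Fintype.ofFinite K
  apply le_antisymm _ (le_inertia K (IsIrr.isClassFunction hτ))
  intro g hg
  by_contra hgK
  have h1 := card_fixed_conj K g
  have h2 : Nat.card {C : ConjClasses K // ∀ k : K, ConjClasses.mk k = C →
        IsConj (⟨g * k * g⁻¹, hN.conj_mem k k.2 g⟩ : K) k} = 1 := by
    rw [Nat.card_eq_one_iff_unique]
    constructor
    · refine ⟨fun a b => ?_⟩
      have key : ∀ a : {C : ConjClasses K // ∀ k : K, ConjClasses.mk k = C →
          IsConj (⟨g * k * g⁻¹, hN.conj_mem k k.2 g⟩ : K) k}, a.1 = ConjClasses.mk 1 := by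
        rintro ⟨C, hC'⟩
        obtain ⟨k, rfl⟩ := ConjClasses.exists_rep C
        obtain ⟨c, hc⟩ := isConj_iff.1 (hC' k rfl)
        have h3 : (c : G) * (g * k * g⁻¹) * (c : G)⁻¹ = k := congrArg Subtype.val hc
        have h5 : (k : G) = 1 := by
          by_contra hk1
          have h6 : (c : G) * g ∈ K := by
            apply hC k k.2 hk1
            rw [Subgroup.mem_centralizer_singleton_iff]
            calc (c : G) * g * k = ((c : G) * (g * k * g⁻¹) * (c : G)⁻¹) * ((c : G) * g) := by group
              _ = k * (c * g) := by rw [h3]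
          apply hgK
          have := K.mul_mem (K.inv_mem c.2) h6
          simpa using this
        show ConjClasses.mk k = ConjClasses.mk 1
        congr 1
        exact Subtype.ext h5
      exact Subtype.ext ((key a).trans (key b).symm)
    · refine ⟨⟨ConjClasses.mk 1, ?_⟩⟩
      intro k hk
      have : k = 1 := by
        rw [ConjClasses.mk_eq_mk_iff_isConj] at hk
        exact isConj_one_left.1 hk
      subst this
      have : (⟨g * ((1 : K) : G) * g⁻¹, hN.conj_mem _ (1 : K).2 g⟩ : K) = 1 := by
        apply Subtype.ext; simp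
      rw [this]
  rw [h2, Nat.card_eq_one_iff_unique] at h1
  have h3 := h1.1.elim (⟨⟨τ, hτ⟩, hg⟩ : {χ : IrrCharacter K //
      conjFun K (χ : K → ℂ) g = (χ : K → ℂ)})
    ⟨⟨fun _ => 1, isIrrCharacter_one⟩, rfl⟩
  exact hτ1 (congrArg Subtype.val (congrArg Subtype.val h3))

end Fix

theorem zs_apply {X : Type*} (n : ℤ) (f : X → ℂ) (x : X) : (n • f) x = (n : ℂ) * f x := by
  rw [Pi.smul_apply, zsmul_eq_mul]

theorem zs_eq {X : Type*} (n : ℤ) (f : X → ℂ) : n • f = (n : ℂ) • f := by
  ext x; rw [zs_apply, Pi.smul_apply, smul_eq_mul]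

section Sgn

variable {G : Type*} [Group G] [Fintype G]

/-- signed irreducible characters -/
def IsSgn (f : G → ℂ) : Prop := IsIrrCharacter G f ∨ IsIrrCharacter G (-f)

omit [Fintype G] in
theorem IsSgn.neg {f : G → ℂ} (h : IsSgn f) : IsSgn (-f) := by
  rcases h with h | h
  · exact Or.inr (by rwa [neg_neg])
  · exact Or.inl h

omit [Fintype G] in
theorem IsSgn.gen {f : G → ℂ} (h : IsSgn f) : IsGeneralizedCharacter G f := by
  rcases h with h | h
  · exact IsCharacter.isGen (IsIrr.isCharacter h)
  · have := isGen_neg (IsCharacter.isGen (IsIrr.isCharacter h))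
    rwa [neg_neg] at this

theorem IsSgn.self {f : G → ℂ} (h : IsSgn f) : classInner f f = 1 := by
  rcases h with h | h
  · exact classInner_irr_self h
  · have := classInner_irr_self h
    rwa [classInner_neg_left, classInner_neg_right, neg_neg] at this

omit [Fintype G] in
theorem IsSgn.one_ne {f : G → ℂ} (h : IsSgn f) : f 1 ≠ 0 := by
  rcases h with h | h
  · exact IsIrr.one_ne_zero h
  · have := IsIrr.one_ne_zero h
    simpa using this

theorem IsSgn.cases {f g : G → ℂ} (hf : IsSgn f) (hg : IsSgn g) :
    f = g ∨ f = -g ∨ classInner f g = 0 := by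
  rcases hf with hf | hf <;> rcases hg with hg | hg
  · by_cases h : f = g
    · exact Or.inl h
    · exact Or.inr (Or.inr (classInner_irr_ne hf hg h))
  · by_cases h : f = -g
    · exact Or.inr (Or.inl h)
    · have := classInner_irr_ne hf hg h
      rw [classInner_neg_right, neg_eq_zero] at this
      exact Or.inr (Or.inr this)
  · by_cases h : -f = g
    · exact Or.inr (Or.inl (by rw [← h, neg_neg]))
    · have := classInner_irr_ne hf hg h
      rw [classInner_neg_left, neg_eq_zero] at this
      exact Or.inr (Or.inr this)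
  · by_cases h : -f = -g
    · exact Or.inl (neg_injective h)
    · have := classInner_irr_ne hf hg h
      rw [classInner_neg_left, classInner_neg_right, neg_neg] at this
      exact Or.inr (Or.inr this)

theorem isSgn_of_norm_one {f : G → ℂ} (h : IsGeneralizedCharacter G f) (h1 : classInner f f = 1) :
    IsSgn f := IsGen.norm_one h h1

theorem inner_symm_zero {f g : G → ℂ} (h : classInner f g = 0) : classInner g f = 0 := by
  rw [← classInner_conj_symm, h, map_zero]

theorem sgn_core {α β γ δ : G → ℂ} (hα : IsSgn α) (hβ : IsSgn β)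
    (hδ : IsSgn δ) (hγ : IsSgn γ) {u v : ℂ} (hu : u ≠ 0) (hur : conj u = u) (hvr : conj v = v)
    (hab : classInner α β = 0) (hcd : classInner γ δ = 0)
    (hmix : classInner (α - β) (u • γ - v • δ) = 0) (h1 : α 1 = β 1) (h2 : u * γ 1 = v * δ 1) :
    classInner α γ = 0 := by
  by_contra hne
  obtain ⟨a, ha, hae⟩ : ∃ a : ℂ, (a = 1 ∨ a = -1) ∧ α = a • γ := by
    rcases hα.cases hγ with h | h | h
    · exact ⟨1, Or.inl rfl, by rw [one_smul]; exact h⟩
    · exact ⟨-1, Or.inr rfl, by rw [neg_smul, one_smul]; exact h⟩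
    · exact absurd h hne
  have ha0 : a ≠ 0 := by rcases ha with rfl | rfl <;> norm_num
  have hγβ : classInner γ β = 0 := by
    rw [hae, classInner_smul_left] at hab
    exact (mul_eq_zero.1 hab).resolve_left ha0
  have hmix' : u * a + v * classInner β δ = 0 := by
    rw [classInner_sub_left, classInner_sub_right, classInner_sub_right, classInner_smul_right,
      classInner_smul_right, classInner_smul_right, classInner_smul_right, hur, hvr, hae,
      classInner_smul_left, classInner_smul_left, hγ.self, hcd, inner_symm_zero hγβ] at hmix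
    linear_combination hmix
  obtain ⟨b, hb, hbe⟩ : ∃ b : ℂ, (b = 1 ∨ b = -1) ∧ β = b • δ := by
    rcases hβ.cases hδ with h | h | h
    · exact ⟨1, Or.inl rfl, by rw [one_smul]; exact h⟩
    · exact ⟨-1, Or.inr rfl, by rw [neg_smul, one_smul]; exact h⟩
    · rw [h, mul_zero, add_zero] at hmix'
      exact absurd hmix' (mul_ne_zero hu ha0)
  rw [hbe, classInner_smul_left, hδ.self, mul_one] at hmix'
  rw [hae, hbe] at h1
  simp only [Pi.smul_apply, smul_eq_mul] at h1
  have hγ1 := hγ.one_ne
  have h3 : u * γ 1 * 2 = 0 := by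
    rcases ha with rfl | rfl <;> rcases hb with rfl | rfl
    · linear_combination γ 1 * hmix' + h2 - v * h1
    · linear_combination γ 1 * hmix' + h2 + v * h1
    · linear_combination -(γ 1 * hmix') + h2 - v * h1
    · linear_combination -(γ 1 * hmix') + h2 + v * h1
  have : u * γ 1 = 0 := by linear_combination h3 / 2
  exact mul_ne_zero hu hγ1 this

end Sgn

end CfsgH4
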