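import Cfsg.Agent.H4.Qk1
import Cfsg.Agent.H4.Nil10

set_option autoImplicit false
set_option linter.all false

/-! # Zeros of an irreducible character -/

open Cfsg MonoidAlgebra
open CfsgH4 hiding centralChar sum_conj regInner_symm
open CfsgH5 hiding ev_ca
open ComplexConjugate

namespace CfsgQk

section Zeros

variable {X : Type*} [Group X] [Fintype X]

theorem amgm_le (S : Finset X) (hS : ∀ (k : ℕ), k.Coprime (Nat.card X) → ∀ v, v ^ k ∈ S ↔ v ∈ S) (δ : X → ℂ)
    (hint : ∀ v ∈ S, IsIntegral ℤ (δ v)) (h0 : ∀ v ∈ S, δ v ≠ 0)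
    (hgal : ∀ (σ : ℂ ≃+* ℂ) (k : ℕ), k.Coprime (Nat.card X) → (∀ z : ℂ, z ^ Nat.card X = 1 → σ z = z ^ k) →
      ∀ v ∈ S, σ (δ v * conj (δ v)) = δ (v ^ k) * conj (δ (v ^ k))) :
    (S.card : ℝ) ≤ ∑ v ∈ S, Complex.normSq (δ v) := by
  classical
  have hm : ∀ v, δ v * conj (δ v) = ((Complex.normSq (δ v) : ℝ) : ℂ) := fun v => Complex.mul_conj _
  have hpos : ∀ v ∈ S, 0 < Complex.normSq (δ v) := fun v hv => Complex.normSq_pos.2 (h0 v hv)
  obtain ⟨N, hN⟩ : ∃ N : ℤ, ∏ v ∈ S, δ v * conj (δ v) = N := by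
    apply int_of_gal _ (Nat.card X) Nat.card_pos
    · intro σ k hk hσ
      rw [map_prod, Finset.prod_congr rfl fun v hv => hgal σ k hk hσ v hv]
      refine Finset.prod_bij (fun v _ => v ^ k) (fun v hv => (hS k hk v).2 hv) ?_ ?_ (fun v _ => rfl)
      · intro v _ w _ h
        exact (powCoprime (Nat.Coprime.symm hk)).injective h
      · intro w hw
        obtain ⟨v, hv⟩ := (powCoprime (Nat.Coprime.symm hk)).surjective w
        have hv' : v ^ k = w := hv
        exact ⟨v, (hS k hk v).1 (by rw [hv']; exact hw), hv'⟩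
    · exact IsIntegral.prod _ fun v hv => (hint v hv).mul (isIntegral_conj (hint v hv))
  have hNpos : 0 < (∏ v ∈ S, Complex.normSq (δ v)) := Finset.prod_pos hpos
  have hNr : (∏ v ∈ S, Complex.normSq (δ v)) = (N : ℝ) := by
    have h1 : ((∏ v ∈ S, Complex.normSq (δ v) : ℝ) : ℂ) = ((N : ℝ) : ℂ) := by
      push_cast
      rw [← hN]
      exact Finset.prod_congr rfl fun v _ => (hm v).symm
    exact_mod_cast h1
  have hN1 : (1 : ℝ) ≤ N := by
    rw [hNr] at hNpos
    have : 0 < N := by exact_mod_cast hNpos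
    exact_mod_cast this
  have hlog : 0 ≤ ∑ v ∈ S, Real.log (Complex.normSq (δ v)) := by
    rw [← Real.log_prod (fun v hv => (hpos v hv).ne'), hNr]
    exact Real.log_nonneg hN1
  have hterm : ∀ v ∈ S, 0 ≤ Complex.normSq (δ v) - 1 - Real.log (Complex.normSq (δ v)) := by
    intro v hv
    have := Real.log_le_sub_one_of_pos (hpos v hv)
    linarith
  have htot : ∑ v ∈ S, (Complex.normSq (δ v) - 1 - Real.log (Complex.normSq (δ v))) =
      (∑ v ∈ S, Complex.normSq (δ v)) - S.card - ∑ v ∈ S, Real.log (Complex.normSq (δ v)) := by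
    rw [Finset.sum_sub_distrib, Finset.sum_sub_distrib]
    simp
  have hnn := Finset.sum_nonneg hterm
  rw [htot] at hnn
  linarith

theorem zeros [DecidableEq X] (χ : X → ℂ) (hχ : IsIrrCharacter X χ) :
    (charDegree χ ^ 2 - 1) * (Finset.univ.filter (fun g : X => ‖χ g‖ = (charDegree χ : ℝ))).card ≤
      (Finset.univ.filter (fun g : X => χ g = 0)).card ∧
    ((∀ g : X, ‖χ g‖ = 0 ∨ ‖χ g‖ = 1 ∨ ‖χ g‖ = (charDegree χ : ℝ)) →
      (charDegree χ ^ 2 - 1) * (Finset.univ.filter (fun g : X => ‖χ g‖ = (charDegree χ : ℝ))).card =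
        (Finset.univ.filter (fun g : X => χ g = 0)).card) := by
  classical
  set d := charDegree χ with hd
  have hd1 : 0 < d := (IsIrr.one_eq hχ).2
  have hdr : (0 : ℝ) < d := by exact_mod_cast hd1
  set Z := Finset.univ.filter (fun g : X => ‖χ g‖ = (d : ℝ)) with hZ
  set V := Finset.univ.filter (fun g : X => χ g = 0) with hV
  set S := Finset.univ.filter (fun g : X => χ g ≠ 0 ∧ ‖χ g‖ ≠ (d : ℝ)) with hS
  have hns : ∀ g, Complex.normSq (χ g) = ‖χ g‖ ^ 2 := fun g => Complex.normSq_eq_norm_sq _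
  have hchar := IsIrr.isCharacter hχ
  have hgal : ∀ (σ : ℂ ≃+* ℂ) (k : ℕ), k.Coprime (Nat.card X) → (∀ z : ℂ, z ^ Nat.card X = 1 → σ z = z ^ k) →
      ∀ v, σ (χ v * conj (χ v)) = χ (v ^ k) * conj (χ (v ^ k)) := by
    intro σ k hk hσ v
    rw [map_mul, galois_conj_char rfl σ hσ hchar, char_aut_pow (fun g => orderOf_dvd_natCard g) σ hσ hchar]
  have hpow : ∀ (k : ℕ), k.Coprime (Nat.card X) → ∀ v (c : ℕ), Complex.normSq (χ (v ^ k)) = c ↔ Complex.normSq (χ v) = c := by
    intro k hk v c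
    obtain ⟨σ, hσ⟩ := exists_aut_pow (n := Nat.card X) Nat.card_pos hk
    have h1 := hgal σ k hk hσ v
    rw [Complex.mul_conj, Complex.mul_conj] at h1
    constructor
    · intro h
      rw [h] at h1
      have h2 : σ ((Complex.normSq (χ v) : ℝ) : ℂ) = σ (c : ℂ) := by
        rw [h1, map_natCast]; norm_cast
      have h3 := σ.injective h2
      exact_mod_cast h3
    · intro h
      rw [h] at h1
      have h2 : σ (((c : ℕ) : ℝ) : ℂ) = (c : ℂ) := by
        rw [show (((c : ℕ) : ℝ) : ℂ) = (c : ℂ) by norm_cast, map_natCast]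
      rw [h2] at h1
      exact_mod_cast h1.symm
  have hz : ∀ v, χ v = 0 ↔ Complex.normSq (χ v) = (0 : ℕ) := fun v => by
    rw [Nat.cast_zero]; exact Complex.normSq_eq_zero.symm
  have hdn : ∀ v, ‖χ v‖ = (d : ℝ) ↔ Complex.normSq (χ v) = ((d ^ 2 : ℕ) : ℝ) := fun v => by
    rw [hns]
    push_cast
    constructor
    · intro h; rw [h]
    · intro h; exact (pow_left_inj₀ (norm_nonneg _) hdr.le two_ne_zero).1 h
  have hSp : ∀ (k : ℕ), k.Coprime (Nat.card X) → ∀ v, v ^ k ∈ S ↔ v ∈ S := by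
    intro k hk v
    simp only [hS, Finset.mem_filter, Finset.mem_univ, true_and, ne_eq]
    rw [hz, hz, hdn, hdn, hpow k hk, hpow k hk]
  have hineq := amgm_le S hSp χ (fun v _ => IsCharacter.isIntegral hchar v)
    (fun v hv => (Finset.mem_filter.1 hv).2.1) (fun σ k hk hσ v _ => hgal σ k hk hσ v)
  have htot : ∑ v : X, Complex.normSq (χ v) = Fintype.card X := by
    have h1 := classInner_irr_self hχ
    rw [classInner_def] at h1
    have h0 : (Nat.card X : ℂ) ≠ 0 := card_ne_zero X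
    have h2 : ∑ v : X, χ v * conj (χ v) = (Nat.card X : ℂ) := by
      have := congrArg (fun t => (Nat.card X : ℂ) * t) h1
      simp only [mul_one] at this
      rw [← mul_assoc, mul_inv_cancel₀ h0, one_mul] at this
      exact this
    have h3 : ((∑ v : X, Complex.normSq (χ v) : ℝ) : ℂ) = ((Fintype.card X : ℝ) : ℂ) := by
      push_cast
      rw [← Nat.card_eq_fintype_card, ← h2]
      exact Finset.sum_congr rfl fun v _ => (Complex.mul_conj _).symm
    exact_mod_cast h3
  -- the three parts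
  have hsplit : ∀ f : X → ℝ, ∑ v : X, f v = ∑ v ∈ Z, f v + (∑ v ∈ V, f v + ∑ v ∈ S, f v) := by
    intro f
    rw [← Finset.sum_filter_add_sum_filter_not Finset.univ (fun g : X => ‖χ g‖ = (d : ℝ)) f]
    congr 1
    rw [← Finset.sum_filter_add_sum_filter_not (Finset.univ.filter fun g : X => ¬ ‖χ g‖ = (d : ℝ)) (fun g : X => χ g = 0) f]
    congr 1
    · rw [Finset.filter_filter]
      refine Finset.sum_congr ?_ fun _ _ => rfl
      ext v
      simp only [hV, Finset.mem_filter, Finset.mem_univ, true_and]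
      constructor
      · rintro ⟨-, h⟩; exact h
      · intro h
        refine ⟨?_, h⟩
        rw [h, norm_zero]
        exact hdr.ne
    · rw [Finset.filter_filter]
      refine Finset.sum_congr ?_ fun _ _ => rfl
      ext v
      simp only [hS, Finset.mem_filter, Finset.mem_univ, true_and, ne_eq]
      exact ⟨fun h => ⟨h.2, h.1⟩, fun h => ⟨h.2, h.1⟩⟩
  have h1 := hsplit (fun v => Complex.normSq (χ v))
  have h2 := hsplit (fun _ => 1)
  rw [htot] at h1
  have hZs : ∑ v ∈ Z, Complex.normSq (χ v) = (Z.card : ℝ) * (d : ℝ) ^ 2 := by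
    rw [Finset.sum_congr rfl (g := fun _ => (d : ℝ) ^ 2) (fun v hv => by
      rw [hns, (Finset.mem_filter.1 hv).2]), Finset.sum_const, nsmul_eq_mul]
  have hVs : ∑ v ∈ V, Complex.normSq (χ v) = 0 :=
    Finset.sum_eq_zero fun v hv => by rw [(Finset.mem_filter.1 hv).2, map_zero]
  rw [hZs, hVs, zero_add] at h1
  simp only [Finset.sum_const, nsmul_eq_mul, mul_one, Finset.card_univ] at h2
  have hcast : (((d ^ 2 - 1) * Z.card : ℕ) : ℝ) = ((d : ℝ) ^ 2 - 1) * Z.card := by
    rw [Nat.cast_mul, Nat.cast_sub (Nat.one_le_pow _ _ hd1)]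
    push_cast
    ring
  constructor
  · have : (((d ^ 2 - 1) * Z.card : ℕ) : ℝ) ≤ (V.card : ℝ) := by
      rw [hcast]
      nlinarith
    exact_mod_cast this
  · intro hall
    have hSs : ∑ v ∈ S, Complex.normSq (χ v) = (S.card : ℝ) := by
      rw [Finset.sum_congr rfl (g := fun _ => (1 : ℝ)) (fun v hv => by
        have h3 := (Finset.mem_filter.1 hv).2
        rw [hns]
        rcases hall v with h4 | h4 | h4
        · exact absurd (norm_eq_zero.1 h4) h3.1
        · rw [h4, one_pow]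
        · exact absurd h4 h3.2), Finset.sum_const, nsmul_eq_mul, mul_one]
    rw [hSs] at h1
    have : (((d ^ 2 - 1) * Z.card : ℕ) : ℝ) = (V.card : ℝ) := by
      rw [hcast]
      linarith
    exact_mod_cast this

end Zeros

end CfsgQk
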