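import Cfsg.Agent.H4.Qk2

set_option autoImplicit false
set_option linter.all false

/-! # The field of the coefficients of a block idempotent -/

open Cfsg MonoidAlgebra
open CfsgH4 hiding centralChar sum_conj regInner_symm
open CfsgH5 hiding ev_ca
open ComplexConjugate

namespace CfsgQk

section Fld

variable {G : Type*} [Group G] [Fintype G] {M : Ideal AlgInt} [hMp : M.IsPrime] {p : ℕ} [hp : Fact p.Prime]

theorem coeff_mem (hM : IsPModular p M) {B : Set (IrrCharacter G)} (hB : IsPBlock M B) (g : G) :
    blockCoeff B g ∈ IntermediateField.adjoin ℚ ({Complex.exp (2 * Real.pi * Complex.I /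
      ((Nat.card G / p ^ (Nat.card G).factorization p : ℕ) : ℂ))} : Set ℂ) := by
  classical
  set m := Nat.card G / p ^ (Nat.card G).factorization p with hm
  set F := IntermediateField.adjoin ℚ ({Complex.exp (2 * Real.pi * Complex.I / ((m : ℕ) : ℂ))} : Set ℂ) with hF
  by_cases hg : p ∣ orderOf g
  · rw [blockCoeff_singular hM (inS_eSet hB) hg]
    exact F.zero_mem
  · have hprod : p ^ (Nat.card G).factorization p * m = Nat.card G := Nat.ordProj_mul_ordCompl_eq_self _ _
    have hm0 : m ≠ 0 := by
      intro h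
      rw [h, mul_zero] at hprod
      exact Nat.card_pos.ne hprod
    have hdvd : orderOf g⁻¹ ∣ m := by
      rw [orderOf_inv]
      have h1 : orderOf g ∣ p ^ (Nat.card G).factorization p * m := by rw [hprod]; exact orderOf_dvd_natCard g
      refine Nat.Coprime.dvd_of_dvd_mul_left ?_ h1
      exact Nat.Coprime.pow_right _ ((Nat.Prime.coprime_iff_not_dvd hp.out).2 hg).symm
    have hroot : ∀ z : ℂ, z ^ orderOf g⁻¹ = 1 → z ∈ F := by
      intro z hz
      have h1 : z ^ m = 1 := by
        obtain ⟨c, hc⟩ := hdvd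
        rw [hc, pow_mul, hz, one_pow]
      haveI : NeZero m := ⟨hm0⟩
      obtain ⟨i, -, hi⟩ := (Complex.isPrimitiveRoot_exp m hm0).eq_pow_of_pow_eq_one h1
      rw [← hi]
      exact pow_mem (IntermediateField.subset_adjoin ℚ _ (Set.mem_singleton _)) i
    have hval : ∀ χ : IrrCharacter G, (χ : G → ℂ) g⁻¹ ∈ F := by
      intro χ
      obtain ⟨s, hs, h1, -⟩ := IsCharacter.exists_roots (IsIrr.isCharacter χ.2) g⁻¹
      have h2 := h1 1
      simp only [zpow_one, Multiset.map_id'] at h2
      rw [h2]
      exact multiset_sum_mem _ fun z hz => hroot z (hs z hz)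
    rw [blockCoeff_eq]
    refine mul_mem (inv_mem (natCast_mem F _)) (sum_mem fun χ _ => ?_)
    by_cases h : χ ∈ B
    · rw [if_pos h]
      exact mul_mem (by rw [(IsIrr.one_eq χ.2).1]; exact natCast_mem F _) (hval χ)
    · rw [if_neg h]
      exact zero_mem F

end Fld

end CfsgQk
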