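import Cfsg.Agent.H4.Qk3
import Cfsg.Agent.H4.Glb2

set_option autoImplicit false
set_option linter.all false

/-! # The `p`-regular part of a character -/

open Cfsg MonoidAlgebra
open CfsgH4 hiding centralChar sum_conj regInner_symm
open CfsgH5 hiding ev_ca
open ComplexConjugate

namespace CfsgQk

section Tl

variable {G : Type*} [Group G] [Fintype G] {M : Ideal AlgInt} [hMp : M.IsPrime] {p : ℕ} [hp : Fact p.Prime]

theorem tl_class (c : ℂ) (χ : IrrCharacter G) :
    IsClassFunction G (fun x : G => if p ∣ orderOf x then (0 : ℂ) else c * (χ : G → ℂ) x) := by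
  intro x y
  show (if p ∣ orderOf (y * x * y⁻¹) then (0 : ℂ) else c * (χ : G → ℂ) (y * x * y⁻¹)) = _
  rw [orderOf_conj', IsIrr.isClassFunction χ.2 x y]

theorem tl_inner (c : ℂ) (χ ψ : IrrCharacter G) :
    classInner (fun x : G => if p ∣ orderOf x then (0 : ℂ) else c * (χ : G → ℂ) x) (ψ : G → ℂ) =
      (Nat.card G : ℂ)⁻¹ * (c * regInner p (χ : G → ℂ) (ψ : G → ℂ)) := by
  rw [classInner_def, regInner]
  congr 1
  rw [Finset.mul_sum]
  refine Finset.sum_congr rfl fun x _ => ?_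
  by_cases h : p ∣ orderOf x
  · simp only [if_pos h]; ring
  · simp only [if_neg h]; ring

/-- the full package on `[χ̃, ψ]` -/
theorem tl_contr (hM : IsPModular p M) {B : Set (IrrCharacter G)} (hB : IsPBlock M B) {χ : IrrCharacter G} (hχ : χ ∈ B)
    {A : IrrCharacter G → ℤ} (hA : ∀ ψ : IrrCharacter G, (p : ℂ) ^ blockDefect p B * regInner p (χ : G → ℂ) (ψ : G → ℂ) =
        (Nat.card G : ℂ) * A ψ) (ψ : IrrCharacter G) :
    classInner (fun x : G => if p ∣ orderOf x then (0 : ℂ) else ((p ^ (Nat.card G).factorization p : ℕ) : ℂ) * (χ : G → ℂ) x)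
      (ψ : G → ℂ) = (((p : ℤ) ^ ((Nat.card G).factorization p - blockDefect p B) * A ψ : ℤ) : ℂ) := by
  rw [tl_inner]
  have hda : blockDefect p B ≤ (Nat.card G).factorization p := Nat.sub_le _ _
  have h0 : (Nat.card G : ℂ) ≠ 0 := card_ne_zero G
  have h1 : (p : ℂ) ^ (Nat.card G).factorization p = (p : ℂ) ^ ((Nat.card G).factorization p - blockDefect p B) * (p : ℂ) ^ blockDefect p B := by
    rw [← pow_add, Nat.sub_add_cancel hda]
  push_cast
  rw [h1, mul_assoc, hA ψ]
  field_simp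

theorem tl_comb (hM : IsPModular p M) (B : Set (IrrCharacter G)) (hB : IsPBlock M B) (χ : IrrCharacter G) (hχ : χ ∈ B) :
    ∃ a : IrrCharacter G → ℤ, (∀ ψ, ψ ∉ B → a ψ = 0) ∧
      (fun x : G => if p ∣ orderOf x then (0 : ℂ) else ((p ^ (Nat.card G).factorization p : ℕ) : ℂ) * (χ : G → ℂ) x) =
        fun x => ∑ᶠ ψ : IrrCharacter G, (a ψ : ℂ) * (ψ : G → ℂ) x := by
  classical
  obtain ⟨A, h1, h2, -⟩ := contr hM hB hχ
  refine ⟨fun ψ => (p : ℤ) ^ ((Nat.card G).factorization p - blockDefect p B) * A ψ, ?_, ?_⟩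
  · intro ψ hψ
    show (p : ℤ) ^ _ * A ψ = 0
    rw [h2 ψ hψ, mul_zero]
  · funext x
    have h3 := classFun_expand_apply (tl_class (p := p) ((p ^ (Nat.card G).factorization p : ℕ) : ℂ) χ) x
    rw [finsum_eq_sum_of_fintype]
    refine Eq.trans h3 (Finset.sum_congr rfl fun ψ _ => ?_)
    rw [tl_contr hM hB hχ h1]

theorem tl_gen (p : ℕ) [hp : Fact p.Prime] (χ : IrrCharacter G) :
    IsGeneralizedCharacter G (fun x : G => if p ∣ orderOf x then (0 : ℂ) else
      ((p ^ ((Nat.card G).factorization p - (charDegree (χ : G → ℂ)).factorization p) : ℕ) : ℂ) * (χ : G → ℂ) x) ∧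
    ¬ IsGeneralizedCharacter G (fun x : G => if p ∣ orderOf x then (0 : ℂ) else
      ((p ^ (Nat.card G).factorization p : ℕ) : ℂ) / ((p ^ ((charDegree (χ : G → ℂ)).factorization p + 1) : ℕ) : ℂ) * (χ : G → ℂ) x) := by
  classical
  have hp0 : (p : ℂ) ≠ 0 := by exact_mod_cast hp.out.ne_zero
  obtain ⟨M, hM⟩ := exists_mod p
  haveI := IsPModular.isPrime hM
  set B := blockOf M (χ : G → ℂ) with hB
  have hBB : IsPBlock M B := isPBlock_blockOf χ
  have hχ : χ ∈ B := mem_blockOf_self χ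
  have hdeg := degree_eq (p := p) hχ
  set a := (Nat.card G).factorization p with ha
  set e := (charDegree (χ : G → ℂ)).factorization p with he
  set d := blockDefect p B with hd
  set h := blockHeight p B (χ : G → ℂ) with hh
  have hea : e ≤ a := (Nat.factorization_le_iff_dvd (charDegree_ne_zero χ) Nat.card_pos.ne').2 (charDegree_dvd χ) p
  have h0 : (Nat.card G : ℂ) ≠ 0 := card_ne_zero G
  constructor
  · rw [isGen_iff]
    refine ⟨tl_class _ χ, fun ψ hψ => ?_⟩
    obtain ⟨n, hn, -⟩ := exists_contr hM hχ (⟨ψ, hψ⟩ : IrrCharacter G)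
    refine ⟨n, ?_⟩
    rw [tl_inner _ χ ⟨ψ, hψ⟩]
    have hn' : (p : ℂ) ^ d * regInner p (χ : G → ℂ) ψ = (Nat.card G : ℂ) * ((p : ℂ) ^ h * n) := hn
    have h1 : (p : ℂ) ^ d = (p : ℂ) ^ (a - e) * (p : ℂ) ^ h := by
      rw [← pow_add]; congr 1; omega
    have h2 : (p : ℂ) ^ (a - e) * regInner p (χ : G → ℂ) ψ = (Nat.card G : ℂ) * n := by
      apply mul_left_cancel₀ (pow_ne_zero h hp0)
      linear_combination hn' - (regInner p (χ : G → ℂ) ψ) * h1
    push_cast
    show (Nat.card G : ℂ)⁻¹ * ((p : ℂ) ^ (a - e) * regInner p (χ : G → ℂ) ψ) = n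
    rw [h2, ← mul_assoc, inv_mul_cancel₀ h0, one_mul]
  · intro hgen
    obtain ⟨P⟩ : Nonempty (Sylow p G) := inferInstance
    haveI : Fintype (P : Subgroup G) := Fintype.ofFinite _
    have h1 := isGen_comp (P : Subgroup G).subtype hgen
    obtain ⟨n, hn⟩ := IsGen.inner_int h1 (IsCharacter.isGen (IsIrr.isCharacter (isIrrCharacter_one (G := (P : Subgroup G)))))
    rw [classInner_def, Finset.sum_eq_single 1] at hn
    · have h2 : ¬ p ∣ orderOf ((P : Subgroup G).subtype 1) := by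
        rw [map_one, orderOf_one]; exact hp.out.not_dvd_one
      rw [if_neg h2, map_one, (IsIrr.one_eq χ.2).1, map_one, mul_one,
        show Nat.card (P : Subgroup G) = p ^ a from P.card_eq_multiplicity] at hn
      push_cast at hn
      have h3 : (charDegree (χ : G → ℂ) : ℂ) = (p : ℂ) ^ (e + 1) * n := by
        rw [← hn]
        field_simp
      have h4 : ((charDegree (χ : G → ℂ) : ℕ) : ℤ) = (p : ℤ) ^ (e + 1) * n := by exact_mod_cast h3
      have h5 : (p ^ (e + 1) : ℕ) ∣ charDegree (χ : G → ℂ) := by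
        have : ((p ^ (e + 1) : ℕ) : ℤ) ∣ (charDegree (χ : G → ℂ) : ℤ) := ⟨n, by rw [h4]; push_cast; ring⟩
        exact_mod_cast this
      exact Nat.pow_succ_factorization_not_dvd (charDegree_ne_zero χ) hp.out h5
    · intro x _ hx
      have h2 : p ∣ orderOf ((P : Subgroup G).subtype x) := by
        obtain ⟨k, hk⟩ := (IsPGroup.iff_orderOf.1 P.isPGroup') x
        rw [Subgroup.subtype_apply, Subgroup.orderOf_coe, hk]
        refine dvd_pow_self p (fun hk0 => hx ?_)
        rw [hk0, pow_zero] at hk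
        exact orderOf_eq_one_iff.1 hk
      rw [if_pos h2, zero_mul]
    · intro h; exact absurd (Finset.mem_univ _) h

theorem tl_height (hM : IsPModular p M) (B : Set (IrrCharacter G)) (hB : IsPBlock M B) (χ : IrrCharacter G) (hχ : χ ∈ B) :
    (blockHeight p B (χ : G → ℂ) = 0 ↔ ∃ ξ ∈ B, ∃ n : ℤ, classInner (fun x : G => if p ∣ orderOf x then (0 : ℂ) else
      ((p ^ (Nat.card G).factorization p : ℕ) : ℂ) * (χ : G → ℂ) x) (ξ : G → ℂ) = (n : ℂ) ∧ n ≠ 0 ∧
        padicValInt p n = (charDegree (ξ : G → ℂ)).factorization p) ∧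
    (blockHeight p B (χ : G → ℂ) = 0 ↔ ∀ ξ ∈ B, ∃ n : ℤ, classInner (fun x : G => if p ∣ orderOf x then (0 : ℂ) else
      ((p ^ (Nat.card G).factorization p : ℕ) : ℂ) * (χ : G → ℂ) x) (ξ : G → ℂ) = (n : ℂ) ∧ n ≠ 0 ∧
        padicValInt p n = (charDegree (ξ : G → ℂ)).factorization p) := by
  classical
  obtain ⟨A, h1, h2, -, -, -, h6, h7, h8, h9, h10⟩ := contr hM hB hχ
  have hda : blockDefect p B ≤ (Nat.card G).factorization p := Nat.sub_le _ _
  set a := (Nat.card G).factorization p with ha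
  set d := blockDefect p B with hd
  have hc := tl_contr hM hB hχ h1
  have hpZ : (p : ℤ) ≠ 0 := by exact_mod_cast hp.out.ne_zero
  -- symmetry
  have hsym : ∀ ξ ∈ B, (blockHeight p B (χ : G → ℂ) = 0 ↔ ¬ (p : ℤ) ^ (blockHeight p B (ξ : G → ℂ) + 1) ∣ A ξ) := by
    intro ξ hξ
    obtain ⟨A', h1', -, -, -, -, -, -, h8', h9', -⟩ := contr hM hB hξ
    have h3 : A' χ = A ξ := by
      have h4 := h1 ξ
      have h5 := h1' χ
      rw [regInner_symm (IsIrr.isCharacter ξ.2) (IsIrr.isCharacter χ.2), h4] at h5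
      have h0 : (Nat.card G : ℂ) ≠ 0 := card_ne_zero G
      have := mul_left_cancel₀ h0 h5
      exact_mod_cast this.symm
    constructor
    · intro h
      rw [← h3]
      exact h8' χ hχ h
    · intro h
      by_contra hne
      rw [← h3] at h
      exact h (h9' χ hχ hne)
  have hval : ∀ ξ ∈ B, (A ξ ≠ 0 ∧ ¬ (p : ℤ) ^ (blockHeight p B (ξ : G → ℂ) + 1) ∣ A ξ) ↔
      ∃ n : ℤ, classInner (fun x : G => if p ∣ orderOf x then (0 : ℂ) else
      ((p ^ a : ℕ) : ℂ) * (χ : G → ℂ) x) (ξ : G → ℂ) = (n : ℂ) ∧ n ≠ 0 ∧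
        padicValInt p n = (charDegree (ξ : G → ℂ)).factorization p := by
    intro ξ hξ
    have hdeg := degree_eq (p := p) hξ
    rw [← ha, ← hd] at hdeg
    have he : (charDegree (ξ : G → ℂ)).factorization p = (a - d) + blockHeight p B (ξ : G → ℂ) := by omega
    constructor
    · rintro ⟨hne, hnd⟩
      refine ⟨(p : ℤ) ^ (a - d) * A ξ, hc ξ, mul_ne_zero (pow_ne_zero _ hpZ) hne, ?_⟩
      rw [padicValInt.mul (pow_ne_zero _ hpZ) hne, he]
      congr 1
      · rw [← Nat.cast_pow, padicValInt.of_nat, padicValNat.prime_pow]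
      · apply le_antisymm
        · by_contra hlt
          push Not at hlt
          exact hnd ((padicValInt_dvd_iff _ _).2 (Or.inr hlt))
        · rcases (padicValInt_dvd_iff _ _).1 (h7 ξ hξ) with h | h
          · exact absurd h hne
          · exact h
    · rintro ⟨n, hn, hn0, hv⟩
      rw [hc ξ] at hn
      have hn' : (p : ℤ) ^ (a - d) * A ξ = n := by exact_mod_cast hn
      have hne : A ξ ≠ 0 := by
        intro h
        rw [h, mul_zero] at hn'
        exact hn0 hn'.symm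
      refine ⟨hne, fun hdv => ?_⟩
      rw [← hn', padicValInt.mul (pow_ne_zero _ hpZ) hne, he, ← Nat.cast_pow, padicValInt.of_nat, padicValNat.prime_pow] at hv
      rcases (padicValInt_dvd_iff _ _).1 hdv with h | h
      · exact hne h
      · omega
  constructor
  · constructor
    · intro h
      exact ⟨χ, hχ, (hval χ hχ).1 ⟨h10 h χ hχ, (hsym χ hχ).1 h⟩⟩
    · rintro ⟨ξ, hξ, hn⟩
      exact (hsym ξ hξ).2 ((hval ξ hξ).2 hn).2
  · constructor
    · intro h ξ hξ
      exact (hval ξ hξ).1 ⟨h10 h ξ hξ, (hsym ξ hξ).1 h⟩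
    · intro hall
      exact (hsym χ hχ).2 ((hval χ hχ).2 (hall χ hχ)).2

end Tl

end CfsgQk
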