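import Cfsg.Agent.H4.Qk4

set_option autoImplicit false
set_option linter.all false

/-! # Induced blocks: degrees of the block parts of induced characters -/

open Cfsg MonoidAlgebra
open CfsgH4 hiding centralChar sum_conj regInner_symm
open CfsgH5 hiding ev_ca
open ComplexConjugate

namespace CfsgQk

section Val

variable {M : Ideal AlgInt} [hMp : M.IsPrime] {p : ℕ} [hp : Fact p.Prime]

theorem val_lemma (hM : IsPModular p M) {n N : ℕ} (hN : N ≠ 0) {w : ℂ} (hw : MemLocalRing M w) (h : (n : ℂ) = N * w) :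
    (¬ MemLocalIdeal M w → n ≠ 0 ∧ n.factorization p = N.factorization p) ∧
    (MemLocalIdeal M w → n = 0 ∨ N.factorization p < n.factorization p) := by
  have hp0 : (p : ℂ) ≠ 0 := by exact_mod_cast hp.out.ne_zero
  have hN1 := Nat.ordProj_mul_ordCompl_eq_self N p
  have hN2 : ¬ p ∣ N / p ^ N.factorization p := Nat.not_dvd_ordCompl hp.out hN
  set t := N.factorization p with ht
  set m' := N / p ^ t with hm'
  have key : n ≠ 0 → n.factorization p ≤ t → (MemLocalIdeal M w ∨ n.factorization p < t) → False := by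
    intro hn hst hor
    have hn1 := Nat.ordProj_mul_ordCompl_eq_self n p
    have hn2 : ¬ p ∣ n / p ^ n.factorization p := Nat.not_dvd_ordCompl hp.out hn
    set s := n.factorization p with hs
    set n' := n / p ^ s with hn'
    have h1 : (n' : ℂ) = (p : ℂ) ^ (t - s) * m' * w := by
      have h2 : (p : ℂ) ^ s * n' = (p : ℂ) ^ t * m' * w := by
        have h3 : ((p ^ s * n' : ℕ) : ℂ) = ((p ^ t * m' : ℕ) : ℂ) * w := by rw [hn1, hN1]; exact h
        push_cast at h3
        exact h3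
      have h4 : (p : ℂ) ^ t = (p : ℂ) ^ s * (p : ℂ) ^ (t - s) := by rw [← pow_add]; congr 1; omega
      rw [h4] at h2
      apply mul_left_cancel₀ (pow_ne_zero s hp0)
      rw [h2]; ring
    apply hn2
    rw [← memLocalIdeal_natCast_iff hM, h1]
    rcases hor with h5 | h5
    · exact MemLocalIdeal.mul_left (MemLocalRing.mul (MemLocalRing.pow (memLocalRing_natCast p) _) (memLocalRing_natCast _)) h5
    · obtain ⟨j, hj⟩ : ∃ j, t - s = j + 1 := ⟨t - s - 1, by omega⟩
      rw [hj, pow_succ, mul_assoc, mul_assoc]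
      exact MemLocalIdeal.mul_left (MemLocalRing.pow (memLocalRing_natCast p) _)
        (MemLocalIdeal.mul_right (memLocalIdeal_p hM) (MemLocalRing.mul (memLocalRing_natCast _) hw))
  constructor
  · intro hw'
    have hn : n ≠ 0 := by
      rintro rfl
      have h1 : w ≠ 0 := ne_zero_of_not_memLocalIdeal hw'
      have h2 : (N : ℂ) ≠ 0 := by exact_mod_cast hN
      exact mul_ne_zero h2 h1 (by rw [← h]; simp)
    refine ⟨hn, ?_⟩
    rcases lt_trichotomy (n.factorization p) t with h1 | h1 | h1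
    · exact absurd (key hn h1.le (Or.inr h1)) id
    · exact h1
    · exfalso
      -- `w = n / N` is divisible by `p`
      apply hw'
      have hn1 := Nat.ordProj_mul_ordCompl_eq_self n p
      set s := n.factorization p with hs
      set n' := n / p ^ s with hn'
      have hinv := memLocalRing_natCast_inv hM hN2
      have hm0 : (m' : ℂ) ≠ 0 := by
        intro h5
        have : m' = 0 := by exact_mod_cast h5
        rw [this] at hN2
        exact hN2 (dvd_zero p)
      have h2 : (p : ℂ) ^ s * n' = (p : ℂ) ^ t * m' * w := by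
        have h3 : ((p ^ s * n' : ℕ) : ℂ) = ((p ^ t * m' : ℕ) : ℂ) * w := by rw [hn1, hN1]; exact h
        push_cast at h3
        exact h3
      obtain ⟨j, hj⟩ : ∃ j, s = t + (j + 1) := ⟨s - t - 1, by omega⟩
      have h4 : w = (p : ℂ) * ((p : ℂ) ^ j * n' * (m' : ℂ)⁻¹) := by
        apply mul_left_cancel₀ (mul_ne_zero (pow_ne_zero t hp0) hm0)
        rw [← h2, hj, pow_add, pow_succ]
        field_simp
      rw [h4]
      exact MemLocalIdeal.mul_right (memLocalIdeal_p hM) (MemLocalRing.mul (MemLocalRing.mul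
        (MemLocalRing.pow (memLocalRing_natCast p) _) (memLocalRing_natCast _)) hinv)
  · intro hw'
    by_cases hn : n = 0
    · exact Or.inl hn
    · right
      by_contra hle
      push Not at hle
      exact key hn hle (Or.inl hw')

end Val

section Ind

variable {G : Type*} [Group G] [Fintype G] {M : Ideal AlgInt} [hMp : M.IsPrime] {p : ℕ} [hp : Fact p.Prime]

theorem blockPart_ind (H : Subgroup G) [Fintype H] (B : Set (IrrCharacter G)) (ξ : IrrCharacter H) :
    blockPart B (indFun H (ξ : H → ℂ)) 1 = indFun H (ξ : H → ℂ) 1 * om (ξ : H → ℂ) (resA H (eSet B)) := by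
  classical
  rw [blockPart_sum, indFun_one, om, ev_eq_sum]
  have h0 : (ξ : H → ℂ) 1 ≠ 0 := IsIrr.one_ne_zero ξ.2
  have h1 : ∀ χ : IrrCharacter G, classInner (indFun H (ξ : H → ℂ)) (χ : G → ℂ) =
      (Nat.card H : ℂ)⁻¹ * ∑ h : H, (ξ : H → ℂ) h * (χ : G → ℂ) (h : G)⁻¹ := by
    intro χ
    rw [frobenius H _ (fun x g => IsIrr.isClassFunction χ.2 x g), classInner_char_right (isCharacter_restrict H (IsIrr.isCharacter χ.2))]
    rfl
  have h2 : ∀ h : H, (resA H (eSet B)).coeff h = (Nat.card G : ℂ)⁻¹ * ∑ χ : IrrCharacter G,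
      (if χ ∈ B then (χ : G → ℂ) 1 * (χ : G → ℂ) (h : G)⁻¹ else 0) := by
    intro h
    rw [coeff_resA, coeff_eSet, blockCoeff_eq]
  simp only [h1, h2]
  have h3 : ((H.index : ℕ) : ℂ) * (Nat.card H : ℂ) = Nat.card G := by exact_mod_cast H.index_mul_card
  have h4 : (Nat.card G : ℂ) ≠ 0 := card_ne_zero G
  have h5 : (Nat.card H : ℂ) ≠ 0 := card_ne_zero H
  have h6 : ((H.index : ℕ) : ℂ) ≠ 0 := by exact_mod_cast Subgroup.index_ne_zero_of_finite
  have h7 : ∑ χ : IrrCharacter G, (if χ ∈ B then (Nat.card H : ℂ)⁻¹ * (∑ h : H, (ξ : H → ℂ) h * (χ : G → ℂ) (h : G)⁻¹) *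
      (χ : G → ℂ) 1 else 0) = (Nat.card H : ℂ)⁻¹ * ∑ h : H, ∑ χ : IrrCharacter G,
        (if χ ∈ B then (χ : G → ℂ) 1 * (χ : G → ℂ) (h : G)⁻¹ else 0) * (ξ : H → ℂ) h := by
    rw [Finset.sum_comm, Finset.mul_sum]
    refine Finset.sum_congr rfl fun χ _ => ?_
    by_cases h : χ ∈ B
    · simp only [if_pos h]
      rw [mul_assoc, Finset.sum_mul]
      congr 1
      exact Finset.sum_congr rfl fun _ _ => by ring
    · simp only [if_neg h]
      simp
  rw [h7]
  have h8 : ∑ h : H, (Nat.card G : ℂ)⁻¹ * (∑ χ : IrrCharacter G, (if χ ∈ B then (χ : G → ℂ) 1 * (χ : G → ℂ) (h : G)⁻¹ else 0)) *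
      (ξ : H → ℂ) h = (Nat.card G : ℂ)⁻¹ * ∑ h : H, ∑ χ : IrrCharacter G,
        (if χ ∈ B then (χ : G → ℂ) 1 * (χ : G → ℂ) (h : G)⁻¹ else 0) * (ξ : H → ℂ) h := by
    rw [Finset.mul_sum]
    refine Finset.sum_congr rfl fun h _ => ?_
    rw [mul_assoc, Finset.sum_mul]
  rw [h8, ← h3]
  field_simp

theorem ind_degree (hM : IsPModular p M) (H : Subgroup G) [Fintype H] (b : Set (IrrCharacter H)) (B₀ : Set (IrrCharacter G))
    (hind : IsInducedBlock M H b B₀) (ξ : IrrCharacter H) (hξ : ξ ∈ b) :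
    (∃ n : ℕ, blockPart B₀ (indFun H (ξ : H → ℂ)) 1 = (n : ℂ) ∧ n ≠ 0 ∧
      n.factorization p = (charDegree (indFun H (ξ : H → ℂ))).factorization p) ∧
    ∀ B : Set (IrrCharacter G), IsPBlock M B → B ≠ B₀ → ∃ n : ℕ, blockPart B (indFun H (ξ : H → ℂ)) 1 = (n : ℂ) ∧
      (n = 0 ∨ (charDegree (indFun H (ξ : H → ℂ))).factorization p < n.factorization p) := by
  classical
  have hnat : ∀ B : Set (IrrCharacter G), ∃ n : ℕ, blockPart B (indFun H (ξ : H → ℂ)) 1 = (n : ℂ) := by
    intro B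
    rw [blockPart_sum]
    have h1 : ∀ χ : IrrCharacter G, ∃ n : ℕ, (if χ ∈ B then classInner (indFun H (ξ : H → ℂ)) (χ : G → ℂ) * (χ : G → ℂ) 1 else 0) = (n : ℂ) := by
      intro χ
      by_cases h : χ ∈ B
      · obtain ⟨m, hm⟩ := IsCharacter.inner_nat (IsIrr.isCharacter ξ.2) (isCharacter_restrict H (IsIrr.isCharacter χ.2))
        refine ⟨m * charDegree (χ : G → ℂ), ?_⟩
        rw [if_pos h, frobenius H _ (fun x g => IsIrr.isClassFunction χ.2 x g), (IsIrr.one_eq χ.2).1]
        rw [show classInner (ξ : H → ℂ) (fun h : H => (χ : G → ℂ) h) = (m : ℂ) from hm]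
        push_cast
        rfl
      · exact ⟨0, by rw [if_neg h]; simp⟩
    choose f hf using h1
    refine ⟨∑ χ, f χ, ?_⟩
    rw [Finset.sum_congr rfl fun χ _ => hf χ]
    push_cast
    rfl
  have hdeg : indFun H (ξ : H → ℂ) 1 = ((H.index * charDegree (ξ : H → ℂ) : ℕ) : ℂ) := by
    rw [indFun_one, (IsIrr.one_eq ξ.2).1]; push_cast; rfl
  have hcd : charDegree (indFun H (ξ : H → ℂ)) = H.index * charDegree (ξ : H → ℂ) := by
    unfold charDegree
    rw [hdeg]
    rw [Complex.natCast_re, Nat.floor_natCast]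
    rfl
  have hN : H.index * charDegree (ξ : H → ℂ) ≠ 0 := mul_ne_zero Subgroup.index_ne_zero_of_finite (charDegree_ne_zero ξ)
  have hB0 : IsPBlock M B₀ := hind.2.1
  obtain ⟨χ0, hχ0⟩ := IsPBlock.nonempty hB0
  have hw : ∀ B : Set (IrrCharacter G), IsPBlock M B →
      MemLocalIdeal M (om (ξ : H → ℂ) (resA H (eSet B)) - (if χ0 ∈ B then 1 else 0)) := by
    intro B hB
    have := induced_om hind hξ hχ0 (isCen_eSet B) (inS_eSet hB)
    rwa [om_eSet] at this
  have hwm : ∀ B : Set (IrrCharacter G), IsPBlock M B → MemLocalRing M (om (ξ : H → ℂ) (resA H (eSet B))) := by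
    intro B hB
    have h1 := CfsgH5.MemLocalIdeal.memLocalRing (hw B hB)
    have h2 : MemLocalRing M (if χ0 ∈ B then (1 : ℂ) else 0) := by
      split_ifs
      · exact memLocalRing_one
      · exact memLocalRing_zero
    have := MemLocalRing.add h1 h2
    rwa [sub_add_cancel] at this
  constructor
  · obtain ⟨n, hn⟩ := hnat B₀
    have h1 := hw B₀ hB0
    rw [if_pos hχ0] at h1
    have h2 : ¬ MemLocalIdeal M (om (ξ : H → ℂ) (resA H (eSet B₀))) := not_memLocalIdeal_of_sub h1 not_memLocalIdeal_one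
    have h3 := blockPart_ind H B₀ ξ
    rw [hn, hdeg] at h3
    obtain ⟨h4, h5⟩ := (val_lemma hM hN (hwm B₀ hB0) h3).1 h2
    exact ⟨n, hn, h4, by rw [h5, hcd]⟩
  · intro B hB hne
    obtain ⟨n, hn⟩ := hnat B
    have h1 := hw B hB
    have hχB : χ0 ∉ B := fun h => hne ((IsPBlock.eq_blockOf hB h).trans (IsPBlock.eq_blockOf hB0 hχ0).symm)
    rw [if_neg hχB, sub_zero] at h1
    have h3 := blockPart_ind H B ξ
    rw [hn, hdeg] at h3
    refine ⟨n, hn, ?_⟩
    rw [hcd]
    exact (val_lemma hM hN (hwm B hB) h3).2 h1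

theorem ind_eta (hM : IsPModular p M) (H : Subgroup G) [Fintype H] (b : Set (IrrCharacter H)) (B₀ : Set (IrrCharacter G))
    (hind : IsInducedBlock M H b B₀) (χ : IrrCharacter G) (ψ : IrrCharacter H) (hψ : ψ ∈ b) :
    (χ ∉ B₀ → MemLocalIdeal M (classInner (fun h : H => if p ∣ orderOf h then (0 : ℂ) else
      ((p ^ (Nat.card H).factorization p : ℕ) : ℂ) * (χ : G → ℂ) h) (ψ : H → ℂ) / (ψ : H → ℂ) 1)) ∧
    (χ ∈ B₀ → blockHeight p B₀ (χ : G → ℂ) = 0 → ¬ MemLocalIdeal M (classInner (fun h : H => if p ∣ orderOf h then (0 : ℂ) else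
      ((p ^ (Nat.card H).factorization p : ℕ) : ℂ) * (χ : G → ℂ) h) (ψ : H → ℂ) / (ψ : H → ℂ) 1)) := by
  classical
  have hB0 : IsPBlock M B₀ := hind.2.1
  have hp0 : (p : ℂ) ≠ 0 := by exact_mod_cast hp.out.ne_zero
  have h1 := Nat.ordProj_mul_ordCompl_eq_self (Nat.card H) p
  have h2 : ¬ p ∣ Nat.card H / p ^ (Nat.card H).factorization p := Nat.not_dvd_ordCompl hp.out Nat.card_pos.ne'
  set a := (Nat.card H).factorization p with ha
  set n' := Nat.card H / p ^ a with hn'
  have hinv := memLocalRing_natCast_inv hM h2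
  have hn0 : (n' : ℂ) ≠ 0 := by
    intro h5
    have : n' = 0 := by exact_mod_cast h5
    rw [this] at h2
    exact h2 (dvd_zero p)
  have hcH : (Nat.card H : ℂ) = (p : ℂ) ^ a * n' := by rw [← h1]; push_cast; rfl
  have hform : classInner (fun h : H => if p ∣ orderOf h then (0 : ℂ) else ((p ^ a : ℕ) : ℂ) * (χ : G → ℂ) h) (ψ : H → ℂ) /
      (ψ : H → ℂ) 1 = (n' : ℂ)⁻¹ * om (ψ : H → ℂ) (resA H (zreg p (χ : G → ℂ))) := by
    rw [resA_zreg, om_zreg (isCharacter_restrict H (IsIrr.isCharacter χ.2)),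
      regInner_symm (IsIrr.isCharacter ψ.2) (isCharacter_restrict H (IsIrr.isCharacter χ.2))]
    have h3 : classInner (fun h : H => if p ∣ orderOf h then (0 : ℂ) else ((p ^ a : ℕ) : ℂ) * (χ : G → ℂ) h) (ψ : H → ℂ) =
        (Nat.card H : ℂ)⁻¹ * ((p : ℂ) ^ a * regInner p (fun h : H => (χ : G → ℂ) h) (ψ : H → ℂ)) := by
      rw [classInner_def, regInner]
      congr 1
      rw [Finset.mul_sum]
      refine Finset.sum_congr rfl fun x _ => ?_
      by_cases h : p ∣ orderOf x
      · simp only [if_pos h]; ring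
      · simp only [if_neg h]; push_cast; ring
    rw [h3, hcH]
    field_simp
  have hz : InS M (zreg p (χ : G → ℂ)) := inS_zreg fun x => memLocalRing_char (IsIrr.isCharacter χ.2) x
  have hc : IsCen (zreg p (χ : G → ℂ)) := isCen_zreg (IsIrr.isClassFunction χ.2)
  constructor
  · intro hχ
    obtain ⟨χ0, hχ0⟩ := IsPBlock.nonempty hB0
    have h3 := induced_om hind hψ hχ0 hc hz
    rw [om_zreg_eq_zero hM hB0 hχ0 hχ, sub_zero] at h3
    rw [hform]
    exact MemLocalIdeal.mul_left hinv h3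
  · intro hχ hh hmem
    have h3 := induced_om hind hψ hχ hc hz
    have h4 : ¬ MemLocalIdeal M (om (χ : G → ℂ) (zreg p (χ : G → ℂ))) := by
      obtain ⟨n, hn1, hn2⟩ := exists_contr hM hχ χ
      obtain ⟨A, hA, -, -, -, -, -, -, h8, -, -⟩ := contr hM hB0 hχ
      intro h5
      apply h8 χ hχ hh
      have h6 := hA χ
      rw [hn1] at h6
      have h0 : (Nat.card G : ℂ) ≠ 0 := card_ne_zero G
      have h7 := mul_left_cancel₀ h0 h6
      have h9 : (p : ℤ) ^ blockHeight p B₀ (χ : G → ℂ) * n = A χ := by exact_mod_cast h7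
      rw [← h9, pow_succ]
      exact mul_dvd_mul_left _ (hn2.2 h5)
    rw [hform] at hmem
    have h5 := MemLocalIdeal.mul_left (memLocalRing_natCast (M := M) n') hmem
    rw [← mul_assoc, mul_inv_cancel₀ hn0, one_mul] at h5
    have h6 := MemLocalIdeal.sub h5 h3
    rw [sub_sub_cancel] at h6
    exact h4 h6

end Ind

end CfsgQk
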