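import Cfsg.Agent.H4.Qk5

set_option autoImplicit false
set_option linter.all false

/-! # Dominated blocks and their defect groups -/

open Cfsg MonoidAlgebra
open CfsgH4 hiding centralChar sum_conj regInner_symm
open CfsgH5 hiding ev_ca
open ComplexConjugate

namespace CfsgQk

section Dom

variable {G : Type*} [Group G] [Fintype G] {M : Ideal AlgInt} [hMp : M.IsPrime] {p : ℕ} [hp : Fact p.Prime]
variable (N : Subgroup G) [hN : N.Normal]

theorem centralChar_infl (χ : IrrCharacter (G ⧸ N)) (g : G) {c : ℕ}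
    (hc : (Subgroup.centralizer ({g} : Set G)).index = (Subgroup.centralizer ({(g : G ⧸ N)} : Set (G ⧸ N))).index * c) :
    centralChar (inflI N χ : G → ℂ) g = (c : ℂ) * centralChar (χ : G ⧸ N → ℂ) (g : G ⧸ N) := by
  unfold Cfsg.centralChar
  rw [inflI_apply, inflI_apply, hc]
  push_cast
  rw [show ((1 : G) : G ⧸ N) = 1 from rfl]
  ring

/-- nonvanishing passes down -/
theorem ne_infl (hM : IsPModular p M) {χ : IrrCharacter (G ⧸ N)} {g : G}
    (h : ¬ MemLocalIdeal M (centralChar (inflI N χ : G → ℂ) g)) :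
    ¬ MemLocalIdeal M (centralChar (χ : G ⧸ N → ℂ) (g : G ⧸ N)) ∧
    (Subgroup.centralizer ({g} : Set G)).index.factorization p =
      (Subgroup.centralizer ({(g : G ⧸ N)} : Set (G ⧸ N))).index.factorization p := by
  obtain ⟨c, hc⟩ := index_centralizer_mk_dvd N g
  rw [centralChar_infl N χ g hc] at h
  have h1 : ¬ p ∣ c := fun h2 => h (MemLocalIdeal.mul_right ((memLocalIdeal_natCast_iff hM c).2 h2) (memLocalRing_centralChar χ.2 _))
  refine ⟨fun h2 => h (MemLocalIdeal.mul_left (memLocalRing_natCast c) h2), ?_⟩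
  have hc0 : c ≠ 0 := by
    rintro rfl
    exact h1 (dvd_zero p)
  rw [hc, Nat.factorization_mul Subgroup.index_ne_zero_of_finite hc0, Finsupp.add_apply,
    Nat.factorization_eq_zero_of_not_dvd h1, add_zero]

theorem syl_map {g : G} {P : Subgroup G} (hP : IsSyl p (Subgroup.centralizer ({g} : Set G)) P)
    (hv : (Subgroup.centralizer ({g} : Set G)).index.factorization p =
      (Subgroup.centralizer ({(g : G ⧸ N)} : Set (G ⧸ N))).index.factorization p) :
    IsSyl p (Subgroup.centralizer ({(g : G ⧸ N)} : Set (G ⧸ N))) (P.map (QuotientGroup.mk' N)) := by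
  have hle : P.map (QuotientGroup.mk' N) ≤ Subgroup.centralizer ({(g : G ⧸ N)} : Set (G ⧸ N)) := by
    rintro _ ⟨x, hx, rfl⟩
    have h1 := hP.1 hx
    rw [Subgroup.mem_centralizer_singleton_iff] at h1 ⊢
    show ((x : G) : G ⧸ N) * (g : G ⧸ N) = (g : G ⧸ N) * ((x : G) : G ⧸ N)
    rw [← QuotientGroup.mk_mul, h1, QuotientGroup.mk_mul]
  refine ⟨hle, ?_⟩
  have hpg : IsPGroup p (P.map (QuotientGroup.mk' N)) := hP.isPGroup.map _
  obtain ⟨k, hk⟩ := (IsPGroup.iff_card (p := p)).1 hpg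
  rw [hk]
  congr 1
  -- upper bound
  have h1 : k ≤ (Nat.card (Subgroup.centralizer ({(g : G ⧸ N)} : Set (G ⧸ N)))).factorization p := by
    have := Subgroup.card_dvd_of_le hle
    rw [hk] at this
    exact (hp.out.pow_dvd_iff_le_factorization Nat.card_pos.ne').1 this
  -- lower bound
  have h2 : Nat.card P = Nat.card (P.map (QuotientGroup.mk' N)) * Nat.card (N.subgroupOf P) := by
    have h3 := Subgroup.card_eq_card_quotient_mul_card_subgroup (N.subgroupOf P)
    rw [h3]
    congr 1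
    let f : P →* (G ⧸ N) := (QuotientGroup.mk' N).comp P.subtype
    have hker : f.ker = N.subgroupOf P := by
      ext x
      rw [MonoidHom.mem_ker, Subgroup.mem_subgroupOf]
      show ((x : G) : G ⧸ N) = 1 ↔ _
      exact QuotientGroup.eq_one_iff _
    have hrange : f.range = P.map (QuotientGroup.mk' N) := by
      rw [MonoidHom.range_comp, Subgroup.range_subtype]
    rw [← hker, ← hrange]
    exact Nat.card_congr (QuotientGroup.quotientKerEquivRange f).toEquiv
  have h3 : Nat.card (N.subgroupOf P) ∣ Nat.card N := by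
    have h4 : Nat.card (N.subgroupOf P) = Nat.card (N ⊓ P : Subgroup G) := by
      rw [← Subgroup.inf_subgroupOf_right]
      exact Nat.card_congr (Subgroup.subgroupOfEquivOfLe inf_le_right).toEquiv
    rw [h4]
    exact Subgroup.card_dvd_of_le inf_le_left
  have h4 : (Nat.card P).factorization p = k + (Nat.card (N.subgroupOf P)).factorization p := by
    rw [h2, Nat.factorization_mul Nat.card_pos.ne' Nat.card_pos.ne', Finsupp.add_apply, hk, Nat.factorization_pow,
      Finsupp.smul_apply, hp.out.factorization_self, smul_eq_mul, mul_one]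
  have h5 : (Nat.card (N.subgroupOf P)).factorization p ≤ (Nat.card N).factorization p :=
    (Nat.factorization_le_iff_dvd Nat.card_pos.ne' Nat.card_pos.ne').2 h3 p
  have h6 : (Nat.card P).factorization p = (Nat.card (Subgroup.centralizer ({g} : Set G))).factorization p := by
    rw [hP.2, Nat.factorization_pow, Finsupp.smul_apply, hp.out.factorization_self, smul_eq_mul, mul_one]
  have h7 : (Nat.card G).factorization p = (Subgroup.centralizer ({g} : Set G)).index.factorization p +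
      (Nat.card (Subgroup.centralizer ({g} : Set G))).factorization p := by
    rw [← (Subgroup.centralizer ({g} : Set G)).index_mul_card,
      Nat.factorization_mul Subgroup.index_ne_zero_of_finite Nat.card_pos.ne', Finsupp.add_apply]
  have h8 : (Nat.card (G ⧸ N)).factorization p = (Subgroup.centralizer ({(g : G ⧸ N)} : Set (G ⧸ N))).index.factorization p +
      (Nat.card (Subgroup.centralizer ({(g : G ⧸ N)} : Set (G ⧸ N)))).factorization p := by
    rw [← (Subgroup.centralizer ({(g : G ⧸ N)} : Set (G ⧸ N))).index_mul_card,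
      Nat.factorization_mul Subgroup.index_ne_zero_of_finite Nat.card_pos.ne', Finsupp.add_apply]
  have h9 : (Nat.card G).factorization p = (Nat.card (G ⧸ N)).factorization p + (Nat.card N).factorization p := by
    rw [Subgroup.card_eq_card_quotient_mul_card_subgroup N,
      Nat.factorization_mul Nat.card_pos.ne' Nat.card_pos.ne', Finsupp.add_apply]
  omega

theorem map_cj (x : G) (P : Subgroup G) : (cj x P).map (QuotientGroup.mk' N) = cj (x : G ⧸ N) (P.map (QuotientGroup.mk' N)) := by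
  ext y
  constructor
  · rintro ⟨u, hu, rfl⟩
    have h1 : x⁻¹ * u * x ∈ P := mem_cj.1 hu
    refine mem_cj.2 ⟨_, h1, ?_⟩
    rfl
  · intro hy
    obtain ⟨u, hu, hu'⟩ := mem_cj.1 hy
    refine ⟨x * u * x⁻¹, mem_cj.2 ?_, ?_⟩
    · rw [show x⁻¹ * (x * u * x⁻¹) * x = u by group]; exact hu
    · have h2 : ((u : G) : G ⧸ N) = (x : G ⧸ N)⁻¹ * y * (x : G ⧸ N) := hu'
      show ((x * u * x⁻¹ : G) : G ⧸ N) = y
      rw [QuotientGroup.mk_mul, QuotientGroup.mk_mul, h2, QuotientGroup.mk_inv]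
      group

theorem dom_le (hM : IsPModular p M) (Bbar : Set (IrrCharacter (G ⧸ N))) (hBbar : IsPBlock M Bbar)
    (B : Set (IrrCharacter G)) (hB : IsPBlock M B)
    (hsub : ∀ χ ∈ Bbar, ∀ ψ : IrrCharacter G, (ψ : G → ℂ) = (χ : G ⧸ N → ℂ) ∘ QuotientGroup.mk → ψ ∈ B)
    (Dbar : Subgroup (G ⧸ N)) (hDbar : IsDefectGroup p M Bbar Dbar) :
    ∃ P : Subgroup G, IsDefectGroup p M B P ∧ Dbar ≤ P.map (QuotientGroup.mk' N) := by
  obtain ⟨D, hD⟩ := exists_defectGroup hM hB
  obtain ⟨g, hg, hgS⟩ := isDefectGroup_iff.1 hD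
  obtain ⟨χ, hχ⟩ := IsPBlock.nonempty hBbar
  have h1 : inflI N χ ∈ B := hsub χ hχ _ rfl
  have h2 := ne_infl N hM (hg.2.2 _ h1)
  have h3 := syl_map N hgS h2.2
  obtain ⟨x, hx, hxD⟩ := defect_le_centralizer hM hBbar hDbar hχ h2.1
  obtain ⟨c, hc⟩ := isConj_iff.1 hx.symm
  have h4 : cj c Dbar ≤ Subgroup.centralizer ({(g : G ⧸ N)} : Set (G ⧸ N)) := by
    have := cj_mono (x := c) hxD
    rwa [cj_centralizer_singleton, hc] at this
  have h5 : IsPGroup p (cj c Dbar) := CfsgH5.IsDefectGroup.isPGroup (defect_cj hDbar c)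
  obtain ⟨u, -, hu⟩ := h3.conj_le h5 h4
  obtain ⟨y, hy⟩ := QuotientGroup.mk_surjective (u * c)⁻¹
  refine ⟨cj y D, defect_cj hD y, ?_⟩
  rw [map_cj, hy, ← cj_le_iff (x := u * c), ← cj_cj]
  exact hu

open Classical in
theorem blockCoeff_push (B : Set (IrrCharacter G)) (g : G) :
    blockCoeff {χ : IrrCharacter (G ⧸ N) | inflI N χ ∈ B} (g : G ⧸ N) = ∑ n : N, blockCoeff B (g * n) := by
  haveI : Fintype (G ⧸ N) := Fintype.ofFinite _
  -- `∑_n χ(n⁻¹ g⁻¹)` vanishes unless `N` is in the kernel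
  let z : MonoidAlgebra ℂ (G ⧸ N) := mkA fun x => ∑ y : G, if (y : G ⧸ N) = x then blockCoeff B y else 0
  have hzc : ∀ y, z.coeff y = ∑ w : G, if (w : G ⧸ N) = y then blockCoeff B w else 0 := fun y => rfl
  have hcen : IsCen z := by
    intro x y
    rw [hzc, hzc]
    obtain ⟨x', rfl⟩ := QuotientGroup.mk_surjective x
    refine Fintype.sum_equiv (MulAut.conj x'⁻¹).toEquiv _ _ fun w => ?_
    show _ = if ((x'⁻¹ * w * x'⁻¹⁻¹ : G) : G ⧸ N) = y then blockCoeff B (x'⁻¹ * w * x'⁻¹⁻¹) else 0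
    have h1 : blockCoeff B (x'⁻¹ * w * x'⁻¹⁻¹) = blockCoeff B w :=
      (blockCoeff_conj B (isConj_iff.2 ⟨x'⁻¹, rfl⟩)).symm
    have h2 : ((x'⁻¹ * w * x'⁻¹⁻¹ : G) : G ⧸ N) = y ↔ (w : G ⧸ N) = (x' : G ⧸ N) * y * (x' : G ⧸ N)⁻¹ := by
      simp only [QuotientGroup.mk_mul, QuotientGroup.mk_inv, inv_inv]
      constructor
      · rintro rfl; group
      · intro h; rw [h]; group
    rw [h1]
    by_cases h3 : (w : G ⧸ N) = (x' : G ⧸ N) * y * (x' : G ⧸ N)⁻¹
    · rw [if_pos h3, if_pos (h2.2 h3)]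
    · rw [if_neg h3, if_neg (fun h => h3 (h2.1 h))]
  have hz : z = eSet {χ : IrrCharacter (G ⧸ N) | inflI N χ ∈ B} := by
    refine cen_ext hcen (isCen_eSet _) fun χ => ?_
    rw [om_eSet]
    have h1 : om (χ : G ⧸ N → ℂ) z = om (inflI N χ : G → ℂ) (eSet B) := by
      rw [om, om, ev_eq_sum, ev_eq_sum]
      congr 1
      simp only [hzc, coeff_eSet]
      have h2 : ∀ x : G ⧸ N, (∑ w : G, if (w : G ⧸ N) = x then blockCoeff B w else 0) * (χ : G ⧸ N → ℂ) x =
          ∑ w : G, if (w : G ⧸ N) = x then blockCoeff B w * (χ : G ⧸ N → ℂ) x else 0 := by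
        intro x
        rw [Finset.sum_mul]
        refine Finset.sum_congr rfl fun w _ => ?_
        by_cases h : (w : G ⧸ N) = x
        · rw [if_pos h, if_pos h]
        · rw [if_neg h, if_neg h, zero_mul]
      simp only [h2]
      rw [Finset.sum_comm]
      refine Finset.sum_congr rfl fun w _ => ?_
      rw [Finset.sum_ite_eq]
      simp only [Finset.mem_univ, if_true]
      rfl
    rw [h1, om_eSet]
    rfl
  have h3 : blockCoeff {χ : IrrCharacter (G ⧸ N) | inflI N χ ∈ B} (g : G ⧸ N) = z.coeff (g : G ⧸ N) := by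
    rw [hz]; rfl
  rw [h3, hzc, ← Finset.sum_filter]
  symm
  refine Finset.sum_bij (fun n _ => g * (n : G)) (fun n _ => ?_) ?_ ?_ (fun n _ => rfl)
  · rw [Finset.mem_filter]
    refine ⟨Finset.mem_univ _, ?_⟩
    rw [QuotientGroup.mk_mul, (QuotientGroup.eq_one_iff (n : G)).2 n.2, mul_one]
  · intro a _ b _ h
    exact Subtype.ext (mul_left_cancel h)
  · intro w hw
    have h4 := (Finset.mem_filter.1 hw).2
    refine ⟨⟨g⁻¹ * w, QuotientGroup.eq.1 h4.symm⟩, Finset.mem_univ _, ?_⟩
    show g * (g⁻¹ * w) = w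
    group

end Dom

end CfsgQk
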