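import Cfsg.Agent.H4.Qk6

set_option autoImplicit false
set_option linter.all false

/-! # Blocks of `G/N` for a normal `p`-subgroup `N` -/

open Cfsg MonoidAlgebra
open CfsgH4 hiding centralChar sum_conj regInner_symm
open CfsgH5 hiding ev_ca
open ComplexConjugate

namespace CfsgQk

section DomP

variable {G : Type*} [Group G] [Fintype G] {M : Ideal AlgInt} [hMp : M.IsPrime] {p : ℕ} [hp : Fact p.Prime]
variable (N : Subgroup G) [hN : N.Normal]

/-- a union of blocks has a block with nonvanishing coefficient -/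
theorem exists_block_coeff {A : Set (IrrCharacter G)}
    (hA : ∀ χ ∈ A, ∀ ψ : IrrCharacter G, SameBlock M (χ : G → ℂ) (ψ : G → ℂ) → ψ ∈ A) {g : G}
    (hne : ¬ MemLocalIdeal M (blockCoeff A g)) :
    ∃ b : Set (IrrCharacter G), IsPBlock M b ∧ b ⊆ A ∧ ¬ MemLocalIdeal M (blockCoeff b g) := by
  classical
  by_contra hcon
  push Not at hcon
  apply hne
  haveI : Fintype {b : Set (IrrCharacter G) // IsPBlock M b ∧ b ⊆ A} := Fintype.ofFinite _
  have h1 : blockCoeff A g = ∑ b : {b : Set (IrrCharacter G) // IsPBlock M b ∧ b ⊆ A}, blockCoeff b.1 g := by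
    simp only [blockCoeff_eq]
    rw [← Finset.mul_sum, Finset.sum_comm]
    congr 1
    refine Finset.sum_congr rfl fun χ _ => ?_
    by_cases h : χ ∈ A
    · have hsub : blockOf M (χ : G → ℂ) ⊆ A := fun ψ hψ => hA χ h ψ hψ
      rw [if_pos h, Finset.sum_eq_single (⟨blockOf M (χ : G → ℂ), isPBlock_blockOf χ, hsub⟩ : {b : Set (IrrCharacter G) // IsPBlock M b ∧ b ⊆ A})]
      · rw [if_pos (mem_blockOf_self χ)]
      · intro b _ hb
        rw [if_neg]
        intro h2
        exact hb (Subtype.ext (IsPBlock.eq_blockOf b.2.1 h2))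
      · intro h2; exact absurd (Finset.mem_univ _) h2
    · rw [if_neg h]
      symm
      refine Finset.sum_eq_zero fun b _ => ?_
      rw [if_neg]
      intro h2
      exact h (b.2.2 h2)
  rw [h1]
  exact memLocalIdeal_sum _ _ fun b _ => hcon b.1 b.2.1 b.2.2

theorem dom_p (hM : IsPModular p M) (hNp : IsPGroup p N) (B : Set (IrrCharacter G)) (hB : IsPBlock M B) :
    ∃ Bbar : Set (IrrCharacter (G ⧸ N)), IsPBlock M Bbar ∧
      (∀ χ ∈ Bbar, ∀ ψ : IrrCharacter G, (ψ : G → ℂ) = (χ : G ⧸ N → ℂ) ∘ QuotientGroup.mk → ψ ∈ B) ∧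
      ∀ Dbar : Subgroup (G ⧸ N), IsDefectGroup p M Bbar Dbar ↔ ∃ P : Subgroup G, IsDefectGroup p M B P ∧
        Dbar = P.map (QuotientGroup.mk' N) := by
  classical
  haveI : Fintype (G ⧸ N) := Fintype.ofFinite _
  obtain ⟨D, hD⟩ := exists_defectGroup hM hB
  obtain ⟨g, hg, hgS⟩ := isDefectGroup_iff.1 hD
  have hND : N ≤ D := normal_le_defect hM hB hD hNp
  have hreg := regular_of_blockCoeff hM (inS_eSet hB) hg.2.1
  have hcomm : ∀ n ∈ N, n * g = g * n := fun n hn => by
    have := hgS.1 (hND hn)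
    rwa [Subgroup.mem_centralizer_singleton_iff] at this
  have hcoeff : blockCoeff {χ : IrrCharacter (G ⧸ N) | inflI N χ ∈ B} (g : G ⧸ N) = blockCoeff B g := by
    rw [blockCoeff_push, Finset.sum_eq_single 1]
    · rw [Subgroup.coe_one, mul_one]
    · intro n _ hn
      apply blockCoeff_singular hM (inS_eSet hB)
      obtain ⟨k, hk⟩ := (IsPGroup.iff_orderOf.1 hNp) n
      have hk0 : k ≠ 0 := by
        rintro rfl
        rw [pow_zero] at hk
        exact hn (orderOf_eq_one_iff.1 hk)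
      have hpn : p ∣ orderOf (n : G) := by
        rw [Subgroup.orderOf_coe, hk]
        exact dvd_pow_self p hk0
      have hc : Commute g (n : G) := (hcomm n n.2).symm
      have hcop : (orderOf g).Coprime (orderOf (n : G)) := by
        rw [Subgroup.orderOf_coe, hk]
        exact Nat.Coprime.pow_right _ ((Nat.Prime.coprime_iff_not_dvd hp.out).2 hreg).symm
      rw [hc.orderOf_mul_eq_mul_orderOf_of_coprime hcop]
      exact hpn.mul_left _
    · intro h; exact absurd (Finset.mem_univ _) h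
  have hne : ¬ MemLocalIdeal M (blockCoeff {χ : IrrCharacter (G ⧸ N) | inflI N χ ∈ B} (g : G ⧸ N)) := by
    rw [hcoeff]; exact hg.2.1
  obtain ⟨b, hb, hbA, hbg⟩ := exists_block_coeff (M := M) (fun χ hχ ψ h => by
    have h1 := sameBlock_infl N h
    exact (IsPBlock.mem_iff hB hχ).2 h1) hne
  have hsub : ∀ χ ∈ b, ∀ ψ : IrrCharacter G, (ψ : G → ℂ) = (χ : G ⧸ N → ℂ) ∘ QuotientGroup.mk → ψ ∈ B := by
    intro χ hχ ψ hψ
    have h1 : ψ = inflI N χ := Subtype.ext hψ
    rw [h1]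
    exact hbA hχ
  obtain ⟨χ, hχ⟩ := IsPBlock.nonempty hb
  have h2 := ne_infl N hM (hg.2.2 _ (hbA hχ))
  have h3 := syl_map N hgS h2.2
  have hD0 : IsDefectGroup p M b (D.map (QuotientGroup.mk' N)) :=
    isDefectGroup_iff.2 ⟨(g : G ⧸ N), (isDefectClass_iff hb).2 ⟨hbg, χ, hχ, h2.1⟩, h3⟩
  refine ⟨b, hb, hsub, fun Dbar => ⟨fun hDbar => ?_, ?_⟩⟩
  · obtain ⟨x, hx⟩ := defect_conj hM hb hDbar hD0
    obtain ⟨y, rfl⟩ := QuotientGroup.mk_surjective x
    exact ⟨cj y D, defect_cj hD y, by rw [map_cj]; exact hx.symm⟩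
  · rintro ⟨P, hP, rfl⟩
    obtain ⟨y, hy⟩ := defect_conj hM hB hP hD
    rw [← hy, map_cj]
    exact defect_cj hD0 _

end DomP

end CfsgQk
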