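import Cfsg.Agent.H4.Qk7

set_option autoImplicit false
set_option linter.all false

/-! # Galois-fixed characters over a normal subgroup of `p'`-index -/

open Cfsg MonoidAlgebra
open CfsgH4 hiding centralChar sum_conj regInner_symm
open CfsgH5 hiding ev_ca
open ComplexConjugate

namespace CfsgQk

section Gal

variable {G : Type*} [Group G] [Fintype G] (N : Subgroup G) [hN : N.Normal] [Fintype N]

/-- the power twist of an irreducible character -/
noncomputable def pwI {k : ℕ} (hk : k.Coprime (Nat.card N)) (θ : IrrCharacter N) : IrrCharacter N :=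
  ⟨fun n => (θ : N → ℂ) (n ^ k), isIrrCharacter_pow_arg hk θ.2⟩

theorem pwI_apply {k : ℕ} (hk : k.Coprime (Nat.card N)) (θ : IrrCharacter N) (n : N) :
    (pwI N hk θ : N → ℂ) n = (θ : N → ℂ) (n ^ k) := rfl

theorem pwI_iter {k : ℕ} (hk : k.Coprime (Nat.card N)) (θ : IrrCharacter N) (j : ℕ) (n : N) :
    (((pwI N hk)^[j] θ : IrrCharacter N) : N → ℂ) n = (θ : N → ℂ) (n ^ (k ^ j)) := by
  induction j generalizing n with
  | zero => simp
  | succ j ih =>
    rw [Function.iterate_succ_apply', pwI_apply, ih, ← pow_mul, pow_succ, mul_comm]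

theorem pwI_cjI {k : ℕ} (hk : k.Coprime (Nat.card N)) (θ : IrrCharacter N) (g : G) :
    pwI N hk (cjI N g θ) = cjI N g (pwI N hk θ) := by
  refine Subtype.ext (funext fun n => ?_)
  rw [pwI_apply, cjI_apply, cjI_apply, pwI_apply]
  refine congrArg (θ : N → ℂ) (Subtype.ext ?_)
  show g * ((n : G) ^ k) * g⁻¹ = (g * (n : G) * g⁻¹) ^ k
  exact (conj_pow (a := g) (b := (n : G)) (i := k)).symm

theorem cjI_mem (θ : IrrCharacter N) {n : G} (hn : n ∈ N) : cjI N n θ = θ := by
  refine Subtype.ext (funext fun m => ?_)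
  rw [cjI_apply]
  have := IsIrr.isClassFunction θ.2 m (⟨n, hn⟩ : N)
  rw [← this]
  rfl

theorem fixed_below {p : ℕ} [hp : Fact p.Prime] (hidx : ¬ p ∣ N.index) (k e : ℕ) (hk : Nat.Coprime k (Nat.card G))
    (hke : k ^ (p ^ e) ≡ 1 [MOD Nat.card G]) (χ : IrrCharacter G) (hχ : ∀ g : G, (χ : G → ℂ) (g ^ k) = (χ : G → ℂ) g)
    (θ : IrrCharacter N) (hθ : classInner (fun n : N => (χ : G → ℂ) n) (θ : N → ℂ) ≠ 0) :
    ∀ n : N, (θ : N → ℂ) (n ^ k) = (θ : N → ℂ) n := by
  have hkN : k.Coprime (Nat.card N) := Nat.Coprime.coprime_dvd_right (Subgroup.card_subgroup_dvd_card N) hk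
  -- the twist is again a constituent
  have h1 : classInner (fun n : N => (χ : G → ℂ) n) (pwI N hkN θ : N → ℂ) ≠ 0 := by
    have h2 : classInner (fun n : N => (χ : G → ℂ) n) (pwI N hkN θ : N → ℂ) =
        classInner (fun n : N => (χ : G → ℂ) n) (θ : N → ℂ) := by
      rw [classInner_def, classInner_def]
      congr 1
      rw [← sum_pow_eq hkN (fun n : N => (χ : G → ℂ) n * conj ((θ : N → ℂ) n))]
      refine Finset.sum_congr rfl fun n _ => ?_
      rw [Subgroup.coe_pow, hχ, pwI_apply]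
    rw [h2]; exact hθ
  obtain ⟨g, hg⟩ := clifford' hθ h1
  have hiter : ∀ j : ℕ, (pwI N hkN)^[j] θ = cjI N (g ^ j) θ := by
    intro j
    induction j with
    | zero => rw [Function.iterate_zero, id, pow_zero, cjI_one]
    | succ j ih => rw [Function.iterate_succ_apply', ih, pwI_cjI, hg, cjI_mul, ← pow_succ']
  have hfix : cjI N (g ^ (p ^ e)) θ = θ := by
    rw [← hiter]
    refine Subtype.ext (funext fun n => ?_)
    rw [pwI_iter]
    congr 1
    have h3 : k ^ (p ^ e) ≡ 1 [MOD orderOf n] := by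
      refine hke.of_dvd ?_
      rw [← Subgroup.orderOf_coe]
      exact orderOf_dvd_natCard (n : G)
    have h4 := (pow_eq_pow_iff_modEq (x := n)).2 h3
    rw [h4, pow_one]
  have hfixs : ∀ s : ℕ, cjI N ((g ^ (p ^ e)) ^ s) θ = θ := by
    intro s
    induction s with
    | zero => rw [pow_zero, cjI_one]
    | succ s ih => rw [pow_succ, ← cjI_mul, ih, hfix]
  have hcop : (p ^ e).Coprime (orderOf (g : G ⧸ N)) := by
    apply Nat.Coprime.pow_left
    rw [Nat.Prime.coprime_iff_not_dvd hp.out]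
    intro h
    exact hidx (h.trans (orderOf_dvd_natCard _))
  obtain ⟨s, hs⟩ := exists_pow_eq_self_of_coprime hcop
  have h5 : g⁻¹ * (g ^ (p ^ e)) ^ s ∈ N := by
    rw [← QuotientGroup.eq, QuotientGroup.mk_pow, QuotientGroup.mk_pow]
    exact hs.symm
  have h6 := hfixs s
  rw [show (g ^ (p ^ e)) ^ s = g * (g⁻¹ * (g ^ (p ^ e)) ^ s) by group, ← cjI_mul, cjI_mem N _ h5] at h6
  rw [h6] at hg
  intro n
  have h7 := congrArg (fun t : IrrCharacter N => (t : N → ℂ) n) hg
  exact h7

end Gal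

end CfsgQk
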