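import Cfsg.Agent.H4.Cov5
import Cfsg.Agent.H4.Dec2

/-!
# Galois-stable blocks for `p = 2`
-/

set_option autoImplicit false

open Cfsg MonoidAlgebra
open CfsgH4 hiding centralChar sum_conj
open CfsgH5 ComplexConjugate

namespace CfsgH4

section PowB

variable {G : Type*} [Group G] [Finite G]

theorem centralizer_pow_coprime {k : ℕ} (hk : Nat.Coprime k (Nat.card G)) (g : G) :
    Subgroup.centralizer ({g ^ k} : Set G) = Subgroup.centralizer ({g} : Set G) := by
  obtain ⟨m, hm⟩ := exists_pow_eq_self_of_coprime (x := g) (n := k)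
    (Nat.Coprime.coprime_dvd_right (orderOf_dvd_natCard g) hk)
  ext x
  rw [Subgroup.mem_centralizer_singleton_iff, Subgroup.mem_centralizer_singleton_iff]
  constructor
  · intro h
    have h1 : Commute x (g ^ k) := h
    have h2 := h1.pow_right m
    rw [hm] at h2
    exact h2
  · intro h
    have h1 : Commute x g := h
    exact h1.pow_right k

theorem sameBlock_pow {M : Ideal AlgInt} {k : ℕ} (hk : Nat.Coprime k (Nat.card G))
    {χ ψ χ' ψ' : G → ℂ} (h : SameBlock M χ ψ) (h1 : ∀ g, χ' g = χ (g ^ k))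
    (h2 : ∀ g, ψ' g = ψ (g ^ k)) : SameBlock M χ' ψ' := by
  intro g
  have h3 := h (g ^ k)
  unfold Cfsg.centralChar at h3 ⊢
  rw [centralizer_pow_coprime hk g] at h3
  rw [h1 g, h2 g, h1 1, h2 1, one_pow]
  exact h3

end PowB

section Stab

variable {G : Type*} [Group G] [Finite G] {M : Ideal AlgInt} [hMp : M.IsPrime]

theorem sum_invol (hM : IsPModular 2 M) {S : Subgroup G} (hS : IsPGroup 2 S) {h : G → kk M}
    (hinv : ∀ x ∈ S, ∀ g, h (x * g * x⁻¹) = h g)
    (hreal : ∀ g ∈ cz S, ¬ 2 ∣ orderOf g → h g⁻¹ = h g)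
    (hsing : ∀ g, 2 ∣ orderOf g → h g = 0) : aug (mkA h) = h 1 := by
  classical
  haveI := Fintype.ofFinite G
  haveI : CharP (kk M) 2 := charP_kk hM
  haveI : Fact (Nat.Prime 2) := ⟨Nat.prime_two⟩
  have hfx : Fx S (mkA h) := fun x hx g => by
    rw [coeff_mkA, coeff_mkA]; exact hinv x hx g
  rw [← aug_br hS hfx, aug_eq, ← Finset.add_sum_erase _ _ (Finset.mem_univ (1 : G))]
  have h1 : (br S (mkA h)).coeff (1 : G) = h 1 := by
    rw [coeff_br, if_pos (Subgroup.one_mem _), coeff_mkA]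
  have h2 : ∑ g ∈ Finset.univ.erase (1 : G), (br S (mkA h)).coeff g = 0 := by
    refine Finset.sum_involution (fun g _ => g⁻¹) ?_ ?_ ?_ ?_
    · intro g _
      rw [coeff_br, coeff_br]
      by_cases hg : g ∈ cz S
      · rw [if_pos hg, if_pos (inv_mem hg), coeff_mkA, coeff_mkA]
        by_cases hs : 2 ∣ orderOf g
        · rw [hsing g hs, hsing g⁻¹ (by rwa [orderOf_inv]), add_zero]
        · rw [hreal g hg hs]
          exact CharTwo.add_self_eq_zero _
      · rw [if_neg hg, if_neg (fun h' => hg (by simpa using inv_mem h')), add_zero]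
    · intro g hg hne he
      apply hne
      rw [coeff_br]
      split_ifs
      · rw [coeff_mkA]
        apply hsing
        have h3 : g ^ 2 = 1 := by
          rw [pow_two]
          nth_rewrite 1 [← he]
          exact inv_mul_cancel g
        have h4 : orderOf g ∣ 2 := orderOf_dvd_of_pow_eq_one h3
        rcases (Nat.dvd_prime Nat.prime_two).1 h4 with h5 | h5
        · exact absurd (orderOf_eq_one_iff.1 h5) (Finset.mem_erase.1 hg).1
        · rw [h5]
      · rfl
    · intro g hg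
      rw [Finset.mem_erase] at hg ⊢
      exact ⟨inv_ne_one.2 hg.1, Finset.mem_univ _⟩
    · intro g _
      exact inv_inv g
  rw [h1, h2, add_zero]

theorem blockCoeff_pow {k : ℕ} (hk : Nat.Coprime k (Nat.card G)) {B : Set (IrrCharacter G)}
    (hstab : ∀ χ ∈ B, ∃ ψ ∈ B, ∀ g : G, (ψ : G → ℂ) g = (χ : G → ℂ) (g ^ k)) (g : G) :
    blockCoeff B (g ^ k) = blockCoeff B g := by
  classical
  haveI := Fintype.ofFinite G
  have hsub : ∀ g : G, blockCoeff B g = (Nat.card G : ℂ)⁻¹ *
      ∑ χ : {χ : IrrCharacter G // χ ∈ B}, (χ.1 : G → ℂ) 1 * (χ.1 : G → ℂ) g⁻¹ := by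
    intro g
    rw [blockCoeff_eq]
    congr 1
    rw [← Finset.sum_filter]
    exact (Finset.sum_subtype _ (fun x => by simp) _)
  choose Φ hΦ using fun χ : {χ : IrrCharacter G // χ ∈ B} => hstab χ.1 χ.2
  let F : {χ : IrrCharacter G // χ ∈ B} → {χ : IrrCharacter G // χ ∈ B} := fun χ => ⟨Φ χ, (hΦ χ).1⟩
  have hF : Function.Injective F := by
    intro χ ψ h
    apply Subtype.ext
    apply Subtype.ext
    funext g
    obtain ⟨m, hm⟩ := exists_pow_eq_self_of_coprime (x := g) (n := k)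
      (Nat.Coprime.coprime_dvd_right (orderOf_dvd_natCard g) hk)
    have h1 : ∀ g : G, (χ.1 : G → ℂ) (g ^ k) = (ψ.1 : G → ℂ) (g ^ k) := by
      intro g
      rw [← (hΦ χ).2 g, ← (hΦ ψ).2 g]
      have : Φ χ = Φ ψ := congrArg Subtype.val h
      rw [this]
    have h2 := h1 (g ^ m)
    rwa [← pow_mul, mul_comm, pow_mul, hm] at h2
  have hFb : Function.Bijective F := Finite.injective_iff_bijective.1 hF
  rw [hsub, hsub]
  congr 1
  refine Fintype.sum_bijective F hFb _ _ fun χ => ?_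
  have h1 : ((F χ).1 : G → ℂ) = (Φ χ : G → ℂ) := rfl
  rw [h1, (hΦ χ).2, (hΦ χ).2, one_pow, inv_pow]

theorem stab_principal (hM : IsPModular 2 M) {k : ℕ} (hk : Nat.Coprime k (Nat.card G))
    (hk₂ : ∀ g : G, Odd (orderOf g) → g ^ k = g⁻¹) {B : Set (IrrCharacter G)} (hB : IsPBlock M B)
    (hdef : blockDefect 2 B = (Nat.card G).factorization 2)
    (hstab : ∀ χ ∈ B, ∃ ψ ∈ B, ∀ g : G, (ψ : G → ℂ) g = (χ : G → ℂ) (g ^ k)) :
    B = principalBlock M G := by
  classical
  haveI := Fintype.ofFinite G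
  haveI : CharP (kk M) 2 := charP_kk hM
  haveI : Fact (Nat.Prime 2) := ⟨Nat.prime_two⟩
  obtain ⟨S⟩ : Nonempty (Sylow 2 G) := inferInstance
  have hSp : IsPGroup 2 (S : Subgroup G) := S.isPGroup'
  have hodd : ∀ g : G, ¬ 2 ∣ orderOf g → g ^ k = g⁻¹ := fun g hg =>
    hk₂ g (Nat.odd_iff.2 (by omega))
  set z := idB M B with hz
  have hzreal : ∀ g : G, ¬ 2 ∣ orderOf g → z.coeff g⁻¹ = z.coeff g := by
    intro g hg
    rw [hz, coeff_idB, coeff_idB, ← hodd g hg, blockCoeff_pow hk hstab]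
  have hzsing : ∀ g : G, 2 ∣ orderOf g → z.coeff g = 0 := by
    intro g hg
    rw [hz, coeff_idB, blockCoeff_singular hM (inS_eSet hB) hg, resid_zero]
  have h1 : aug z = z.coeff 1 := by
    have := sum_invol hM hSp (h := fun g => z.coeff g) (fun x _ g => isCen_idB B x g)
      (fun g _ hg => hzreal g hg) hzsing
    rwa [show mkA (fun g => z.coeff g) = z from by ext g; rfl] at this
  obtain ⟨χ, hχ, h0⟩ := exists_height_zero 2 (IsPBlock.nonempty hB)
  have hdeg : ¬ 2 ∣ charDegree (χ : G → ℂ) := by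
    have h2 := CfsgH5.degree_eq (p := 2) hχ
    rw [h0, hdef] at h2
    have h3 : (charDegree (χ : G → ℂ)).factorization 2 = 0 := by omega
    rw [Nat.factorization_eq_zero_iff] at h3
    rcases h3 with h3 | h3 | h3
    · exact absurd Nat.prime_two h3
    · exact h3
    · exact absurd h3 (deg_pos χ).ne'
  have hinv : MemLocalRing M (((χ : G → ℂ) 1)⁻¹) := by
    rw [deg_eq]
    exact memLocalRing_natCast_inv hM hdeg
  have hint : ∀ g : G, MemLocalRing M ((χ : G → ℂ) g / (χ : G → ℂ) 1) := by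
    intro g
    rw [div_eq_mul_inv]
    exact MemLocalRing.mul (memLocalRing_of_isIntegral (IsCharacter.isIntegral (IsIrr.isCharacter χ.2) g)) hinv
  obtain ⟨ψ, hψ, hψχ⟩ := hstab χ hχ
  have hval : ∀ g ∈ cz (S : Subgroup G), ¬ 2 ∣ orderOf g →
      resid M ((χ : G → ℂ) g⁻¹ / (χ : G → ℂ) 1) = resid M ((χ : G → ℂ) g / (χ : G → ℂ) 1) := by
    intro g hg hgo
    have h2 : SameBlock M (χ : G → ℂ) (ψ : G → ℂ) := (IsPBlock.mem_iff hB hχ).1 hψ
    have h3 := h2 g
    have h4 : ¬ 2 ∣ (Subgroup.centralizer ({g} : Set G)).index := by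
      intro h5
      have h6 : (S : Subgroup G) ≤ Subgroup.centralizer ({g} : Set G) := by
        intro s hs
        rw [Subgroup.mem_centralizer_singleton_iff]
        exact (Subgroup.mem_centralizer_iff.1 hg s hs)
      exact S.not_dvd_index (h5.trans (Subgroup.index_dvd_of_le h6))
    unfold Cfsg.centralChar at h3
    rw [hψχ g, hψχ 1, one_pow, hodd g hgo] at h3
    rw [eq_comm, resid_eq_iff (hint _) (hint _)]
    have h5 := MemLocalIdeal.mul_left (memLocalRing_natCast_inv hM h4) h3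
    have h6 : ((Subgroup.centralizer ({g} : Set G)).index : ℂ) ≠ 0 := by
      intro h7
      apply h4
      have : (Subgroup.centralizer ({g} : Set G)).index = 0 := by exact_mod_cast h7
      rw [this]; exact dvd_zero 2
    convert h5 using 1
    field_simp
  have h2 : aug (mkA fun g => z.coeff g * resid M ((χ : G → ℂ) g / (χ : G → ℂ) 1)) = z.coeff 1 := by
    rw [sum_invol hM hSp]
    · show z.coeff 1 * resid M ((χ : G → ℂ) 1 / (χ : G → ℂ) 1) = _
      rw [div_self (IsIrr.one_ne_zero χ.2), resid_one, mul_one]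
    · intro x _ g
      show z.coeff (x * g * x⁻¹) * resid M ((χ : G → ℂ) (x * g * x⁻¹) / (χ : G → ℂ) 1) = _
      rw [isCen_idB B x g, IsCharacter.conj_eq (IsIrr.isCharacter χ.2)]
    · intro g hg hgo
      show z.coeff g⁻¹ * resid M ((χ : G → ℂ) g⁻¹ / (χ : G → ℂ) 1) = z.coeff g * _
      rw [hzreal g hgo, hval g hg hgo]
    · intro g hg
      show z.coeff g * _ = 0
      rw [hzsing g hg, zero_mul]
  have h3 : aug (mkA fun g => z.coeff g * resid M ((χ : G → ℂ) g / (χ : G → ℂ) 1)) = 1 := by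
    have h4 : lam χ z = 1 := by rw [hz, lam_idB (inS_eSet hB), if_pos hχ]
    have h5 : om (χ : G → ℂ) (eSet B) = ∑ g : G, blockCoeff B g * ((χ : G → ℂ) g / (χ : G → ℂ) 1) := by
      rw [om, ev_eq_sum, Finset.sum_div]
      refine Finset.sum_congr rfl fun g _ => ?_
      rw [coeff_eSet, mul_div_assoc]
    rw [aug_eq, ← h4, hz]
    show _ = lam χ (rd M (eSet B))
    rw [lam_rd χ (isCen_eSet B) (inS_eSet hB), h5, resid_sum]
    · refine Finset.sum_congr rfl fun g _ => ?_
      rw [resid_mul (show MemLocalRing M (blockCoeff B g) from inS_eSet hB g) (hint g)]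
      rfl
    · intro g _
      exact MemLocalRing.mul (inS_eSet hB g) (hint g)
  have h4 : aug z = 1 := by rw [h1, ← h2, h3]
  have h5 : irrOne G ∈ B := by
    by_contra hc
    have := lam_irrOne z
    rw [h4, hz, lam_idB (inS_eSet hB), if_neg hc] at this
    exact one_ne_zero this.symm
  exact IsPBlock.eq_of_mem hB isPBlock_principal h5 irrOne_mem

end Stab

end CfsgH4
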