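import Mathlib

/-!
# Averaging over the conjugates of a root of unity of prime power order
-/

set_option autoImplicit false

namespace CfsgSub

open scoped ComplexConjugate

section comb

variable {V : Type*} [AddCommGroup V]

/-- symmetric biadditive integer forms -/
structure IsBil (bil : V → V → ℤ) : Prop where
  add_left : ∀ x y z, bil (x + y) z = bil x z + bil y z
  symm : ∀ x y, bil x y = bil y x
  nonneg : ∀ x, 0 ≤ bil x x

theorem IsBil.add_right {bil : V → V → ℤ} (h : IsBil bil) (x y z : V) : bil x (y + z) = bil x y + bil x z := by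
  rw [h.symm, h.add_left, h.symm y, h.symm z]

theorem IsBil.zero_left {bil : V → V → ℤ} (h : IsBil bil) (x : V) : bil 0 x = 0 := by
  have := h.add_left 0 0 x
  rw [add_zero] at this
  omega

theorem IsBil.neg_left {bil : V → V → ℤ} (h : IsBil bil) (x y : V) : bil (-x) y = -bil x y := by
  have := h.add_left x (-x) y
  rw [add_neg_cancel, h.zero_left] at this
  omega

theorem IsBil.neg_right {bil : V → V → ℤ} (h : IsBil bil) (x y : V) : bil x (-y) = -bil x y := by
  rw [h.symm, h.neg_left, h.symm]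

theorem IsBil.sub_sub {bil : V → V → ℤ} (h : IsBil bil) (x y : V) :
    bil (x - y) (x - y) = bil x x + bil y y - 2 * bil x y := by
  rw [sub_eq_add_neg, h.add_left, h.add_right, h.add_right, h.neg_left, h.neg_right, h.neg_left, h.neg_right, h.symm y x]
  ring

theorem IsBil.sum_left {bil : V → V → ℤ} (h : IsBil bil) {ι : Type*} (s : Finset ι) (f : ι → V) (y : V) :
    bil (∑ i ∈ s, f i) y = ∑ i ∈ s, bil (f i) y := by
  classical
  induction s using Finset.induction_on with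
  | empty => rw [Finset.sum_empty, Finset.sum_empty, h.zero_left]
  | insert a s ha ih => rw [Finset.sum_insert ha, Finset.sum_insert ha, h.add_left, ih]

variable {T : Type*} [Fintype T] {T' : Type*}

open Classical in
theorem pair_identity {bil : V → V → ℤ} (h : IsBil bil) (n : T → V) (c : T → T') (p : ℕ)
    (hc : ∀ t, Nat.card {s : T // c s = c t} = p) :
    2 * ((p : ℤ) * ∑ t, bil (n t) (n t) - ∑ t, ∑ s, (if c t = c s then bil (n t) (n s) else 0)) =
      ∑ t, ∑ s, (if c t = c s then bil (n t - n s) (n t - n s) else 0) := by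
  have h1 : ∀ t s : T, (if c t = c s then bil (n t - n s) (n t - n s) else 0) =
      (if c t = c s then bil (n t) (n t) else 0) + (if c t = c s then bil (n s) (n s) else 0)
        - 2 * (if c t = c s then bil (n t) (n s) else 0) := by
    intro t s
    split_ifs
    · exact h.sub_sub _ _
    · ring
  have hcard : ∀ t, ∑ s, (if c t = c s then bil (n t) (n t) else 0) = (p : ℤ) * bil (n t) (n t) := by
    intro t
    rw [← Finset.sum_filter, Finset.sum_const, nsmul_eq_mul]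
    congr 1
    rw [← hc t, Nat.card_eq_fintype_card, Fintype.card_subtype]
    congr 2
    ext s
    simp [eq_comm]
  have h2 : ∑ t, ∑ s, (if c t = c s then bil (n t) (n t) else 0) = (p : ℤ) * ∑ t, bil (n t) (n t) := by
    rw [Finset.mul_sum]
    exact Finset.sum_congr rfl fun t _ => hcard t
  have h3 : ∑ t, ∑ s, (if c t = c s then bil (n s) (n s) else 0) = (p : ℤ) * ∑ t, bil (n t) (n t) := by
    rw [← h2, Finset.sum_comm]
    refine Finset.sum_congr rfl fun t _ => Finset.sum_congr rfl fun s _ => ?_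
    by_cases h : c t = c s
    · rw [if_pos h, if_pos h.symm]
    · rw [if_neg h, if_neg (Ne.symm h)]
  simp only [h1, Finset.sum_add_distrib, Finset.sum_sub_distrib, ← Finset.mul_sum]
  rw [h2, h3]
  ring

open Classical in
theorem pair_bound {bil : V → V → ℤ} (h : IsBil bil) (n : T → V) (c : T → T') (p : ℕ)
    (hc : ∀ t, Nat.card {s : T // c s = c t} = p) (S : AddSubgroup V) {τ : ℤ} (hτ0 : 0 ≤ τ) (hτ : ∀ x, x ∉ S → τ ≤ bil x x)
    {t₀ t₁ : T} (hcc : c t₁ = c t₀) (hne : n t₁ - n t₀ ∉ S) :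
    2 * ((p : ℤ) - 1) * τ ≤ ∑ t, ∑ s, (if c t = c s then bil (n t - n s) (n t - n s) else 0) := by
  set F := Finset.univ.filter (fun s : T => c s = c t₀) with hF
  have hFc : F.card = p := by
    rw [← hc t₀, Nat.card_eq_fintype_card, Fintype.card_subtype]
  set P := F.filter (fun s => n s - n t₀ ∈ S) with hP
  set R := F.filter (fun s => ¬ (n s - n t₀ ∈ S)) with hR
  have hPR : P.card + R.card = p := by
    rw [← hFc]; exact Finset.card_filter_add_card_filter_not _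
  have hP1 : 1 ≤ P.card := by
    apply Finset.card_pos.2
    exact ⟨t₀, by simp [hP, hF]⟩
  have hR1 : 1 ≤ R.card := by
    apply Finset.card_pos.2
    exact ⟨t₁, by simp [hR, hF, hcc, hne]⟩
  have hnn : ∀ t s : T, 0 ≤ (if c t = c s then bil (n t - n s) (n t - n s) else 0) := by
    intro t s
    split_ifs
    · exact h.nonneg _
    · exact le_refl _
  have hval : ∀ t ∈ P, ∀ s ∈ R, τ ≤ (if c t = c s then bil (n t - n s) (n t - n s) else 0) ∧
      τ ≤ (if c s = c t then bil (n s - n t) (n s - n t) else 0) := by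
    intro t ht s hs
    rw [hP, Finset.mem_filter, hF, Finset.mem_filter] at ht
    rw [hR, Finset.mem_filter, hF, Finset.mem_filter] at hs
    have h1 : c t = c s := ht.1.2.trans hs.1.2.symm
    rw [if_pos h1, if_pos h1.symm]
    constructor
    · apply hτ
      intro hmem
      apply hs.2
      have := S.sub_mem ht.2 hmem
      have h2 : n t - n t₀ - (n t - n s) = n s - n t₀ := by abel
      rwa [h2] at this
    · apply hτ
      intro hmem
      apply hs.2
      have := S.add_mem ht.2 hmem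
      have h2 : n t - n t₀ + (n s - n t) = n s - n t₀ := by abel
      rwa [h2] at this
  have hdisj : Disjoint P R := Finset.disjoint_filter_filter_not _ _ _
  have h1 : ∑ t ∈ P, ∑ s, (if c t = c s then bil (n t - n s) (n t - n s) else 0) ≥ P.card * (R.card * τ) := by
    rw [ge_iff_le, ← nsmul_eq_mul, ← Finset.sum_const]
    refine Finset.sum_le_sum fun t ht => ?_
    calc (R.card : ℤ) * τ = ∑ s ∈ R, τ := by rw [Finset.sum_const, nsmul_eq_mul]
      _ ≤ ∑ s ∈ R, (if c t = c s then bil (n t - n s) (n t - n s) else 0) := Finset.sum_le_sum fun s hs => (hval t ht s hs).1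
      _ ≤ _ := Finset.sum_le_univ_sum_of_nonneg (fun s => hnn t s)
  have h2 : ∑ s ∈ R, ∑ t, (if c s = c t then bil (n s - n t) (n s - n t) else 0) ≥ R.card * (P.card * τ) := by
    rw [ge_iff_le, ← nsmul_eq_mul, ← Finset.sum_const]
    refine Finset.sum_le_sum fun s hs => ?_
    calc (P.card : ℤ) * τ = ∑ t ∈ P, τ := by rw [Finset.sum_const, nsmul_eq_mul]
      _ ≤ ∑ t ∈ P, (if c s = c t then bil (n s - n t) (n s - n t) else 0) := Finset.sum_le_sum fun t ht => (hval t ht s hs).2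
      _ ≤ _ := Finset.sum_le_univ_sum_of_nonneg (fun t => hnn s t)
  have h3 : ∑ t ∈ P ∪ R, ∑ s, (if c t = c s then bil (n t - n s) (n t - n s) else 0) ≤
      ∑ t, ∑ s, (if c t = c s then bil (n t - n s) (n t - n s) else 0) :=
    Finset.sum_le_univ_sum_of_nonneg (fun t => Finset.sum_nonneg fun s _ => hnn t s)
  rw [Finset.sum_union hdisj] at h3
  have h4 : 2 * ((p : ℤ) - 1) * τ ≤ P.card * (R.card * τ) + R.card * (P.card * τ) := by
    have h5 : (p : ℤ) - 1 ≤ P.card * R.card := by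
      have h6 : (p : ℤ) = P.card + R.card := by exact_mod_cast hPR.symm
      have h7 : (1 : ℤ) ≤ P.card := by exact_mod_cast hP1
      have h8 : (1 : ℤ) ≤ R.card := by exact_mod_cast hR1
      nlinarith
    nlinarith
  linarith

end comb

/-! ### the root of unity sums -/

theorem geom_root {v : ℂ} {N : ℕ} (hv : v ^ N = 1) : ∑ k ∈ Finset.range N, v ^ k = if v = 1 then (N : ℂ) else 0 := by
  split_ifs with h
  · subst h
    simp
  · have := geom_sum_mul v N
    rw [hv, sub_self] at this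
    exact (mul_eq_zero.1 this).resolve_right (sub_ne_zero.2 h)

/-- sums of powers prime to `p` -/
theorem ram_sum {p : ℕ} (hp : p.Prime) {e : ℕ} {v : ℂ} (hv : v ^ p ^ (e + 1) = 1) :
    ∑ k ∈ (Finset.range (p ^ (e + 1))).filter (fun k => ¬ p ∣ k), v ^ k =
      (if v = 1 then ((p ^ (e + 1) : ℕ) : ℂ) else 0) - (if v ^ p = 1 then ((p ^ e : ℕ) : ℂ) else 0) := by
  have h1 := Finset.sum_filter_add_sum_filter_not (Finset.range (p ^ (e + 1))) (fun k => p ∣ k) (fun k => v ^ k)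
  have h2 : ∑ k ∈ (Finset.range (p ^ (e + 1))).filter (fun k => p ∣ k), v ^ k = ∑ j ∈ Finset.range (p ^ e), (v ^ p) ^ j := by
    symm
    refine Finset.sum_bij' (fun j _ => p * j) (fun k _ => k / p) ?_ ?_ ?_ ?_ ?_
    · intro j hj
      rw [Finset.mem_filter, Finset.mem_range, pow_succ']
      exact ⟨Nat.mul_lt_mul_of_pos_left (Finset.mem_range.1 hj) hp.pos, dvd_mul_right _ _⟩
    · intro k hk
      rw [Finset.mem_filter, Finset.mem_range, pow_succ'] at hk
      exact Finset.mem_range.2 (Nat.div_lt_of_lt_mul hk.1)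
    · intro j _
      exact Nat.mul_div_cancel_left _ hp.pos
    · intro k hk
      exact Nat.mul_div_cancel' (Finset.mem_filter.1 hk).2
    · intro j _
      rw [pow_mul]
  rw [h2, geom_root (by rw [← pow_mul, ← pow_succ', hv]), geom_root hv] at h1
  rw [← h1]; ring

theorem card_coprime_range {p : ℕ} (hp : p.Prime) (e : ℕ) :
    ((Finset.range (p ^ (e + 1))).filter (fun k => ¬ p ∣ k)).card = p ^ e * (p - 1) := by
  rw [← Nat.totient_prime_pow_succ hp, Nat.totient]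
  congr 1
  ext k
  rw [Finset.mem_filter, Finset.mem_filter, Nat.coprime_pow_left_iff (Nat.succ_pos e), Nat.Prime.coprime_iff_not_dvd hp]

/-- the number of `w'` with `w' ^ p = w ^ p` -/
theorem card_fibre {p : ℕ} (hp : p.Prime) {w : ℂ} (hw : w ≠ 0) : Nat.card {s : ℂ // s ^ p = w ^ p} = p := by
  have h1 : Nat.card {s : ℂ // s ^ p = 1} = p := by
    have h2 : Nat.card {s : ℂ // s ^ p = 1} = (Polynomial.nthRootsFinset p (1 : ℂ)).card := by
      rw [Nat.card_congr (Equiv.subtypeEquivRight (q := fun s => s ∈ Polynomial.nthRootsFinset p (1 : ℂ)) (fun s => by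
        rw [Polynomial.mem_nthRootsFinset hp.pos]))]
      simp
    rw [h2]
    exact (Complex.isPrimitiveRoot_exp p hp.ne_zero).card_nthRootsFinset
  refine Eq.trans ?_ h1
  refine Nat.card_congr ⟨fun s => ⟨s / w, by rw [div_pow, s.2, div_self (pow_ne_zero _ hw)]⟩,
    fun s => ⟨s * w, by rw [mul_pow, s.2, one_mul]⟩, fun s => ?_, fun s => ?_⟩
  · apply Subtype.ext; exact div_mul_cancel₀ _ hw
  · apply Subtype.ext; exact mul_div_cancel_right₀ _ hw

/-! ### the averaging -/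

/-- roots of unity of order dividing `N` -/
abbrev Rt (N : ℕ) : Type := {t : ℂ // t ^ N = 1}

noncomputable instance (N : ℕ) [NeZero N] : Fintype (Rt N) := by
  have h : {t : ℂ | t ^ N = 1} = ((Polynomial.nthRootsFinset N (1 : ℂ) : Finset ℂ) : Set ℂ) := by
    ext t
    simp [Polynomial.mem_nthRootsFinset (NeZero.pos N)]
  haveI : Finite (Rt N) := by
    have : Set.Finite {t : ℂ | t ^ N = 1} := by rw [h]; exact Finset.finite_toSet _
    exact this.to_subtype
  exact Fintype.ofFinite _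

theorem card_fibre_rt {p : ℕ} (hp : p.Prime) {e : ℕ} (t : Rt (p ^ (e + 1))) :
    Nat.card {s : Rt (p ^ (e + 1)) // (s : ℂ) ^ p = (t : ℂ) ^ p} = p := by
  have ht0 : (t : ℂ) ≠ 0 := by
    intro h
    have := t.2
    rw [h, zero_pow (pow_pos hp.pos _).ne'] at this
    exact zero_ne_one this
  refine Eq.trans ?_ (card_fibre hp ht0)
  refine Nat.card_congr ⟨fun s => ⟨(s : Rt (p ^ (e + 1))), s.2⟩, fun s => ⟨⟨(s : ℂ), ?_⟩, s.2⟩, fun s => rfl, fun s => rfl⟩
  have h1 : (s : ℂ) ^ p ^ (e + 1) = ((s : ℂ) ^ p) ^ p ^ e := by rw [← pow_mul, ← pow_succ']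
  have h2 : (t : ℂ) ^ p ^ (e + 1) = ((t : ℂ) ^ p) ^ p ^ e := by rw [← pow_mul, ← pow_succ']
  rw [h1, s.2, ← h2]
  exact t.2

section avg

variable {ι : Type*} [Fintype ι] {p : ℕ} {e : ℕ}

open Classical in
/-- the part of `m` with weight `t` -/
noncomputable def pt (w : ι → ℂ) (m : ι → ℤ) (t : ℂ) : ι → ℤ := fun i => if w i = t then m i else 0

/-- the form with matrix `A` -/
def mbil (A : ι → ι → ℤ) (x y : ι → ℤ) : ℤ := ∑ i, ∑ j, x i * y j * A i j

theorem mbil_add_left (A : ι → ι → ℤ) (x y z : ι → ℤ) : mbil A (x + y) z = mbil A x z + mbil A y z := by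
  simp only [mbil, Pi.add_apply, add_mul, Finset.sum_add_distrib]

theorem mbil_symm {A : ι → ι → ℤ} (hA : ∀ i j, A i j = A j i) (x y : ι → ℤ) : mbil A x y = mbil A y x := by
  rw [mbil, mbil, Finset.sum_comm]
  refine Finset.sum_congr rfl fun i _ => Finset.sum_congr rfl fun j _ => ?_
  rw [hA j i]; ring

open Classical in
theorem mbil_pt (A : ι → ι → ℤ) (w : ι → ℂ) (m : ι → ℤ) (s t : ℂ) :
    mbil A (pt w m s) (pt w m t) = ∑ i, ∑ j, if w i = s ∧ w j = t then m i * m j * A i j else 0 := by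
  rw [mbil]
  refine Finset.sum_congr rfl fun i _ => Finset.sum_congr rfl fun j _ => ?_
  rw [pt, pt]
  by_cases h1 : w i = s
  · by_cases h2 : w j = t
    · simp [h1, h2]
    · simp [h1, h2]
  · simp [h1]

open Classical in
/-- the averaged form -/
theorem avg_eq (hp : p.Prime) {A : ι → ι → ℤ} (hbil : IsBil (mbil A)) (w : ι → ℂ) (hw : ∀ i, w i ^ p ^ (e + 1) = 1) (m : ι → ℤ) :
    haveI : NeZero (p ^ (e + 1)) := ⟨(pow_pos hp.pos _).ne'⟩
    2 * ∑ k ∈ (Finset.range (p ^ (e + 1))).filter (fun k => ¬ p ∣ k),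
      ∑ i, ∑ j, ((m i * m j * A i j : ℤ) : ℂ) * (w i * conj (w j)) ^ k =
    ((p ^ e : ℕ) : ℂ) * ((∑ t : Rt (p ^ (e + 1)), ∑ s : Rt (p ^ (e + 1)),
      (if (t : ℂ) ^ p = (s : ℂ) ^ p then mbil A (pt w m t - pt w m s) (pt w m t - pt w m s) else 0) : ℤ) : ℂ) := by
  haveI : NeZero (p ^ (e + 1)) := ⟨(pow_pos hp.pos _).ne'⟩
  have hpid := pair_identity hbil (fun t : Rt (p ^ (e + 1)) => pt w m (t : ℂ)) (fun t => (t : ℂ) ^ p) p (card_fibre_rt hp)
  rw [← hpid]
  have hnorm : ∀ i, w i * conj (w i) = 1 := by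
    intro i
    rw [Complex.mul_conj, Complex.normSq_eq_norm_sq, Complex.norm_eq_one_of_pow_eq_one (hw i) (NeZero.ne _)]
    norm_num
  have hw0 : ∀ i, w i ≠ 0 := by
    intro i h
    have := hnorm i
    rw [h, zero_mul] at this
    exact zero_ne_one this
  have hconj : ∀ i, conj (w i) = (w i)⁻¹ := fun i => eq_inv_of_mul_eq_one_right (hnorm i)
  -- the inner sums
  have h1 : ∀ i j, ∑ k ∈ (Finset.range (p ^ (e + 1))).filter (fun k => ¬ p ∣ k), (w i * conj (w j)) ^ k =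
      (if w i = w j then ((p ^ (e + 1) : ℕ) : ℂ) else 0) - (if w i ^ p = w j ^ p then ((p ^ e : ℕ) : ℂ) else 0) := by
    intro i j
    rw [ram_sum hp (by rw [mul_pow, hw, one_mul, ← map_pow, hw, map_one])]
    congr 1
    · have : (w i * conj (w j) = 1) ↔ (w i = w j) := by
        rw [hconj, mul_inv_eq_one₀ (hw0 j)]
      simp [this]
    · have : ((w i * conj (w j)) ^ p = 1) ↔ (w i ^ p = w j ^ p) := by
        rw [hconj, mul_pow, inv_pow, mul_inv_eq_one₀ (pow_ne_zero _ (hw0 j))]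
      simp [this]
  have h2 : ∑ k ∈ (Finset.range (p ^ (e + 1))).filter (fun k => ¬ p ∣ k),
      ∑ i, ∑ j, ((m i * m j * A i j : ℤ) : ℂ) * (w i * conj (w j)) ^ k =
      ∑ i, ∑ j, ((m i * m j * A i j : ℤ) : ℂ) * ((if w i = w j then ((p ^ (e + 1) : ℕ) : ℂ) else 0) -
        (if w i ^ p = w j ^ p then ((p ^ e : ℕ) : ℂ) else 0)) := by
    rw [Finset.sum_comm]
    refine Finset.sum_congr rfl fun i _ => ?_
    rw [Finset.sum_comm]
    refine Finset.sum_congr rfl fun j _ => ?_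
    rw [← Finset.mul_sum, h1]
  rw [h2]
  have h3 : (∑ t : Rt (p ^ (e + 1)), mbil A (pt w m (t : ℂ)) (pt w m (t : ℂ))) =
      ∑ i, ∑ j, if w i = w j then m i * m j * A i j else 0 := by
    simp only [mbil_pt]
    rw [Finset.sum_comm]
    refine Finset.sum_congr rfl fun i _ => ?_
    rw [Finset.sum_comm]
    refine Finset.sum_congr rfl fun j _ => ?_
    by_cases hij : w i = w j
    · rw [if_pos hij, Finset.sum_eq_single ⟨w i, hw i⟩]
      · simp [hij]
      · intro t _ ht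
        rw [if_neg]
        rintro ⟨h, -⟩
        exact ht (Subtype.ext h.symm)
      · intro h; exact absurd (Finset.mem_univ _) h
    · rw [if_neg hij]
      refine Finset.sum_eq_zero fun t _ => ?_
      rw [if_neg]
      rintro ⟨h, h'⟩
      exact hij (h.trans h'.symm)
  have h4 : (∑ t : Rt (p ^ (e + 1)), ∑ s : Rt (p ^ (e + 1)), (if (t : ℂ) ^ p = (s : ℂ) ^ p then mbil A (pt w m (t : ℂ)) (pt w m (s : ℂ)) else 0)) =
      ∑ i, ∑ j, if w i ^ p = w j ^ p then m i * m j * A i j else 0 := by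
    have h5 : ∀ t s : Rt (p ^ (e + 1)), (if (t : ℂ) ^ p = (s : ℂ) ^ p then mbil A (pt w m (t : ℂ)) (pt w m (s : ℂ)) else 0) =
        ∑ i, ∑ j, if (w i = (t : ℂ) ∧ w j = (s : ℂ)) ∧ (t : ℂ) ^ p = (s : ℂ) ^ p then m i * m j * A i j else 0 := by
      intro t s
      split_ifs with h
      · rw [mbil_pt]
        exact Finset.sum_congr rfl fun i _ => Finset.sum_congr rfl fun j _ => by simp [h]
      · symm
        exact Finset.sum_eq_zero fun i _ => Finset.sum_eq_zero fun j _ => by simp [h]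
    simp only [h5]
    have h6 : ∀ i j, (∑ t : Rt (p ^ (e + 1)), ∑ s : Rt (p ^ (e + 1)), if (w i = (t : ℂ) ∧ w j = (s : ℂ)) ∧ (t : ℂ) ^ p = (s : ℂ) ^ p then m i * m j * A i j else 0) =
        if w i ^ p = w j ^ p then m i * m j * A i j else 0 := by
      intro i j
      rw [Finset.sum_eq_single ⟨w i, hw i⟩, Finset.sum_eq_single ⟨w j, hw j⟩]
      · simp
      · intro s _ hs
        rw [if_neg]
        rintro ⟨⟨-, h⟩, -⟩
        exact hs (Subtype.ext h.symm)
      · intro h; exact absurd (Finset.mem_univ _) h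
      · intro t _ ht
        refine Finset.sum_eq_zero fun s _ => ?_
        rw [if_neg]
        rintro ⟨⟨h, -⟩, -⟩
        exact ht (Subtype.ext h.symm)
      · intro h; exact absurd (Finset.mem_univ _) h
    calc _ = ∑ t : Rt (p ^ (e + 1)), ∑ i, ∑ s : Rt (p ^ (e + 1)), ∑ j, (if (w i = (t : ℂ) ∧ w j = (s : ℂ)) ∧ (t : ℂ) ^ p = (s : ℂ) ^ p then m i * m j * A i j else 0) :=
          Finset.sum_congr rfl fun t _ => Finset.sum_comm
      _ = ∑ i, ∑ t : Rt (p ^ (e + 1)), ∑ s : Rt (p ^ (e + 1)), ∑ j, (if (w i = (t : ℂ) ∧ w j = (s : ℂ)) ∧ (t : ℂ) ^ p = (s : ℂ) ^ p then m i * m j * A i j else 0) :=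
          Finset.sum_comm
      _ = ∑ i, ∑ t : Rt (p ^ (e + 1)), ∑ j, ∑ s : Rt (p ^ (e + 1)), (if (w i = (t : ℂ) ∧ w j = (s : ℂ)) ∧ (t : ℂ) ^ p = (s : ℂ) ^ p then m i * m j * A i j else 0) :=
          Finset.sum_congr rfl fun i _ => Finset.sum_congr rfl fun t _ => Finset.sum_comm
      _ = ∑ i, ∑ j, ∑ t : Rt (p ^ (e + 1)), ∑ s : Rt (p ^ (e + 1)), (if (w i = (t : ℂ) ∧ w j = (s : ℂ)) ∧ (t : ℂ) ^ p = (s : ℂ) ^ p then m i * m j * A i j else 0) :=
          Finset.sum_congr rfl fun i _ => Finset.sum_comm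
      _ = _ := Finset.sum_congr rfl fun i _ => Finset.sum_congr rfl fun j _ => h6 i j
  rw [h3, h4]
  have h7 : ∑ i, ∑ j, ((m i * m j * A i j : ℤ) : ℂ) * ((if w i = w j then ((p ^ (e + 1) : ℕ) : ℂ) else 0) -
        (if w i ^ p = w j ^ p then ((p ^ e : ℕ) : ℂ) else 0)) =
      ((p ^ e : ℕ) : ℂ) * (((p : ℤ) * (∑ i, ∑ j, if w i = w j then m i * m j * A i j else 0) -
        ∑ i, ∑ j, (if w i ^ p = w j ^ p then m i * m j * A i j else 0) : ℤ) : ℂ) := by
    rw [Int.cast_sub, Int.cast_mul, Int.cast_sum, Int.cast_sum, mul_sub, Finset.mul_sum, Finset.mul_sum, Finset.mul_sum, ← Finset.sum_sub_distrib]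
    refine Finset.sum_congr rfl fun i _ => ?_
    rw [Int.cast_sum, Int.cast_sum, Finset.mul_sum, Finset.mul_sum, Finset.mul_sum, ← Finset.sum_sub_distrib]
    refine Finset.sum_congr rfl fun j _ => ?_
    split_ifs <;> push_cast <;> ring
  rw [h7]
  push_cast
  ring

open Classical in
/-- lower bound for the averaged form, first version -/
theorem avg_lower (hp : p.Prime) {A : ι → ι → ℤ} (hbil : IsBil (mbil A)) (w : ι → ℂ) (hw : ∀ i, w i ^ p ^ (e + 1) = 1) (m : ι → ℤ)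
    (S : AddSubgroup (ι → ℤ)) {τ : ℤ} (hτ0 : 0 ≤ τ) (hτ : ∀ x, x ∉ S → τ ≤ mbil A x x)
    (hex : ∃ t₀ t₁ : Rt (p ^ (e + 1)), (t₁ : ℂ) ^ p = (t₀ : ℂ) ^ p ∧ pt w m t₁ - pt w m t₀ ∉ S) :
    (p : ℝ) ^ e * ((p : ℝ) - 1) * τ ≤ (∑ k ∈ (Finset.range (p ^ (e + 1))).filter (fun k => ¬ p ∣ k),
      ∑ i, ∑ j, ((m i * m j * A i j : ℤ) : ℂ) * (w i * conj (w j)) ^ k).re := by
  haveI : NeZero (p ^ (e + 1)) := ⟨(pow_pos hp.pos _).ne'⟩
  obtain ⟨t₀, t₁, h1, h2⟩ := hex
  have h3 := pair_bound hbil (fun t : Rt (p ^ (e + 1)) => pt w m (t : ℂ)) (fun t => (t : ℂ) ^ p) p (card_fibre_rt hp) S hτ0 hτ h1 h2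
  have h4 := congrArg Complex.re (avg_eq hp hbil w hw m)
  rw [show (2 : ℂ) = ((2 : ℝ) : ℂ) by norm_num, Complex.re_ofReal_mul] at h4
  have h5 : ∀ z : ℤ, (((p ^ e : ℕ) : ℂ) * (z : ℂ)).re = (p : ℝ) ^ e * z := by
    intro z
    rw [← Complex.ofReal_natCast, Complex.re_ofReal_mul, Complex.intCast_re]
    push_cast; rfl
  rw [h5] at h4
  have h6 : (2 * ((p : ℝ) - 1) * τ) ≤ ((∑ t : Rt (p ^ (e + 1)), ∑ s : Rt (p ^ (e + 1)),
      (if (t : ℂ) ^ p = (s : ℂ) ^ p then mbil A (pt w m t - pt w m s) (pt w m t - pt w m s) else 0) : ℤ) : ℝ) := by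
    have h7 : ((2 * ((p : ℤ) - 1) * τ : ℤ) : ℝ) ≤ _ := Int.cast_le.2 h3
    refine le_trans (le_of_eq ?_) h7
    push_cast; ring
  have h8 : (0 : ℝ) ≤ (p : ℝ) ^ e := by positivity
  have h9 := mul_le_mul_of_nonneg_left h6 h8
  nlinarith [h9, h4]

theorem sum_pt (hp : p.Prime) (w : ι → ℂ) (hw : ∀ i, w i ^ p ^ (e + 1) = 1) (m : ι → ℤ) :
    haveI : NeZero (p ^ (e + 1)) := ⟨(pow_pos hp.pos _).ne'⟩
    ∑ t : Rt (p ^ (e + 1)), pt w m (t : ℂ) = m := by
  classical
  haveI : NeZero (p ^ (e + 1)) := ⟨(pow_pos hp.pos _).ne'⟩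
  funext i
  rw [Finset.sum_apply, Finset.sum_eq_single ⟨w i, hw i⟩]
  · simp [pt]
  · intro t _ ht
    rw [pt, if_neg]
    intro h
    exact ht (Subtype.ext h.symm)
  · intro h; exact absurd (Finset.mem_univ _) h

/-- second version: a functional not divisible by `p` -/
theorem avg_lower_v (hp : p.Prime) {A : ι → ι → ℤ} (hbil : IsBil (mbil A)) (w : ι → ℂ) (hw : ∀ i, w i ^ p ^ (e + 1) = 1) (m : ι → ℤ)
    (S : AddSubgroup (ι → ℤ)) (hpS : ∀ x : ι → ℤ, p • x ∈ S) {τ : ℤ} (hτ0 : 0 ≤ τ) (hτ : ∀ x, x ∉ S → τ ≤ mbil A x x)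
    (hm : m ∉ S) :
    (p : ℝ) ^ e * ((p : ℝ) - 1) * τ ≤ (∑ k ∈ (Finset.range (p ^ (e + 1))).filter (fun k => ¬ p ∣ k),
      ∑ i, ∑ j, ((m i * m j * A i j : ℤ) : ℂ) * (w i * conj (w j)) ^ k).re := by
  classical
  haveI : NeZero (p ^ (e + 1)) := ⟨(pow_pos hp.pos _).ne'⟩
  apply avg_lower hp hbil w hw m S hτ0 hτ
  by_contra hcon
  push Not at hcon
  apply hm
  rw [← sum_pt hp w hw m]
  -- sum over the fibres of `t ↦ t ^ p`
  have h1 : ∑ t : Rt (p ^ (e + 1)), pt w m (t : ℂ) = ∑ c ∈ (Finset.univ.image (fun t : Rt (p ^ (e + 1)) => (t : ℂ) ^ p)),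
      ∑ t ∈ Finset.univ.filter (fun t : Rt (p ^ (e + 1)) => (t : ℂ) ^ p = c), pt w m (t : ℂ) :=
    (Finset.sum_fiberwise_of_maps_to (fun t _ => Finset.mem_image_of_mem _ (Finset.mem_univ t)) _).symm
  rw [h1]
  refine S.sum_mem fun c hc => ?_
  obtain ⟨t₀, -, ht₀⟩ := Finset.mem_image.1 hc
  have hcard : (Finset.univ.filter (fun t : Rt (p ^ (e + 1)) => (t : ℂ) ^ p = c)).card = p := by
    have h2 := card_fibre_rt hp t₀
    rw [Nat.card_eq_fintype_card, Fintype.card_subtype] at h2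
    rw [← ht₀]
    exact h2
  have h2 : ∑ t ∈ Finset.univ.filter (fun t : Rt (p ^ (e + 1)) => (t : ℂ) ^ p = c), pt w m (t : ℂ) =
      ∑ t ∈ Finset.univ.filter (fun t : Rt (p ^ (e + 1)) => (t : ℂ) ^ p = c), (pt w m (t : ℂ) - pt w m (t₀ : ℂ)) + p • pt w m (t₀ : ℂ) := by
    rw [Finset.sum_sub_distrib, Finset.sum_const, hcard]
    abel
  rw [h2]
  refine S.add_mem (S.sum_mem fun t ht => ?_) (hpS _)
  exact hcon t₀ t (by rw [(Finset.mem_filter.1 ht).2, ht₀])

/-- third version: nonvanishing -/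
theorem avg_lower_ne (hp : p.Prime) {A : ι → ι → ℤ} (hbil : IsBil (mbil A)) (w : ι → ℂ) (hw : ∀ i, w i ^ p ^ (e + 1) = 1) (m : ι → ℤ)
    (S : AddSubgroup (ι → ℤ)) (hS : ∀ x ∈ S, mbil A x x = 0) {τ : ℤ} (hτ0 : 0 ≤ τ) (hτ : ∀ x, x ∉ S → τ ≤ mbil A x x)
    (hne : (∑ k ∈ (Finset.range (p ^ (e + 1))).filter (fun k => ¬ p ∣ k),
      ∑ i, ∑ j, ((m i * m j * A i j : ℤ) : ℂ) * (w i * conj (w j)) ^ k) ≠ 0) :
    (p : ℝ) ^ e * ((p : ℝ) - 1) * τ ≤ (∑ k ∈ (Finset.range (p ^ (e + 1))).filter (fun k => ¬ p ∣ k),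
      ∑ i, ∑ j, ((m i * m j * A i j : ℤ) : ℂ) * (w i * conj (w j)) ^ k).re := by
  classical
  haveI : NeZero (p ^ (e + 1)) := ⟨(pow_pos hp.pos _).ne'⟩
  apply avg_lower hp hbil w hw m S hτ0 hτ
  by_contra hcon
  push Not at hcon
  apply hne
  have h1 := avg_eq hp hbil w hw m
  have h2 : (∑ t : Rt (p ^ (e + 1)), ∑ s : Rt (p ^ (e + 1)),
      (if (t : ℂ) ^ p = (s : ℂ) ^ p then mbil A (pt w m t - pt w m s) (pt w m t - pt w m s) else 0)) = 0 := by
    refine Finset.sum_eq_zero fun t _ => Finset.sum_eq_zero fun s _ => ?_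
    split_ifs with h
    · exact hS _ (hcon s t h)
    · rfl
  rw [h2, Int.cast_zero, mul_zero] at h1
  exact (mul_eq_zero.1 h1).resolve_left two_ne_zero

end avg

end CfsgSub
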