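import Cfsg.Agent.H4.Sub1
import Cfsg.Agent.H5.Major4

/-!
# The integral form of a block, and the generalized decomposition vectors of a subsection
-/

set_option autoImplicit false
open Cfsg MonoidAlgebra CfsgH5
open CfsgH4 hiding centralChar sum_conj regInner_symm

namespace CfsgSub

open scoped ComplexConjugate

section block

variable {H : Type*} [Group H] [Fintype H] {p : ℕ} [hp : Fact p.Prime] {M : Ideal AlgInt}

open Classical in
/-- `p ^ d` times the regular inner products -/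
noncomputable def cA (p : ℕ) (b : Set (IrrCharacter H)) (ζ ξ : IrrCharacter H) : ℤ :=
  if ζ ∈ b ∧ ξ ∈ b then ⌊((p : ℂ) ^ blockDefect p b * regInner p (ζ : H → ℂ) (ξ : H → ℂ) / (Nat.card H : ℂ)).re⌋ else 0

theorem cA_spec (hM : IsPModular p M) {b : Set (IrrCharacter H)} (hb : IsPBlock M b) {ζ ξ : IrrCharacter H} (hζ : ζ ∈ b) (hξ : ξ ∈ b) :
    (p : ℂ) ^ blockDefect p b * regInner p (ζ : H → ℂ) (ξ : H → ℂ) = (Nat.card H : ℂ) * cA p b ζ ξ := by
  obtain ⟨A, hA, -⟩ := contr hM hb hζ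
  have hc : (Nat.card H : ℂ) ≠ 0 := by exact_mod_cast Nat.card_pos.ne'
  have h1 : (p : ℂ) ^ blockDefect p b * regInner p (ζ : H → ℂ) (ξ : H → ℂ) / (Nat.card H : ℂ) = A ξ := by
    rw [hA, mul_comm, mul_div_assoc, div_self hc, mul_one]
  rw [cA, if_pos ⟨hζ, hξ⟩, h1, Complex.intCast_re, Int.floor_intCast, hA]

theorem cA_off {b : Set (IrrCharacter H)} {ζ ξ : IrrCharacter H} (h : ζ ∉ b ∨ ξ ∉ b) : cA p b ζ ξ = 0 := by
  rw [cA, if_neg]
  rintro ⟨h1, h2⟩
  rcases h with h | h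
  · exact h h1
  · exact h h2

theorem cA_symm {b : Set (IrrCharacter H)} (ζ ξ : IrrCharacter H) : cA p b ζ ξ = cA p b ξ ζ := by
  classical
  by_cases h : ζ ∈ b ∧ ξ ∈ b
  · rw [cA, cA, if_pos h, if_pos h.symm, CfsgH5.regInner_symm (IsIrr.isCharacter ζ.2) (IsIrr.isCharacter ξ.2)]
  · rw [cA, cA, if_neg h, if_neg (fun h' => h h'.symm)]

theorem regInner_idem (hM : IsPModular p M) {b : Set (IrrCharacter H)} (hb : IsPBlock M b) {ζ : IrrCharacter H} (hζ : ζ ∈ b)
    (ξ : IrrCharacter H) :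
    (Nat.card H : ℂ) * regInner p (ζ : H → ℂ) (ξ : H → ℂ) = ∑ η : IrrCharacter H, (open Classical in if η ∈ b then
      regInner p (ζ : H → ℂ) (η : H → ℂ) * regInner p (η : H → ℂ) (ξ : H → ℂ) else 0) := by
  classical
  have hc : (Nat.card H : ℂ) ≠ 0 := by exact_mod_cast Nat.card_pos.ne'
  have h1 : regInner p (ζ : H → ℂ) (ξ : H → ℂ) = ∑ g : H, if p ∣ orderOf g then 0 else
      (∑ η : IrrCharacter H, if η ∈ b then (Nat.card H : ℂ)⁻¹ * regInner p (ζ : H → ℂ) (η : H → ℂ) * (η : H → ℂ) g else 0) *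
        conj ((ξ : H → ℂ) g) := by
    rw [regInner]
    refine Finset.sum_congr rfl fun g _ => ?_
    by_cases hg : p ∣ orderOf g
    · simp [hg]
    · rw [if_neg hg, if_neg hg, ← rho_expand hM hb hζ g, rho_reg hg]
  have h2 : ∀ g : H, (if p ∣ orderOf g then 0 else
      (∑ η : IrrCharacter H, if η ∈ b then (Nat.card H : ℂ)⁻¹ * regInner p (ζ : H → ℂ) (η : H → ℂ) * (η : H → ℂ) g else 0) *
        conj ((ξ : H → ℂ) g)) = ∑ η : IrrCharacter H, if η ∈ b then (Nat.card H : ℂ)⁻¹ * regInner p (ζ : H → ℂ) (η : H → ℂ) *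
        (if p ∣ orderOf g then 0 else (η : H → ℂ) g * conj ((ξ : H → ℂ) g)) else 0 := by
    intro g
    split_ifs with hg
    · simp
    · rw [Finset.sum_mul]
      refine Finset.sum_congr rfl fun η _ => ?_
      split_ifs <;> ring
  rw [Finset.sum_congr rfl fun g _ => h2 g, Finset.sum_comm] at h1
  conv_lhs => rw [h1]
  rw [Finset.mul_sum]
  refine Finset.sum_congr rfl fun η _ => ?_
  split_ifs
  · rw [← Finset.mul_sum, regInner]
    field_simp
    rfl
  · simp

theorem cA_idem (hM : IsPModular p M) {b : Set (IrrCharacter H)} (hb : IsPBlock M b) (ζ ξ : IrrCharacter H) :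
    ∑ η : IrrCharacter H, cA p b ζ η * cA p b η ξ = (p : ℤ) ^ blockDefect p b * cA p b ζ ξ := by
  classical
  have hc : (Nat.card H : ℂ) ≠ 0 := by exact_mod_cast Nat.card_pos.ne'
  by_cases hζ : ζ ∈ b
  swap
  · rw [cA_off (Or.inl hζ), mul_zero]
    exact Finset.sum_eq_zero fun η _ => by rw [cA_off (Or.inl hζ), zero_mul]
  by_cases hξ : ξ ∈ b
  swap
  · rw [cA_off (Or.inr hξ), mul_zero]
    exact Finset.sum_eq_zero fun η _ => by rw [cA_off (Or.inr hξ), mul_zero]
  have h1 := regInner_idem hM hb hζ ξ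
  have h2 : ((Nat.card H : ℂ) ^ 2) * ∑ η : IrrCharacter H, (cA p b ζ η : ℂ) * cA p b η ξ =
      ((Nat.card H : ℂ) ^ 2) * ((p : ℂ) ^ blockDefect p b * cA p b ζ ξ) := by
    have h3 : ((Nat.card H : ℂ) ^ 2) * ∑ η : IrrCharacter H, (cA p b ζ η : ℂ) * cA p b η ξ = ((p : ℂ) ^ blockDefect p b) ^ 2 *
        ∑ η : IrrCharacter H, (if η ∈ b then
      regInner p (ζ : H → ℂ) (η : H → ℂ) * regInner p (η : H → ℂ) (ξ : H → ℂ) else 0) := by
      rw [Finset.mul_sum, Finset.mul_sum]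
      refine Finset.sum_congr rfl fun η _ => ?_
      split_ifs with hη
      · calc (Nat.card H : ℂ) ^ 2 * ((cA p b ζ η : ℂ) * cA p b η ξ) = ((Nat.card H : ℂ) * cA p b ζ η) * ((Nat.card H : ℂ) * cA p b η ξ) := by ring
          _ = _ := by rw [← cA_spec hM hb hζ hη, ← cA_spec hM hb hη hξ]; ring
      · rw [cA_off (Or.inr hη)]; simp
    rw [h3, ← h1]
    have h4 := cA_spec hM hb hζ hξ
    calc ((p : ℂ) ^ blockDefect p b) ^ 2 * ((Nat.card H : ℂ) * regInner p (ζ : H → ℂ) (ξ : H → ℂ)) =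
        ((p : ℂ) ^ blockDefect p b) * (Nat.card H : ℂ) * (((p : ℂ) ^ blockDefect p b) * regInner p (ζ : H → ℂ) (ξ : H → ℂ)) := by ring
      _ = _ := by rw [h4]; ring
  have h5 := mul_left_cancel₀ (pow_ne_zero 2 hc) h2
  exact_mod_cast h5

/-- contraction -/
noncomputable def An (A : IrrCharacter H → IrrCharacter H → ℤ) (x : IrrCharacter H → ℤ) (η : IrrCharacter H) : ℤ :=
  ∑ ζ : IrrCharacter H, x ζ * A ζ η

theorem mbil_An (A : IrrCharacter H → IrrCharacter H → ℤ) (x y : IrrCharacter H → ℤ) : mbil A x y = ∑ η, An A x η * y η := by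
  rw [mbil, Finset.sum_comm]
  refine Finset.sum_congr rfl fun η _ => ?_
  rw [An, Finset.sum_mul]
  exact Finset.sum_congr rfl fun ζ _ => by ring

theorem mbil_idem (hM : IsPModular p M) {b : Set (IrrCharacter H)} (hb : IsPBlock M b) (x y : IrrCharacter H → ℤ) :
    (p : ℤ) ^ blockDefect p b * mbil (cA p b) x y = ∑ η, An (cA p b) x η * An (cA p b) y η := by
  have h1 : ∀ η, An (cA p b) x η * An (cA p b) y η = ∑ ζ, ∑ ξ, x ζ * y ξ * (cA p b ζ η * cA p b η ξ) := by
    intro η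
    rw [An, An, Finset.sum_mul_sum]
    refine Finset.sum_congr rfl fun ζ _ => Finset.sum_congr rfl fun ξ _ => ?_
    rw [cA_symm ξ η]; ring
  rw [Finset.sum_congr rfl fun η _ => h1 η, Finset.sum_comm, mbil, Finset.mul_sum]
  refine Finset.sum_congr rfl fun ζ _ => ?_
  rw [Finset.sum_comm, Finset.mul_sum]
  refine Finset.sum_congr rfl fun ξ _ => ?_
  rw [← Finset.mul_sum, cA_idem hM hb]
  ring

theorem isBil_cA (hM : IsPModular p M) {b : Set (IrrCharacter H)} (hb : IsPBlock M b) : IsBil (mbil (cA p b)) where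
  add_left := mbil_add_left _
  symm := mbil_symm cA_symm
  nonneg := by
    intro x
    have h1 := mbil_idem hM hb x x
    have h2 : 0 ≤ (p : ℤ) ^ blockDefect p b * mbil (cA p b) x x := by
      rw [h1]
      exact Finset.sum_nonneg fun η _ => mul_self_nonneg _
    have h3 : (0 : ℤ) < (p : ℤ) ^ blockDefect p b := by
      have := hp.out.pos
      positivity
    exact nonneg_of_mul_nonneg_right h2 h3

/-- the radical -/
noncomputable def rad (A : IrrCharacter H → IrrCharacter H → ℤ) : AddSubgroup (IrrCharacter H → ℤ) where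
  carrier := {x | ∀ η, An A x η = 0}
  zero_mem' := fun η => by simp [An]
  add_mem' := by
    intro x y hx hy η
    have h1 := hx η
    have h2 := hy η
    rw [An] at h1 h2 ⊢
    simp only [Pi.add_apply, add_mul, Finset.sum_add_distrib]
    rw [h1, h2, add_zero]
  neg_mem' := by
    intro x hx η
    have h1 := hx η
    rw [An] at h1 ⊢
    simp only [Pi.neg_apply, neg_mul, Finset.sum_neg_distrib]
    rw [h1, neg_zero]

theorem mbil_rad {A : IrrCharacter H → IrrCharacter H → ℤ} {x : IrrCharacter H → ℤ} (hx : x ∈ rad A) (y : IrrCharacter H → ℤ) : mbil A x y = 0 := by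
  rw [mbil_An]
  exact Finset.sum_eq_zero fun η _ => by rw [hx η, zero_mul]

theorem mem_rad_iff (hM : IsPModular p M) {b : Set (IrrCharacter H)} (hb : IsPBlock M b) {x : IrrCharacter H → ℤ} :
    x ∈ rad (cA p b) ↔ mbil (cA p b) x x = 0 := by
  refine ⟨fun h => mbil_rad h x, fun h => ?_⟩
  have h1 := mbil_idem hM hb x x
  rw [h, mul_zero] at h1
  intro η
  have h2 := (Finset.sum_eq_zero_iff_of_nonneg (fun η _ => mul_self_nonneg (An (cA p b) x η))).1 h1.symm η (Finset.mem_univ _)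
  exact mul_self_eq_zero.1 h2

/-- normalised degree -/
noncomputable def rr (p : ℕ) (b : Set (IrrCharacter H)) (ζ : IrrCharacter H) : ℂ :=
  ((p ^ blockDefect p b * charDegree (ζ : H → ℂ) : ℕ) : ℂ) / (Nat.card H : ℂ)

theorem rr_mem (hM : IsPModular p M) {b : Set (IrrCharacter H)} {ζ : IrrCharacter H} (hζ : ζ ∈ b) : MemLocalRing M (rr p b ζ) := by
  apply memLocalRing_div hM (Nat.mul_ne_zero (pow_ne_zero _ hp.out.ne_zero) (charDegree_ne_zero ζ)) Nat.card_pos.ne'
  rw [Nat.factorization_mul (pow_ne_zero _ hp.out.ne_zero) (charDegree_ne_zero ζ), Finsupp.add_apply, Nat.factorization_pow,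
    Finsupp.smul_apply, Nat.Prime.factorization_self hp.out, smul_eq_mul, mul_one]
  have := degree_eq (p := p) hζ
  omega

/-- the form has rank one modulo `p` -/
theorem cA_cong (hM : IsPModular p M) {b : Set (IrrCharacter H)} (hb : IsPBlock M b) : ∃ κ : ℂ, MemLocalRing M κ ∧ ¬ MemLocalIdeal M κ ∧
    ∀ ζ ∈ b, ∀ ξ ∈ b, MemLocalIdeal M ((cA p b ζ ξ : ℂ) - κ * rr p b ζ * rr p b ξ) := by
  haveI := IsPModular.isPrime hM
  obtain ⟨ξ₀, hξ₀, h0⟩ := exists_height_zero p (B := b) (IsPBlock.nonempty hb)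
  set κ₀ : ℂ := om (ξ₀ : H → ℂ) (zreg p (ξ₀ : H → ℂ)) with hκ₀
  have hκne : ¬ MemLocalIdeal M κ₀ := om_zreg_height_zero hM hb hξ₀ hξ₀ h0
  have hκR : MemLocalRing M κ₀ := memLocalRing_om_zreg ξ₀ ξ₀
  have hC : (Nat.card H : ℂ) ≠ 0 := by exact_mod_cast Nat.card_pos.ne'
  have hpd : ((p : ℂ) ^ blockDefect p b) ≠ 0 := pow_ne_zero _ (by exact_mod_cast hp.out.ne_zero)
  have hd0 : (charDegree (ξ₀ : H → ℂ) : ℂ) ≠ 0 := by exact_mod_cast charDegree_ne_zero ξ₀
  set U : ℂ := (Nat.card H : ℂ) / ((p ^ blockDefect p b * charDegree (ξ₀ : H → ℂ) : ℕ) : ℂ) with hU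
  have hUr : U * rr p b ξ₀ = 1 := by
    rw [hU, rr]
    push_cast
    field_simp
  have hUR : MemLocalRing M U := by
    apply memLocalRing_div hM Nat.card_pos.ne' (Nat.mul_ne_zero (pow_ne_zero _ hp.out.ne_zero) (charDegree_ne_zero ξ₀))
    rw [Nat.factorization_mul (pow_ne_zero _ hp.out.ne_zero) (charDegree_ne_zero ξ₀), Finsupp.add_apply, Nat.factorization_pow,
      Finsupp.smul_apply, Nat.Prime.factorization_self hp.out, smul_eq_mul, mul_one]
    have := degree_eq (p := p) hξ₀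
    omega
  have hUne : ¬ MemLocalIdeal M U := by
    intro h
    have h1 := MemLocalIdeal.mul_right h (rr_mem hM hξ₀)
    rw [hUr] at h1
    exact not_memLocalIdeal_one h1
  refine ⟨κ₀ * U, MemLocalRing.mul hκR hUR, ?_, ?_⟩
  · intro h
    rcases (memLocalIdeal_mul_iff hκR hUR).1 h with h | h
    · exact hκne h
    · exact hUne h
  intro ζ hζ ξ hξ
  have hdζ : (charDegree (ζ : H → ℂ) : ℂ) ≠ 0 := by exact_mod_cast charDegree_ne_zero ζ
  have h1 : (cA p b ζ ξ : ℂ) = rr p b ζ * om (ζ : H → ℂ) (zreg p (ξ : H → ℂ)) := by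
    have h2 := cA_spec hM hb hζ hξ
    rw [om_zreg (IsIrr.isCharacter ξ.2), rr, (IsIrr.one_eq ζ.2).1]
    push_cast
    field_simp
    rw [mul_comm, ← h2]
  have h3 : MemLocalIdeal M (om (ζ : H → ℂ) (zreg p (ξ : H → ℂ)) - om (ξ₀ : H → ℂ) (zreg p (ξ : H → ℂ))) :=
    sameBlock_om ζ.2 ξ₀.2 ((IsPBlock.mem_iff hb hζ).1 hξ₀) (isCen_zreg (IsIrr.isClassFunction ξ.2))
      (inS_zreg fun x => memLocalRing_char (IsIrr.isCharacter ξ.2) x)
  have h4 : MemLocalIdeal M (om (ξ : H → ℂ) (zreg p (ξ₀ : H → ℂ)) - κ₀) :=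
    sameBlock_om ξ.2 ξ₀.2 ((IsPBlock.mem_iff hb hξ).1 hξ₀) (isCen_zreg (IsIrr.isClassFunction ξ₀.2))
      (inS_zreg fun x => memLocalRing_char (IsIrr.isCharacter ξ₀.2) x)
  have h5 := om_zreg_swap (p := p) ξ₀ ξ
  have h6 : (charDegree (ξ : H → ℂ) : ℂ) / (charDegree (ξ₀ : H → ℂ) : ℂ) = U * rr p b ξ := by
    rw [hU, rr]; push_cast; field_simp
  rw [h6] at h5
  have h7 : (cA p b ζ ξ : ℂ) - κ₀ * U * rr p b ζ * rr p b ξ =
      rr p b ζ * (om (ζ : H → ℂ) (zreg p (ξ : H → ℂ)) - om (ξ₀ : H → ℂ) (zreg p (ξ : H → ℂ))) +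
      rr p b ζ * (U * rr p b ξ) * (om (ξ : H → ℂ) (zreg p (ξ₀ : H → ℂ)) - κ₀) := by
    rw [h1, h5]; ring
  rw [h7]
  exact MemLocalIdeal.add (MemLocalIdeal.mul_left (rr_mem hM hζ) h3)
    (MemLocalIdeal.mul_left (MemLocalRing.mul (rr_mem hM hζ) (MemLocalRing.mul hUR (rr_mem hM hξ))) h4)

open Classical in
/-- normalised degree of a generalized character -/
noncomputable def vv (p : ℕ) (b : Set (IrrCharacter H)) (x : IrrCharacter H → ℤ) : ℂ :=
  ∑ ζ : IrrCharacter H, if ζ ∈ b then (x ζ : ℂ) * rr p b ζ else 0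

theorem vv_add (b : Set (IrrCharacter H)) (x y : IrrCharacter H → ℤ) : vv p b (x + y) = vv p b x + vv p b y := by
  classical
  rw [vv, vv, vv, ← Finset.sum_add_distrib]
  refine Finset.sum_congr rfl fun ζ _ => ?_
  split_ifs
  · rw [Pi.add_apply]; push_cast; ring
  · simp

theorem vv_neg (b : Set (IrrCharacter H)) (x : IrrCharacter H → ℤ) : vv p b (-x) = - vv p b x := by
  classical
  rw [vv, vv, ← Finset.sum_neg_distrib]
  refine Finset.sum_congr rfl fun ζ _ => ?_
  split_ifs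
  · rw [Pi.neg_apply]; push_cast; ring
  · simp

theorem vv_mem (hM : IsPModular p M) (b : Set (IrrCharacter H)) (x : IrrCharacter H → ℤ) : MemLocalRing M (vv p b x) := by
  classical
  haveI := IsPModular.isPrime hM
  refine memLocalRing_sum _ _ fun ζ _ => ?_
  split_ifs with h
  · exact MemLocalRing.mul (memLocalRing_intCast _) (rr_mem hM h)
  · exact memLocalRing_zero

/-- the generalized characters with normalised degree in `M` -/
noncomputable def Sv (hM : IsPModular p M) (b : Set (IrrCharacter H)) : AddSubgroup (IrrCharacter H → ℤ) where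
  carrier := {x | MemLocalIdeal M (vv p b x)}
  zero_mem' := by
    haveI := IsPModular.isPrime hM
    have h : vv p b (0 : IrrCharacter H → ℤ) = 0 := by simp [vv]
    show MemLocalIdeal M (vv p b 0)
    rw [h]; exact memLocalIdeal_zero
  add_mem' := by
    haveI := IsPModular.isPrime hM
    intro x y hx hy
    show MemLocalIdeal M (vv p b (x + y))
    rw [vv_add]; exact MemLocalIdeal.add hx hy
  neg_mem' := by
    haveI := IsPModular.isPrime hM
    intro x hx
    show MemLocalIdeal M (vv p b (-x))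
    rw [vv_neg]; exact MemLocalIdeal.neg hx

theorem mem_Sv (hM : IsPModular p M) {b : Set (IrrCharacter H)} {x : IrrCharacter H → ℤ} : x ∈ Sv hM b ↔ MemLocalIdeal M (vv p b x) := Iff.rfl

theorem smul_mem_Sv (hM : IsPModular p M) (b : Set (IrrCharacter H)) (x : IrrCharacter H → ℤ) : p • x ∈ Sv hM b := by
  haveI := IsPModular.isPrime hM
  rw [mem_Sv]
  have h : vv p b (p • x) = (p : ℂ) * vv p b x := by
    classical
    rw [vv, vv, Finset.mul_sum]
    refine Finset.sum_congr rfl fun ζ _ => ?_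
    split_ifs
    · rw [Pi.smul_apply, nsmul_eq_mul]; push_cast; ring
    · simp
  rw [h]
  exact MemLocalIdeal.mul_right (memLocalIdeal_p hM) (vv_mem hM b x)

/-- contraction modulo `M` -/
theorem An_cong (hM : IsPModular p M) {b : Set (IrrCharacter H)} {κ : ℂ}
    (hκ : ∀ ζ ∈ b, ∀ ξ ∈ b, MemLocalIdeal M ((cA p b ζ ξ : ℂ) - κ * rr p b ζ * rr p b ξ)) (x : IrrCharacter H → ℤ)
    {η : IrrCharacter H} (hη : η ∈ b) : MemLocalIdeal M ((An (cA p b) x η : ℂ) - κ * vv p b x * rr p b η) := by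
  classical
  haveI := IsPModular.isPrime hM
  have h1 : (An (cA p b) x η : ℂ) - κ * vv p b x * rr p b η = ∑ ζ : IrrCharacter H, if ζ ∈ b then
      (x ζ : ℂ) * ((cA p b ζ η : ℂ) - κ * rr p b ζ * rr p b η) else 0 := by
    rw [An, vv, Int.cast_sum, Finset.mul_sum, Finset.sum_mul, ← Finset.sum_sub_distrib]
    refine Finset.sum_congr rfl fun ζ _ => ?_
    split_ifs with h
    · push_cast; ring
    · rw [cA_off (Or.inl h)]; simp
  rw [h1]
  refine memLocalIdeal_sum _ _ fun ζ _ => ?_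
  split_ifs with h
  · exact MemLocalIdeal.mul_left (memLocalRing_intCast _) (hκ ζ h η hη)
  · exact memLocalIdeal_zero

theorem mem_Sv_iff_dvd (hM : IsPModular p M) {b : Set (IrrCharacter H)} (hb : IsPBlock M b) {x : IrrCharacter H → ℤ} :
    x ∈ Sv hM b ↔ (p : ℤ) ∣ mbil (cA p b) x x := by
  classical
  haveI := IsPModular.isPrime hM
  obtain ⟨κ, hκR, hκne, hκ⟩ := cA_cong hM hb
  have h1 : MemLocalIdeal M ((mbil (cA p b) x x : ℂ) - κ * vv p b x * vv p b x) := by
    have h2 : (mbil (cA p b) x x : ℂ) - κ * vv p b x * vv p b x = ∑ η : IrrCharacter H, if η ∈ b then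
        ((An (cA p b) x η : ℂ) - κ * vv p b x * rr p b η) * (x η : ℂ) else 0 := by
      have hv : κ * vv p b x * vv p b x = κ * vv p b x * (∑ ζ : IrrCharacter H, if ζ ∈ b then (x ζ : ℂ) * rr p b ζ else 0) := by
        rw [vv]
      rw [mbil_An, hv, Int.cast_sum, Finset.mul_sum, ← Finset.sum_sub_distrib]
      refine Finset.sum_congr rfl fun η _ => ?_
      split_ifs with h
      · push_cast; ring
      · have h3 : An (cA p b) x η = 0 := by
          rw [An]; exact Finset.sum_eq_zero fun ζ _ => by rw [cA_off (Or.inr h), mul_zero]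
        rw [h3]; simp
    rw [h2]
    refine memLocalIdeal_sum _ _ fun η _ => ?_
    split_ifs with h
    · exact MemLocalIdeal.mul_right (An_cong hM hκ x h) (memLocalRing_intCast _)
    · exact memLocalIdeal_zero
  rw [mem_Sv, ← memLocalIdeal_intCast_iff hM]
  constructor
  · intro h
    have h3 := MemLocalIdeal.add h1 (MemLocalIdeal.mul_left (MemLocalRing.mul hκR (vv_mem hM b x)) h)
    rwa [sub_add_cancel] at h3
  · intro h
    have h3 := MemLocalIdeal.sub h h1
    rw [sub_sub_cancel] at h3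
    rcases (memLocalIdeal_mul_iff (MemLocalRing.mul hκR (vv_mem hM b x)) (vv_mem hM b x)).1 h3 with h4 | h4
    · rcases (memLocalIdeal_mul_iff hκR (vv_mem hM b x)).1 h4 with h5 | h5
      · exact absurd h5 hκne
      · exact h5
    · exact h4

end block

end CfsgSub
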