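import Cfsg.Agent.H4.Sub2

/-!
# Subsections: the vectors of generalized decomposition numbers and the basic counting bounds
-/

set_option autoImplicit false
open Cfsg MonoidAlgebra CfsgH5
open CfsgH4 hiding centralChar sum_conj regInner_symm

namespace CfsgSub

open scoped ComplexConjugate

variable {G : Type*} [Group G] [Finite G] {p : ℕ} [hp : Fact p.Prime] {M : Ideal AlgInt} {C : Subgroup G} [Fintype C]

/-- integer multiplicities -/
noncomputable def mz (C : Subgroup G) [Fintype C] (χ : G → ℂ) (ζ : IrrCharacter C) : ℤ := ⌊(CfsgH5.mlt C χ ζ).re⌋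

theorem mz_spec (χ : IrrCharacter G) (ζ : IrrCharacter C) : CfsgH5.mlt C (χ : G → ℂ) ζ = (mz C (χ : G → ℂ) ζ : ℂ) := by
  obtain ⟨n, hn⟩ := mlt_nat (C := C) (IsIrr.isCharacter χ.2) ζ
  rw [mz, hn, Complex.natCast_re]
  simp

theorem ctr_mz (hM : IsPModular p M) {u : C} (hu : u ∈ Subgroup.center C) {b : Set (IrrCharacter C)} (hb : IsPBlock M b)
    (χ ψ : IrrCharacter G) (k : ℕ) :
    (p : ℂ) ^ blockDefect p b * ctr p (u ^ k) b (χ : G → ℂ) (ψ : G → ℂ) =
      ∑ ζ : IrrCharacter C, ∑ ξ : IrrCharacter C, ((mz C (χ : G → ℂ) ζ * mz C (ψ : G → ℂ) ξ * cA p b ζ ξ : ℤ) : ℂ) * (wt u ζ * conj (wt u ξ)) ^ k := by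
  classical
  have hC : (Nat.card C : ℂ) ≠ 0 := by exact_mod_cast Nat.card_pos.ne'
  rw [ctr_expand (Subgroup.pow_mem _ hu k), ← mul_assoc, Finset.mul_sum]
  refine Finset.sum_congr rfl fun ζ _ => ?_
  rw [Finset.mul_sum]
  refine Finset.sum_congr rfl fun ξ _ => ?_
  by_cases h : ζ ∈ b ∧ ξ ∈ b
  · rw [if_pos h, mz_spec, mz_spec, wt_pow hu, wt_pow hu]
    have h1 := cA_spec hM hb h.1 h.2
    have h2 : (p : ℂ) ^ blockDefect p b * (Nat.card C : ℂ)⁻¹ * ((mz C (χ : G → ℂ) ζ : ℂ) * (mz C (ψ : G → ℂ) ξ : ℂ) *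
        (wt u ζ ^ k * conj (wt u ξ ^ k)) * regInner p (ζ : C → ℂ) (ξ : C → ℂ)) =
        (Nat.card C : ℂ)⁻¹ * ((mz C (χ : G → ℂ) ζ : ℂ) * (mz C (ψ : G → ℂ) ξ : ℂ) * (wt u ζ ^ k * conj (wt u ξ ^ k))) *
          ((p : ℂ) ^ blockDefect p b * regInner p (ζ : C → ℂ) (ξ : C → ℂ)) := by ring
    rw [h2, h1, mul_pow, ← map_pow]
    push_cast
    field_simp
  · rw [if_neg h, cA_off (by by_contra hc; push Not at hc; exact h hc)]
    simp

/-- the pairing of the `b`-part of `χ` at `u` with the generalized character `x` -/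
noncomputable def aF (p : ℕ) (u : C) (b : Set (IrrCharacter C)) (χ : G → ℂ) (x : IrrCharacter C → ℤ) : ℂ :=
  ∑ ζ : IrrCharacter C, CfsgH5.mlt C χ ζ * wt u ζ * (An (cA p b) x ζ : ℂ)

theorem aF_sq {u : C} (hu : u ∈ Subgroup.center C) {b : Set (IrrCharacter C)} (χ : IrrCharacter G) (x : IrrCharacter C → ℤ) (k : ℕ) :
    aF p (u ^ k) b (χ : G → ℂ) x * conj (aF p (u ^ k) b (χ : G → ℂ) x) =
      ∑ ζ : IrrCharacter C, ∑ ξ : IrrCharacter C, ((mz C (χ : G → ℂ) ζ * mz C (χ : G → ℂ) ξ * (An (cA p b) x ζ * An (cA p b) x ξ) : ℤ) : ℂ) *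
        (wt u ζ * conj (wt u ξ)) ^ k := by
  rw [aF, map_sum, Finset.sum_mul_sum]
  refine Finset.sum_congr rfl fun ζ _ => Finset.sum_congr rfl fun ξ _ => ?_
  rw [mz_spec, mz_spec, wt_pow hu, wt_pow hu, map_mul, map_mul, map_pow, ← Complex.ofReal_intCast (mz C _ ξ), ← Complex.ofReal_intCast (An _ _ ξ),
    Complex.conj_ofReal, Complex.conj_ofReal, mul_pow]
  push_cast
  ring

open Classical in
/-- a function on `G` with prescribed `b`-part -/
noncomputable def phx (u : C) (x : IrrCharacter C → ℤ) : G → ℂ := fun g =>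
  if h : g ∈ C then ∑ ξ : IrrCharacter C, (x ξ : ℂ) * conj (wt u ξ) * (ξ : C → ℂ) ⟨g, h⟩ else 0

theorem mlt_phx (u : C) (x : IrrCharacter C → ℤ) (ζ : IrrCharacter C) : CfsgH5.mlt C (phx u x) ζ = (x ζ : ℂ) * conj (wt u ζ) := by
  classical
  have h1 : (fun c : C => phx u x (c : G)) = ∑ ξ : IrrCharacter C, ((x ξ : ℂ) * conj (wt u ξ)) • (ξ : C → ℂ) := by
    funext c
    rw [phx, dif_pos c.2, Finset.sum_apply]
    rfl
  rw [CfsgH5.mlt, h1, classInner_sum_smul]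

theorem ctr_phx (hM : IsPModular p M) {u : C} (hu : u ∈ Subgroup.center C) {b : Set (IrrCharacter C)} (hb : IsPBlock M b)
    (χ : G → ℂ) (x : IrrCharacter C → ℤ) : (p : ℂ) ^ blockDefect p b * ctr p u b χ (phx u x) = aF p u b χ x := by
  classical
  have hC : (Nat.card C : ℂ) ≠ 0 := by exact_mod_cast Nat.card_pos.ne'
  have hX : ∀ y : C, Xf u b (phx u x) y = ∑ ξ : IrrCharacter C, if ξ ∈ b then (x ξ : ℂ) * (ξ : C → ℂ) y else 0 := by
    intro y
    rw [Xf_wt hu]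
    refine Finset.sum_congr rfl fun ξ _ => ?_
    split_ifs
    · rw [mlt_phx]
      have := wt_conj hu ξ
      calc (x ξ : ℂ) * conj (wt u ξ) * wt u ξ * (ξ : C → ℂ) y = (x ξ : ℂ) * (wt u ξ * conj (wt u ξ)) * (ξ : C → ℂ) y := by ring
        _ = _ := by rw [this, mul_one]
    · rfl
  have h1 : ∀ y : C, (if p ∣ orderOf y then 0 else Xf u b χ y * conj (Xf u b (phx u x) y)) =
      ∑ ζ : IrrCharacter C, ∑ ξ : IrrCharacter C, if ζ ∈ b ∧ ξ ∈ b then CfsgH5.mlt C χ ζ * wt u ζ * (x ξ : ℂ) *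
        (if p ∣ orderOf y then 0 else (ζ : C → ℂ) y * conj ((ξ : C → ℂ) y)) else 0 := by
    intro y
    by_cases hy : p ∣ orderOf y
    · simp [hy]
    · simp only [if_neg hy]
      rw [Xf_wt hu, hX, map_sum, Finset.sum_mul]
      refine Finset.sum_congr rfl fun ζ _ => ?_
      rw [Finset.mul_sum]
      refine Finset.sum_congr rfl fun ξ _ => ?_
      by_cases h1 : ζ ∈ b
      · by_cases h2 : ξ ∈ b
        · rw [if_pos h1, if_pos h2, if_pos ⟨h1, h2⟩, map_mul, ← Complex.ofReal_intCast, Complex.conj_ofReal]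
          ring
        · simp [h2]
      · simp [h1]
  rw [ctr, Finset.sum_congr rfl fun y _ => h1 y, Finset.sum_comm, aF, Finset.mul_sum, Finset.mul_sum]
  refine Finset.sum_congr rfl fun ζ _ => ?_
  rw [Finset.sum_comm, An, Int.cast_sum, Finset.mul_sum, Finset.mul_sum, Finset.mul_sum]
  refine Finset.sum_congr rfl fun ξ _ => ?_
  by_cases h : ζ ∈ b ∧ ξ ∈ b
  · simp only [if_pos h]
    rw [← Finset.mul_sum]
    have h2 := cA_spec hM hb h.1 h.2
    have h3 : (∑ y : C, if p ∣ orderOf y then 0 else (ζ : C → ℂ) y * conj ((ξ : C → ℂ) y)) = regInner p (ζ : C → ℂ) (ξ : C → ℂ) := rfl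
    rw [h3, cA_symm ξ ζ]
    have h4 : (p : ℂ) ^ blockDefect p b * ((Nat.card C : ℂ)⁻¹ * (CfsgH5.mlt C χ ζ * wt u ζ * (x ξ : ℂ) * regInner p (ζ : C → ℂ) (ξ : C → ℂ))) =
        (Nat.card C : ℂ)⁻¹ * (CfsgH5.mlt C χ ζ * wt u ζ * (x ξ : ℂ)) * ((p : ℂ) ^ blockDefect p b * regInner p (ζ : C → ℂ) (ξ : C → ℂ)) := by ring
    rw [h4, h2]
    push_cast
    field_simp
  · simp only [if_neg h]
    rw [cA_off (by by_contra hc; push Not at hc; exact h ⟨hc.2, hc.1⟩)]
    simp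

theorem aF_phx {u : C} (hu : u ∈ Subgroup.center C) {b : Set (IrrCharacter C)} (x : IrrCharacter C → ℤ) :
    aF p u b (phx u x) x = (mbil (cA p b) x x : ℂ) := by
  rw [aF, mbil_An, Int.cast_sum]
  refine Finset.sum_congr rfl fun ζ _ => ?_
  rw [mlt_phx]
  have := wt_conj hu ζ
  calc (x ζ : ℂ) * conj (wt u ζ) * wt u ζ * (An (cA p b) x ζ : ℂ) = (x ζ : ℂ) * (wt u ζ * conj (wt u ζ)) * (An (cA p b) x ζ : ℂ) := by ring
    _ = _ := by rw [this]; push_cast; ring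

/-- orthogonality for the pairings -/
theorem sum_aF (hM : IsPModular p M) {u : C} (hC : C = Subgroup.centralizer ({(u : G)} : Set G))
    (hup : ∃ k, orderOf (u : G) = p ^ k) {b : Set (IrrCharacter C)} (hb : IsPBlock M b) (x : IrrCharacter C → ℤ) :
    ∑ χ : IrrCharacter G, aF p u b (χ : G → ℂ) x * conj (aF p u b (χ : G → ℂ) x) = (p : ℂ) ^ blockDefect p b * (mbil (cA p b) x x : ℂ) := by
  have hu := mem_center_of_eq hC
  have h1 : ∀ χ : IrrCharacter G, aF p u b (χ : G → ℂ) x * conj (aF p u b (χ : G → ℂ) x) =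
      ((p : ℂ) ^ blockDefect p b) ^ 2 * (ctr p u b (phx u x) (χ : G → ℂ) * ctr p u b (χ : G → ℂ) (phx u x)) := by
    intro χ
    rw [← ctr_phx hM hu hb, map_mul, ctr_conj, map_pow, Complex.conj_natCast]
    ring
  rw [Finset.sum_congr rfl fun χ _ => h1 χ, ← Finset.mul_sum, ctr_idem hM hC hup hb, sq, mul_assoc, ctr_phx hM hu hb, aF_phx hu]

/-- nonvanishing modulo `M` -/
theorem aF_not_mem (hM : IsPModular p M) {u : C} (hu : u ∈ Subgroup.center C) (hup : ∃ k, orderOf (u : G) = p ^ k)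
    {b : Set (IrrCharacter C)} {B : Set (IrrCharacter G)} (hind : IsInducedBlock M C b B) {χ : IrrCharacter G} (hχ : χ ∈ B)
    (h0 : blockHeight p B (χ : G → ℂ) = 0) {x : IrrCharacter C → ℤ} (hx : x ∉ Sv hM b) : ¬ MemLocalIdeal M (aF p u b (χ : G → ℂ) x) := by
  classical
  haveI := IsPModular.isPrime hM
  have hb := hind.1
  obtain ⟨κ, hκR, hκne, hκ⟩ := cA_cong hM hb
  have hR := degree_bpart hM hind hχ h0
  set R : ℂ := ∑ ζ : IrrCharacter C, if ζ ∈ b then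
      CfsgH5.mlt C (χ : G → ℂ) ζ * (((p ^ blockDefect p b * charDegree (ζ : C → ℂ) : ℕ) : ℂ) / (Nat.card C : ℂ)) else 0 with hRdef
  have hRR : MemLocalRing M R := by
    rw [hRdef]
    refine memLocalRing_sum _ _ fun ζ _ => ?_
    split_ifs with hζ
    · rw [mz_spec]
      exact MemLocalRing.mul (memLocalRing_intCast _) (rr_mem hM hζ)
    · exact memLocalRing_zero
  have hkey : MemLocalIdeal M (aF p u b (χ : G → ℂ) x - κ * vv p b x * R) := by
    have h1 : aF p u b (χ : G → ℂ) x - κ * vv p b x * R = ∑ ζ : IrrCharacter C, if ζ ∈ b then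
        (mz C (χ : G → ℂ) ζ : ℂ) * (wt u ζ * ((An (cA p b) x ζ : ℂ) - κ * vv p b x * rr p b ζ) + (wt u ζ - 1) * (κ * vv p b x * rr p b ζ)) else 0 := by
      rw [aF, hRdef, Finset.mul_sum, ← Finset.sum_sub_distrib]
      refine Finset.sum_congr rfl fun ζ _ => ?_
      by_cases hζ : ζ ∈ b
      · rw [if_pos hζ, if_pos hζ, mz_spec, ← rr]; ring
      · rw [if_neg hζ, if_neg hζ]
        have h3 : An (cA p b) x ζ = 0 := by
          rw [An]; exact Finset.sum_eq_zero fun ξ _ => by rw [cA_off (Or.inr hζ), mul_zero]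
        rw [h3]; simp
    rw [h1]
    refine memLocalIdeal_sum _ _ fun ζ _ => ?_
    split_ifs with hζ
    · obtain ⟨w1, w2, -⟩ := wt_cong hM hu hup ζ
      exact MemLocalIdeal.mul_left (memLocalRing_intCast _) (MemLocalIdeal.add (MemLocalIdeal.mul_left w1 (An_cong hM hκ x hζ))
        (MemLocalIdeal.mul_right w2 (MemLocalRing.mul (MemLocalRing.mul hκR (vv_mem hM b x)) (rr_mem hM hζ))))
    · exact memLocalIdeal_zero
  refine not_memLocalIdeal_of_sub hkey ?_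
  intro h
  rcases (memLocalIdeal_mul_iff (MemLocalRing.mul hκR (vv_mem hM b x)) hRR).1 h with h | h
  · rcases (memLocalIdeal_mul_iff hκR (vv_mem hM b x)).1 h with h | h
    · exact hκne h
    · exact hx h
  · exact hR h

theorem mz_not_mem (hM : IsPModular p M) {b : Set (IrrCharacter C)} {B : Set (IrrCharacter G)} (hind : IsInducedBlock M C b B)
    {χ : IrrCharacter G} (hχ : χ ∈ B) (h0 : blockHeight p B (χ : G → ℂ) = 0) : (mz C (χ : G → ℂ)) ∉ Sv hM b := by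
  classical
  intro h
  apply degree_bpart hM hind hχ h0
  rw [mem_Sv, vv] at h
  have h1 : (∑ ζ : IrrCharacter C, if ζ ∈ b then
      CfsgH5.mlt C (χ : G → ℂ) ζ * (((p ^ blockDefect p b * charDegree (ζ : C → ℂ) : ℕ) : ℂ) / (Nat.card C : ℂ)) else 0) =
      ∑ ζ : IrrCharacter C, if ζ ∈ b then (mz C (χ : G → ℂ) ζ : ℂ) * rr p b ζ else 0 := by
    refine Finset.sum_congr rfl fun ζ _ => ?_
    split_ifs
    · rw [mz_spec, rr]
    · rfl
  rw [h1]; exact h

end CfsgSub
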