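import Cfsg.Agent.H4.Sub3

/-!
# Subsections: the counting bounds
-/

set_option autoImplicit false
open Cfsg MonoidAlgebra CfsgH5
open CfsgH4 hiding centralChar sum_conj regInner_symm

namespace CfsgSub

open scoped ComplexConjugate

variable {G : Type*} [Group G] [Finite G] {p : ℕ} [hp : Fact p.Prime] {M : Ideal AlgInt} {C : Subgroup G} [Fintype C]

theorem ctr_re_nonneg (u : C) (b : Set (IrrCharacter C)) (χ : G → ℂ) : 0 ≤ (ctr p u b χ χ).re := by
  classical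
  have h1 : ctr p u b χ χ = (((Nat.card C : ℝ)⁻¹ * ∑ x : C, if p ∣ orderOf x then (0 : ℝ) else ‖Xf u b χ x‖ ^ 2 : ℝ) : ℂ) := by
    rw [ctr]
    push_cast
    congr 1
    refine Finset.sum_congr rfl fun x _ => ?_
    split_ifs
    · simp
    · rw [Complex.mul_conj, Complex.normSq_eq_norm_sq, Complex.ofReal_pow]
  rw [h1, Complex.ofReal_re]
  apply mul_nonneg (by positivity)
  refine Finset.sum_nonneg fun x _ => ?_
  split_ifs
  · exact le_refl _
  · positivity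

theorem ctr_im (u : C) (b : Set (IrrCharacter C)) (χ : G → ℂ) : (ctr p u b χ χ).im = 0 := by
  have h1 := ctr_conj (p := p) u b χ χ
  exact Complex.conj_eq_iff_im.1 h1

theorem wt_root {u : C} (hu : u ∈ Subgroup.center C) {N : ℕ} (hN : (u : G) ^ N = 1) (ζ : IrrCharacter C) : wt u ζ ^ N = 1 := by
  have h1 : u ^ N = 1 := Subtype.ext (by rw [Subgroup.coe_pow, hN, Subgroup.coe_one])
  rw [← wt_pow hu, h1, wt, div_self (IsIrr.one_ne_zero ζ.2)]

theorem conj_data {u : C} (hC : C = Subgroup.centralizer ({(u : G)} : Set G)) {e : ℕ} (he : (u : G) ^ p ^ (e + 1) = 1) {k : ℕ}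
    (hk : ¬ p ∣ k) : C = Subgroup.centralizer ({((u ^ k : C) : G)} : Set G) ∧ ∃ m, orderOf ((u ^ k : C) : G) = p ^ m := by
  obtain ⟨m, -, hm⟩ := (Nat.dvd_prime_pow hp.out).1 (orderOf_dvd_of_pow_eq_one he)
  have hcop : (orderOf (u : G)).Coprime k := by
    rw [hm]
    exact Nat.Coprime.pow_left _ ((Nat.Prime.coprime_iff_not_dvd hp.out).2 hk)
  constructor
  · rw [Subgroup.coe_pow, centralizer_pow_coprime hcop]
    exact hC
  · exact ⟨m, by rw [Subgroup.coe_pow, Nat.Coprime.orderOf_pow hcop, hm]⟩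

/-- `W` for the form -/
noncomputable def WA (p : ℕ) (e : ℕ) (u : C) (χ : G → ℂ) (A : IrrCharacter C → IrrCharacter C → ℤ) : ℂ :=
  ∑ k ∈ (Finset.range (p ^ (e + 1))).filter (fun k => ¬ p ∣ k),
    ∑ ζ : IrrCharacter C, ∑ ξ : IrrCharacter C, ((mz C χ ζ * mz C χ ξ * A ζ ξ : ℤ) : ℂ) * (wt u ζ * conj (wt u ξ)) ^ k

theorem WA_ctr (hM : IsPModular p M) {u : C} (hu : u ∈ Subgroup.center C) {b : Set (IrrCharacter C)} (hb : IsPBlock M b)
    (χ : IrrCharacter G) (e : ℕ) : WA p e u (χ : G → ℂ) (cA p b) =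
      ∑ k ∈ (Finset.range (p ^ (e + 1))).filter (fun k => ¬ p ∣ k), (p : ℂ) ^ blockDefect p b * ctr p (u ^ k) b (χ : G → ℂ) (χ : G → ℂ) := by
  rw [WA]
  exact Finset.sum_congr rfl fun k _ => (ctr_mz hM hu hb χ χ k).symm

theorem WA_aF {u : C} (hu : u ∈ Subgroup.center C) {b : Set (IrrCharacter C)} (χ : IrrCharacter G) (x : IrrCharacter C → ℤ) (e : ℕ) :
    WA p e u (χ : G → ℂ) (fun ζ ξ => An (cA p b) x ζ * An (cA p b) x ξ) =
      ∑ k ∈ (Finset.range (p ^ (e + 1))).filter (fun k => ¬ p ∣ k), aF p (u ^ k) b (χ : G → ℂ) x * conj (aF p (u ^ k) b (χ : G → ℂ) x) := by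
  rw [WA]
  exact Finset.sum_congr rfl fun k _ => (aF_sq hu χ x k).symm

theorem card_R (e : ℕ) : (((Finset.range (p ^ (e + 1))).filter (fun k => ¬ p ∣ k)).card : ℝ) = (p : ℝ) ^ e * ((p : ℝ) - 1) := by
  rw [card_coprime_range hp.out, Nat.cast_mul, Nat.cast_pow, Nat.cast_sub hp.out.one_le, Nat.cast_one]

theorem phi_pos (p : ℕ) [hp : Fact p.Prime] (e : ℕ) : (0 : ℝ) < (p : ℝ) ^ e * ((p : ℝ) - 1) := by
  have h1 : (2 : ℝ) ≤ p := by exact_mod_cast hp.out.two_le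
  have h2 : (0 : ℝ) < (p : ℝ) ^ e := by positivity
  exact mul_pos h2 (by linarith)

theorem re_natpow_mul (n : ℕ) (z : ℂ) : ((p : ℂ) ^ n * z).re = (p : ℝ) ^ n * z.re := by
  rw [← Complex.ofReal_natCast, ← Complex.ofReal_pow, Complex.re_ofReal_mul]

theorem trace_bound (hM : IsPModular p M) {u : C} (hC : C = Subgroup.centralizer ({(u : G)} : Set G)) {e : ℕ} (he : (u : G) ^ p ^ (e + 1) = 1)
    {b : Set (IrrCharacter C)} (hb : IsPBlock M b) (T : Finset (IrrCharacter G)) (τ : ℤ)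
    (h : ∀ χ ∈ T, (p : ℝ) ^ e * ((p : ℝ) - 1) * τ ≤ (WA p e u (χ : G → ℂ) (cA p b)).re) :
    (T.card : ℤ) * τ ≤ blockRank p b * (p : ℤ) ^ blockDefect p b := by
  have hu := mem_center_of_eq hC
  have hnn : ∀ χ : IrrCharacter G, 0 ≤ (WA p e u (χ : G → ℂ) (cA p b)).re := by
    intro χ
    rw [WA_ctr hM hu hb, Complex.re_sum]
    refine Finset.sum_nonneg fun k _ => ?_
    rw [re_natpow_mul]
    exact mul_nonneg (by positivity) (ctr_re_nonneg _ _ _)
  have h1 : ∑ χ : IrrCharacter G, (WA p e u (χ : G → ℂ) (cA p b)).re = (p : ℝ) ^ e * ((p : ℝ) - 1) * ((p : ℝ) ^ blockDefect p b * blockRank p b) := by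
    rw [← card_R (p := p) e, ← Complex.re_sum]
    have h2 : ∑ χ : IrrCharacter G, WA p e u (χ : G → ℂ) (cA p b) =
        ∑ k ∈ (Finset.range (p ^ (e + 1))).filter (fun k => ¬ p ∣ k), (p : ℂ) ^ blockDefect p b * (blockRank p b : ℂ) := by
      rw [Finset.sum_congr rfl fun χ _ => WA_ctr hM hu hb χ e, Finset.sum_comm]
      refine Finset.sum_congr rfl fun k hk => ?_
      obtain ⟨h3, h4⟩ := conj_data hC he (Finset.mem_filter.1 hk).2
      rw [← Finset.mul_sum, ctr_trace hM h3 h4 hb]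
    rw [h2, Finset.sum_const, nsmul_eq_mul, ← Complex.ofReal_natCast, Complex.re_ofReal_mul, re_natpow_mul, Complex.natCast_re]
  have h2 : (T.card : ℝ) * ((p : ℝ) ^ e * ((p : ℝ) - 1) * τ) ≤ ∑ χ : IrrCharacter G, (WA p e u (χ : G → ℂ) (cA p b)).re := by
    calc (T.card : ℝ) * ((p : ℝ) ^ e * ((p : ℝ) - 1) * τ) = ∑ χ ∈ T, ((p : ℝ) ^ e * ((p : ℝ) - 1) * τ) := by rw [Finset.sum_const, nsmul_eq_mul]
      _ ≤ ∑ χ ∈ T, (WA p e u (χ : G → ℂ) (cA p b)).re := Finset.sum_le_sum h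
      _ ≤ _ := Finset.sum_le_univ_sum_of_nonneg hnn
  rw [h1] at h2
  have h3 : (T.card : ℝ) * τ ≤ blockRank p b * (p : ℝ) ^ blockDefect p b := by
    have h4 : ((p : ℝ) ^ e * ((p : ℝ) - 1)) * ((T.card : ℝ) * τ) ≤ ((p : ℝ) ^ e * ((p : ℝ) - 1)) * (blockRank p b * (p : ℝ) ^ blockDefect p b) := by
      linarith
    exact le_of_mul_le_mul_left h4 (phi_pos p e)
  exact_mod_cast h3

theorem aF_bound (hM : IsPModular p M) {u : C} (hC : C = Subgroup.centralizer ({(u : G)} : Set G)) {e : ℕ} (he : (u : G) ^ p ^ (e + 1) = 1)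
    {b : Set (IrrCharacter C)} (hb : IsPBlock M b) (x : IrrCharacter C → ℤ) (T : Finset (IrrCharacter G))
    (h : ∀ χ ∈ T, (p : ℝ) ^ e * ((p : ℝ) - 1) * ((1 : ℤ) : ℝ) ≤ (WA p e u (χ : G → ℂ) (fun ζ ξ => An (cA p b) x ζ * An (cA p b) x ξ)).re) :
    (T.card : ℤ) ≤ (p : ℤ) ^ blockDefect p b * mbil (cA p b) x x := by
  have hu := mem_center_of_eq hC
  have hnn : ∀ χ : IrrCharacter G, 0 ≤ (WA p e u (χ : G → ℂ) (fun ζ ξ => An (cA p b) x ζ * An (cA p b) x ξ)).re := by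
    intro χ
    rw [WA_aF hu, Complex.re_sum]
    refine Finset.sum_nonneg fun k _ => ?_
    rw [Complex.mul_conj, Complex.ofReal_re]
    exact Complex.normSq_nonneg _
  have h1 : ∑ χ : IrrCharacter G, (WA p e u (χ : G → ℂ) (fun ζ ξ => An (cA p b) x ζ * An (cA p b) x ξ)).re =
      (p : ℝ) ^ e * ((p : ℝ) - 1) * ((p : ℝ) ^ blockDefect p b * mbil (cA p b) x x) := by
    rw [← card_R (p := p) e, ← Complex.re_sum]
    have h2 : ∑ χ : IrrCharacter G, WA p e u (χ : G → ℂ) (fun ζ ξ => An (cA p b) x ζ * An (cA p b) x ξ) =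
        ∑ k ∈ (Finset.range (p ^ (e + 1))).filter (fun k => ¬ p ∣ k), (p : ℂ) ^ blockDefect p b * (mbil (cA p b) x x : ℂ) := by
      rw [Finset.sum_congr rfl fun χ _ => WA_aF hu χ x e, Finset.sum_comm]
      refine Finset.sum_congr rfl fun k hk => ?_
      obtain ⟨h3, h4⟩ := conj_data hC he (Finset.mem_filter.1 hk).2
      exact sum_aF hM h3 h4 hb x
    rw [h2, Finset.sum_const, nsmul_eq_mul, ← Complex.ofReal_natCast, Complex.re_ofReal_mul, re_natpow_mul, Complex.intCast_re]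
  have h2 : (T.card : ℝ) * ((p : ℝ) ^ e * ((p : ℝ) - 1)) ≤ ∑ χ : IrrCharacter G, (WA p e u (χ : G → ℂ) (fun ζ ξ => An (cA p b) x ζ * An (cA p b) x ξ)).re := by
    calc (T.card : ℝ) * ((p : ℝ) ^ e * ((p : ℝ) - 1)) = ∑ χ ∈ T, ((p : ℝ) ^ e * ((p : ℝ) - 1) * ((1 : ℤ) : ℝ)) := by
          rw [Finset.sum_const, nsmul_eq_mul]; push_cast; ring
      _ ≤ ∑ χ ∈ T, (WA p e u (χ : G → ℂ) (fun ζ ξ => An (cA p b) x ζ * An (cA p b) x ξ)).re := Finset.sum_le_sum h
      _ ≤ _ := Finset.sum_le_univ_sum_of_nonneg hnn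
  rw [h1] at h2
  have h3 : (T.card : ℝ) ≤ (p : ℝ) ^ blockDefect p b * mbil (cA p b) x x := by
    have h4 : ((p : ℝ) ^ e * ((p : ℝ) - 1)) * (T.card : ℝ) ≤ ((p : ℝ) ^ e * ((p : ℝ) - 1)) * ((p : ℝ) ^ blockDefect p b * mbil (cA p b) x x) := by
      linarith
    exact le_of_mul_le_mul_left h4 (phi_pos p e)
  exact_mod_cast h3

theorem isBil_sq (f : IrrCharacter C → ℤ) : IsBil (mbil (fun ζ ξ => f ζ * f ξ)) where
  add_left := mbil_add_left _
  symm := mbil_symm (fun ζ ξ => mul_comm _ _)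
  nonneg := by
    intro x
    have h1 : mbil (fun ζ ξ => f ζ * f ξ) x x = (∑ ζ, x ζ * f ζ) ^ 2 := by
      rw [mbil, sq, Finset.sum_mul_sum]
      exact Finset.sum_congr rfl fun ζ _ => Finset.sum_congr rfl fun ξ _ => by ring
    rw [h1]; positivity

theorem mbil_sq (f x : IrrCharacter C → ℤ) : mbil (fun ζ ξ => f ζ * f ξ) x x = (∑ ζ, x ζ * f ζ) ^ 2 := by
  rw [mbil, sq, Finset.sum_mul_sum]
  exact Finset.sum_congr rfl fun ζ _ => Finset.sum_congr rfl fun ξ _ => by ring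

/-- the kernel of a functional -/
def kerF (f : IrrCharacter C → ℤ) : AddSubgroup (IrrCharacter C → ℤ) where
  carrier := {x | ∑ ζ, x ζ * f ζ = 0}
  zero_mem' := by simp
  add_mem' := by
    intro x y hx hy
    have h1 : ∑ ζ, x ζ * f ζ = 0 := hx
    have h2 : ∑ ζ, y ζ * f ζ = 0 := hy
    show ∑ ζ, (x + y) ζ * f ζ = 0
    simp only [Pi.add_apply, add_mul, Finset.sum_add_distrib]
    rw [h1, h2, add_zero]
  neg_mem' := by
    intro x hx
    have h1 : ∑ ζ, x ζ * f ζ = 0 := hx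
    show ∑ ζ, (-x) ζ * f ζ = 0
    simp only [Pi.neg_apply, neg_mul, Finset.sum_neg_distrib]
    rw [h1, neg_zero]

theorem exists_e {u : C} (hup : ∃ k, orderOf (u : G) = p ^ k) : ∃ e, (u : G) ^ p ^ (e + 1) = 1 := by
  obtain ⟨k, hk⟩ := hup
  refine ⟨k, ?_⟩
  rw [pow_succ, pow_mul, ← hk, pow_orderOf_eq_one, one_pow]

open Classical in
/-- (R1a) heights zero, lower bound for the form -/
theorem card_height_zero_mul_le (hM : IsPModular p M) {u : C} (hC : C = Subgroup.centralizer ({(u : G)} : Set G))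
    (hup : ∃ k, orderOf (u : G) = p ^ k) {b : Set (IrrCharacter C)} {B : Set (IrrCharacter G)} (hind : IsInducedBlock M C b B)
    {τ : ℤ} (hτ0 : 0 ≤ τ) (hτ : ∀ x, x ∉ Sv hM b → τ ≤ mbil (cA p b) x x) :
    (Nat.card {χ : IrrCharacter G // χ ∈ B ∧ blockHeight p B (χ : G → ℂ) = 0} : ℤ) * τ ≤ blockRank p b * (p : ℤ) ^ blockDefect p b := by
  have hu := mem_center_of_eq hC
  obtain ⟨e, he⟩ := exists_e (C := C) hup
  have h1 := trace_bound hM hC he hind.1 (Finset.univ.filter (fun χ : IrrCharacter G => χ ∈ B ∧ blockHeight p B (χ : G → ℂ) = 0)) τ (by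
    intro χ hχ
    rw [Finset.mem_filter] at hχ
    exact avg_lower_v hp.out (isBil_cA hM hind.1) (wt u) (wt_root hu he) (mz C (χ : G → ℂ)) (Sv hM b) (smul_mem_Sv hM b) hτ0 hτ
      (mz_not_mem hM hind hχ.2.1 hχ.2.2))
  rwa [Nat.card_eq_fintype_card, Fintype.card_subtype]

/-- auxiliary: nonvanishing of the averaged square -/
theorem aF_lower (hM : IsPModular p M) {u : C} (hC : C = Subgroup.centralizer ({(u : G)} : Set G)) {e : ℕ} (he : (u : G) ^ p ^ (e + 1) = 1)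
    {b : Set (IrrCharacter C)} {χ : IrrCharacter G} {x : IrrCharacter C → ℤ} (hne : aF p u b (χ : G → ℂ) x ≠ 0) :
    (p : ℝ) ^ e * ((p : ℝ) - 1) * ((1 : ℤ) : ℝ) ≤ (WA p e u (χ : G → ℂ) (fun ζ ξ => An (cA p b) x ζ * An (cA p b) x ξ)).re := by
  have hu := mem_center_of_eq hC
  refine avg_lower_ne hp.out (isBil_sq (An (cA p b) x)) (wt u) (wt_root hu he) (mz C (χ : G → ℂ)) (kerF (An (cA p b) x)) ?_ zero_le_one ?_ ?_
  · intro y hy
    rw [mbil_sq]
    have : ∑ ζ, y ζ * An (cA p b) x ζ = 0 := hy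
    rw [this]; norm_num
  · intro y hy
    rw [mbil_sq]
    have h1 : ∑ ζ, y ζ * An (cA p b) x ζ ≠ 0 := hy
    have h2 := sq_pos_of_ne_zero h1
    omega
  · intro hcon
    have h1 := WA_aF (p := p) (b := b) hu χ x e
    rw [WA, hcon] at h1
    have h2 := congrArg Complex.re h1
    rw [Complex.zero_re, Complex.re_sum] at h2
    have h3 : ∀ k ∈ (Finset.range (p ^ (e + 1))).filter (fun k => ¬ p ∣ k), 0 ≤ (aF p (u ^ k) b (χ : G → ℂ) x * conj (aF p (u ^ k) b (χ : G → ℂ) x)).re := by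
      intro k _
      rw [Complex.mul_conj, Complex.ofReal_re]
      exact Complex.normSq_nonneg _
    have h4 := (Finset.sum_eq_zero_iff_of_nonneg h3).1 h2.symm 1 (by
      rw [Finset.mem_filter, Finset.mem_range]
      exact ⟨Nat.one_lt_pow (Nat.succ_ne_zero e) hp.out.one_lt, fun h => hp.out.one_lt.ne' (Nat.dvd_one.1 h)⟩)
    rw [pow_one, Complex.mul_conj, Complex.ofReal_re, Complex.normSq_eq_zero] at h4
    exact hne h4

open Classical in
/-- (R1b) heights zero, upper bound -/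
theorem card_height_zero_le (hM : IsPModular p M) {u : C} (hC : C = Subgroup.centralizer ({(u : G)} : Set G))
    (hup : ∃ k, orderOf (u : G) = p ^ k) {b : Set (IrrCharacter C)} {B : Set (IrrCharacter G)} (hind : IsInducedBlock M C b B)
    {x : IrrCharacter C → ℤ} (hx : x ∉ Sv hM b) :
    (Nat.card {χ : IrrCharacter G // χ ∈ B ∧ blockHeight p B (χ : G → ℂ) = 0} : ℤ) ≤ (p : ℤ) ^ blockDefect p b * mbil (cA p b) x x := by
  haveI := IsPModular.isPrime hM
  have hu := mem_center_of_eq hC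
  obtain ⟨e, he⟩ := exists_e (C := C) hup
  have h1 := aF_bound hM hC he hind.1 x (Finset.univ.filter (fun χ : IrrCharacter G => χ ∈ B ∧ blockHeight p B (χ : G → ℂ) = 0)) (by
    intro χ hχ
    rw [Finset.mem_filter] at hχ
    refine aF_lower hM hC he ?_
    intro h
    apply aF_not_mem hM hu hup hind hχ.2.1 hχ.2.2 hx
    rw [h]; exact memLocalIdeal_zero)
  rwa [Nat.card_eq_fintype_card, Fintype.card_subtype]

/-- (R2a) all characters with nonzero contribution, lower bound -/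
theorem card_mul_le_of_ctr (hM : IsPModular p M) {u : C} (hC : C = Subgroup.centralizer ({(u : G)} : Set G))
    (hup : ∃ k, orderOf (u : G) = p ^ k) {b : Set (IrrCharacter C)} (hb : IsPBlock M b) (T : Finset (IrrCharacter G))
    (hne : ∀ χ ∈ T, ctr p u b (χ : G → ℂ) (χ : G → ℂ) ≠ 0)
    {τ : ℤ} (hτ0 : 0 ≤ τ) (hτ : ∀ x, x ∉ rad (cA p b) → τ ≤ mbil (cA p b) x x) :
    (T.card : ℤ) * τ ≤ blockRank p b * (p : ℤ) ^ blockDefect p b := by
  have hu := mem_center_of_eq hC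
  obtain ⟨e, he⟩ := exists_e (C := C) hup
  refine trace_bound hM hC he hb T τ ?_
  intro χ hχ
  refine avg_lower_ne hp.out (isBil_cA hM hb) (wt u) (wt_root hu he) (mz C (χ : G → ℂ)) (rad (cA p b)) (fun y hy => mbil_rad hy y) hτ0 hτ ?_
  intro hcon
  have h1 := WA_ctr hM hu hb χ e
  rw [WA, hcon] at h1
  have h2 := congrArg Complex.re h1
  rw [Complex.zero_re, Complex.re_sum] at h2
  have h3 : ∀ k ∈ (Finset.range (p ^ (e + 1))).filter (fun k => ¬ p ∣ k), 0 ≤ ((p : ℂ) ^ blockDefect p b * ctr p (u ^ k) b (χ : G → ℂ) (χ : G → ℂ)).re := by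
    intro k _
    rw [re_natpow_mul]
    exact mul_nonneg (by positivity) (ctr_re_nonneg _ _ _)
  have h4 := (Finset.sum_eq_zero_iff_of_nonneg h3).1 h2.symm 1 (by
    rw [Finset.mem_filter, Finset.mem_range]
    exact ⟨Nat.one_lt_pow (Nat.succ_ne_zero e) hp.out.one_lt, fun h => hp.out.one_lt.ne' (Nat.dvd_one.1 h)⟩)
  rw [pow_one, re_natpow_mul] at h4
  have h5 : (p : ℝ) ^ blockDefect p b ≠ 0 := pow_ne_zero _ (by exact_mod_cast hp.out.ne_zero)
  have h6 := (mul_eq_zero.1 h4).resolve_left h5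
  exact hne χ hχ (Complex.ext h6 (ctr_im _ _ _))

/-- (R2b) all characters with nonzero pairing -/
theorem card_le_of_aF (hM : IsPModular p M) {u : C} (hC : C = Subgroup.centralizer ({(u : G)} : Set G))
    (hup : ∃ k, orderOf (u : G) = p ^ k) {b : Set (IrrCharacter C)} (hb : IsPBlock M b) {x : IrrCharacter C → ℤ} (T : Finset (IrrCharacter G))
    (hne : ∀ χ ∈ T, aF p u b (χ : G → ℂ) x ≠ 0) : (T.card : ℤ) ≤ (p : ℤ) ^ blockDefect p b * mbil (cA p b) x x := by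
  obtain ⟨e, he⟩ := exists_e (C := C) hup
  exact aF_bound hM hC he hb x T fun χ hχ => aF_lower hM hC he (hne χ hχ)

end CfsgSub
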