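import Cfsg.Agent.H4.Sub4

/-!
# Robinson's bound for the number of characters of height zero
-/

set_option autoImplicit false
open Cfsg MonoidAlgebra CfsgH5
open CfsgH4 hiding centralChar sum_conj regInner_symm

namespace CfsgSub

open scoped ComplexConjugate

variable {G : Type*} [Group G] [Finite G] {p : ℕ} [hp : Fact p.Prime] {M : Ideal AlgInt} {C : Subgroup G} [Fintype C]

/-- minimal value of the form off `Sv` -/
theorem exists_min (hM : IsPModular p M) {b : Set (IrrCharacter C)} (hb : IsPBlock M b) {x₀ : IrrCharacter C → ℤ} (hx₀ : x₀ ∉ Sv hM b) :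
    ∃ (x : IrrCharacter C → ℤ) (t : ℕ), x ∉ Sv hM b ∧ mbil (cA p b) x x = t ∧ ¬ p ∣ t ∧ ∀ y, y ∉ Sv hM b → (t : ℤ) ≤ mbil (cA p b) y y := by
  classical
  have hex : ∃ n : ℕ, ∃ x, x ∉ Sv hM b ∧ mbil (cA p b) x x = n :=
    ⟨(mbil (cA p b) x₀ x₀).toNat, x₀, hx₀, (Int.toNat_of_nonneg ((isBil_cA hM hb).nonneg _)).symm⟩
  obtain ⟨x, hx, hxt⟩ := Nat.find_spec hex
  refine ⟨x, Nat.find hex, hx, hxt, ?_, ?_⟩
  · intro hdvd
    apply hx
    rw [mem_Sv_iff_dvd hM hb, hxt]
    exact_mod_cast hdvd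
  · intro y hy
    have h1 : ((mbil (cA p b) y y).toNat : ℤ) = mbil (cA p b) y y := Int.toNat_of_nonneg ((isBil_cA hM hb).nonneg _)
    rw [← h1]
    exact_mod_cast Nat.find_min' hex ⟨y, hy, h1.symm⟩

/-- the two bounds for the number of characters of height zero -/
theorem height_zero_bounds (hM : IsPModular p M) {u : C} (hC : C = Subgroup.centralizer ({(u : G)} : Set G))
    (hup : ∃ k, orderOf (u : G) = p ^ k) {b : Set (IrrCharacter C)} {B : Set (IrrCharacter G)} (hind : IsInducedBlock M C b B) :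
    ∃ t : ℕ, ¬ p ∣ t ∧
      Nat.card {χ : IrrCharacter G // χ ∈ B ∧ blockHeight p B (χ : G → ℂ) = 0} * t ≤ blockRank p b * p ^ blockDefect p b ∧
      Nat.card {χ : IrrCharacter G // χ ∈ B ∧ blockHeight p B (χ : G → ℂ) = 0} ≤ p ^ blockDefect p b * t := by
  haveI := IsPModular.isPrime hM
  obtain ⟨χ, hχ, h0⟩ := exists_height_zero p (B := B) (IsPBlock.nonempty hind.2.1)
  obtain ⟨x, t, hx, hxt, hpt, hmin⟩ := exists_min hM hind.1 (mz_not_mem hM hind hχ h0)
  refine ⟨t, hpt, ?_, ?_⟩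
  · have h1 := card_height_zero_mul_le hM hC hup hind (Int.natCast_nonneg t) hmin
    exact_mod_cast h1
  · have h1 := card_height_zero_le hM hC hup hind hx
    rw [hxt] at h1
    exact_mod_cast h1

/-- Robinson's bound -/
theorem robinson (hM : IsPModular p M) {u : C} (hC : C = Subgroup.centralizer ({(u : G)} : Set G))
    (hup : ∃ k, orderOf (u : G) = p ^ k) {b : Set (IrrCharacter C)} {B : Set (IrrCharacter G)} (hind : IsInducedBlock M C b B) :
    Nat.card {χ : IrrCharacter G // χ ∈ B ∧ blockHeight p B (χ : G → ℂ) = 0} ^ 2 ≤ blockRank p b * p ^ (2 * blockDefect p b) := by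
  obtain ⟨t, hpt, h1, h2⟩ := height_zero_bounds hM hC hup hind
  set k := Nat.card {χ : IrrCharacter G // χ ∈ B ∧ blockHeight p B (χ : G → ℂ) = 0}
  calc k ^ 2 = k * k := sq k
    _ ≤ k * (p ^ blockDefect p b * t) := Nat.mul_le_mul_left _ h2
    _ = p ^ blockDefect p b * (k * t) := by ring
    _ ≤ p ^ blockDefect p b * (blockRank p b * p ^ blockDefect p b) := Nat.mul_le_mul_left _ h1
    _ = _ := by rw [two_mul, pow_add]; ring

/-- the bounds for `p = 2` -/
theorem two_bounds {l q k t : ℕ} (ht : ¬ 2 ∣ t) (h1 : k * t ≤ l * 2 ^ q) (h2 : k ≤ 2 ^ q * t) :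
    (Odd (Nat.sqrt l) → k ≤ Nat.sqrt l * 2 ^ q) ∧ (¬ Odd (Nat.sqrt l) → (Nat.sqrt l + 1) * k ≤ l * 2 ^ q) ∧
      (l ≤ 3 → k ≤ 2 ^ q) := by
  set s := Nat.sqrt l with hs
  have hs1 : s * s ≤ l := Nat.sqrt_le l
  have hs2 : l < (s + 1) * (s + 1) := Nat.lt_succ_sqrt l
  have htodd : Odd t := Nat.not_even_iff_odd.1 fun h => ht h.two_dvd
  have ha : Odd s → k ≤ s * 2 ^ q := by
    intro hodd
    by_cases hts : t ≤ s
    · calc k ≤ 2 ^ q * t := h2
        _ ≤ 2 ^ q * s := Nat.mul_le_mul_left _ hts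
        _ = _ := mul_comm _ _
    · have h3 : s + 2 ≤ t := by
        obtain ⟨a, ha⟩ := hodd
        obtain ⟨c, hc⟩ := htodd
        omega
      have h4 : k * (s + 2) ≤ (s * (s + 2)) * 2 ^ q := by
        calc k * (s + 2) ≤ k * t := Nat.mul_le_mul_left _ h3
          _ ≤ l * 2 ^ q := h1
          _ ≤ _ := Nat.mul_le_mul_right _ (by nlinarith)
      have h5 : (s * (s + 2)) * 2 ^ q = (s * 2 ^ q) * (s + 2) := by ring
      rw [h5] at h4
      exact Nat.le_of_mul_le_mul_right h4 (by omega)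
  have hb : ¬ Odd s → (s + 1) * k ≤ l * 2 ^ q := by
    intro hne
    by_cases hts : t ≤ s
    · have h3 : t + 1 ≤ s := by
        rw [Nat.not_odd_iff_even] at hne
        obtain ⟨a, ha⟩ := hne
        obtain ⟨c, hc⟩ := htodd
        omega
      calc (s + 1) * k ≤ (s + 1) * (2 ^ q * t) := Nat.mul_le_mul_left _ h2
        _ = ((s + 1) * t) * 2 ^ q := by ring
        _ ≤ l * 2 ^ q := by
          refine Nat.mul_le_mul_right _ ?_
          obtain ⟨r, hr⟩ := Nat.exists_eq_add_of_le h3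
          nlinarith
    · calc (s + 1) * k = k * (s + 1) := mul_comm _ _
        _ ≤ k * t := Nat.mul_le_mul_left _ (by omega)
        _ ≤ _ := h1
  refine ⟨ha, hb, ?_⟩
  intro hl
  by_cases hl0 : l = 0
  · have h3 : s = 0 := by rw [hs, hl0]; simp
    have h4 := hb (by rw [h3]; simp)
    rw [h3, hl0] at h4
    simp at h4
    rw [h4]; exact Nat.zero_le _
  · have h3 : s = 1 := by
      have h4 : s < 2 := by by_contra hc; push Not at hc; nlinarith
      have h5 : s ≠ 0 := by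
        intro h; rw [h] at hs2; omega
      omega
    have h6 := ha (by rw [h3]; exact odd_one)
    rwa [h3, one_mul] at h6

end CfsgSub
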