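import Cfsg.Agent.H4.Sub5
import Cfsg.Agent.H4.FR
import Cfsg.Agent.H4.Nil6
import Cfsg.Agent.H5.Cover

/-!
# Major subsections: heights and valuations
-/

set_option autoImplicit false
open Cfsg MonoidAlgebra CfsgH5
open CfsgH4 hiding centralChar sum_conj regInner_symm ev_ca

namespace CfsgSub

open scoped ComplexConjugate

variable {G : Type*} [Group G] [Finite G] {p : ℕ} [hp : Fact p.Prime] {M : Ideal AlgInt} {C : Subgroup G} [Fintype C]

open Classical in
/-- the element of the group algebra attached to `x` -/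
noncomputable def wx (p : ℕ) (b : Set (IrrCharacter C)) (x : IrrCharacter C → ℤ) : MonoidAlgebra ℂ C :=
  ∑ ξ : IrrCharacter C, (if ξ ∈ b then (x ξ : ℂ) else 0) • zreg p (ξ : C → ℂ)

theorem isCen_wx (b : Set (IrrCharacter C)) (x : IrrCharacter C → ℤ) : IsCen (wx p b x) :=
  isCen_sum _ _ fun ξ _ => (isCen_zreg (IsIrr.isClassFunction ξ.2)).smul _

theorem inS_wx (hM : IsPModular p M) (b : Set (IrrCharacter C)) (x : IrrCharacter C → ℤ) : InS M (wx p b x) := by
  classical
  haveI := IsPModular.isPrime hM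
  refine inS_sum _ _ fun ξ _ => InS.smul ?_ (inS_zreg fun y => memLocalRing_char (IsIrr.isCharacter ξ.2) y)
  split_ifs
  · exact memLocalRing_intCast _
  · exact memLocalRing_zero

theorem ev_zreg' (ζ ξ : IrrCharacter C) : ev (ζ : C → ℂ) (zreg p (ξ : C → ℂ)) = regInner p (ζ : C → ℂ) (ξ : C → ℂ) := by
  have h1 := om_zreg (p := p) (χ := (ζ : C → ℂ)) (IsIrr.isCharacter ξ.2)
  have h2 := IsIrr.one_ne_zero ζ.2
  rw [om] at h1
  exact (div_left_inj' h2).1 h1

theorem ev_wx (hM : IsPModular p M) {b : Set (IrrCharacter C)} (hb : IsPBlock M b) (x : IrrCharacter C → ℤ) (ζ : IrrCharacter C) :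
    (p : ℂ) ^ blockDefect p b * ev (ζ : C → ℂ) (wx p b x) = (Nat.card C : ℂ) * (An (cA p b) x ζ : ℂ) := by
  classical
  haveI := IsPModular.isPrime hM
  rw [wx, map_sum, Finset.mul_sum, An, Int.cast_sum, Finset.mul_sum]
  refine Finset.sum_congr rfl fun ξ _ => ?_
  rw [map_smul, ev_zreg', smul_eq_mul]
  by_cases hξ : ξ ∈ b
  · rw [if_pos hξ]
    by_cases hζ : ζ ∈ b
    · have h1 := cA_spec hM hb hζ hξ
      rw [cA_symm ξ ζ]
      push_cast
      calc (p : ℂ) ^ blockDefect p b * ((x ξ : ℂ) * regInner p (ζ : C → ℂ) (ξ : C → ℂ)) =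
          (x ξ : ℂ) * ((p : ℂ) ^ blockDefect p b * regInner p (ζ : C → ℂ) (ξ : C → ℂ)) := by ring
        _ = _ := by rw [h1]; ring
    · rw [cA_off (Or.inr hζ), CfsgH5.regInner_eq_zero hM (inS_eSet hb) hξ hζ]
      simp
  · rw [if_neg hξ, cA_off (Or.inl hξ)]
    simp

theorem ev_beta (hM : IsPModular p M) {u : C} (hu : u ∈ Subgroup.center C) {b : Set (IrrCharacter C)} (hb : IsPBlock M b)
    (x : IrrCharacter C → ℤ) (χ : IrrCharacter G) :
    (p : ℂ) ^ blockDefect p b * ev (χ : G → ℂ) (embA C (single u 1 * wx p b x)) = (Nat.card C : ℂ) * aF p u b (χ : G → ℂ) x := by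
  classical
  have hsc : IsCen (single u (1 : ℂ) : MonoidAlgebra ℂ C) := by
    intro y g
    rw [coeff_single_apply, coeff_single_apply]
    have h1 : (u = y * g * y⁻¹) ↔ (u = g) := by
      have h2 := Subgroup.mem_center_iff.1 hu y
      constructor
      · intro h
        have h3 : y⁻¹ * u * y = g := by rw [h]; group
        rw [← h3, mul_assoc, ← h2]; group
      · intro h
        rw [← h, h2]; group
    simp only [h1]
  have h0 : (fun c : C => (χ : G → ℂ) c) = ∑ ζ : IrrCharacter C, CfsgH5.mlt C (χ : G → ℂ) ζ • (ζ : C → ℂ) :=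
    classFun_expand (IsCharacter.isClassFunction (isCharacter_restrict C (IsIrr.isCharacter χ.2)))
  rw [ev_embA, h0, ev_sum_left, Finset.mul_sum, aF, Finset.mul_sum]
  refine Finset.sum_congr rfl fun ζ _ => ?_
  rw [ev_cen_mul ζ.2 hsc]
  have h1 : om (ζ : C → ℂ) (single u 1) = wt u ζ := by rw [om, ev_single, one_mul, wt]
  rw [h1]
  have h2 := ev_wx hM hb x ζ
  calc (p : ℂ) ^ blockDefect p b * (CfsgH5.mlt C (χ : G → ℂ) ζ * (wt u ζ * ev (ζ : C → ℂ) (wx p b x))) =
      (CfsgH5.mlt C (χ : G → ℂ) ζ * wt u ζ) * ((p : ℂ) ^ blockDefect p b * ev (ζ : C → ℂ) (wx p b x)) := by ring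
    _ = _ := by rw [h2]; ring

/-- the pairing through the centre of the group algebra of `G` -/
theorem aF_central (hM : IsPModular p M) {u : C} (hu : u ∈ Subgroup.center C) {b : Set (IrrCharacter C)} (hb : IsPBlock M b)
    (x : IrrCharacter C → ℤ) : ∃ T : MonoidAlgebra ℂ G, IsCen T ∧ InS M T ∧ ∀ χ : IrrCharacter G,
      aF p u b (χ : G → ℂ) x = (((p ^ blockDefect p b * charDegree (χ : G → ℂ) : ℕ) : ℂ) / (Nat.card G : ℂ)) * om (χ : G → ℂ) T := by
  classical
  haveI := IsPModular.isPrime hM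
  haveI := Fintype.ofFinite (G ⧸ C)
  have hsc : IsCen (single u (1 : ℂ) : MonoidAlgebra ℂ C) := by
    intro y g
    rw [coeff_single_apply, coeff_single_apply]
    have h1 : (u = y * g * y⁻¹) ↔ (u = g) := by
      have h2 := Subgroup.mem_center_iff.1 hu y
      constructor
      · intro h
        have h3 : y⁻¹ * u * y = g := by rw [h]; group
        rw [← h3, mul_assoc, ← h2]; group
      · intro h
        rw [← h, h2]; group
    simp only [h1]
  set β : MonoidAlgebra ℂ G := embK C (single u 1 * wx p b x) with hβ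
  have hfx : Fx C β := fx_embK (hsc.mul (isCen_wx b x))
  have hS : InS M β := inS_embA C (InS.mul (inS_single memLocalRing_one u) (inS_wx hM b x))
  refine ⟨tsum C β, fx_top.1 (fx_tsum hfx), ?_, ?_⟩
  · rw [tsum_eq]
    exact inS_sum _ _ fun q _ => inS_ca' hS _
  · intro χ
    have h1 : om (χ : G → ℂ) (tsum C β) = (C.index : ℂ) * (ev (χ : G → ℂ) β / (χ : G → ℂ) 1) := by
      rw [tsum_eq, om_sum]
      have h2 : ∀ q : G ⧸ C, om (χ : G → ℂ) (ca q.out β) = ev (χ : G → ℂ) β / (χ : G → ℂ) 1 := by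
        intro q
        rw [om, CfsgH4.ev_ca (IsIrr.isClassFunction χ.2)]
      rw [Finset.sum_congr rfl fun q _ => h2 q, Finset.sum_const, nsmul_eq_mul, Finset.card_univ, ← Nat.card_eq_fintype_card]
      rfl
    have h3 : (p : ℂ) ^ blockDefect p b * ev (χ : G → ℂ) β = (Nat.card C : ℂ) * aF p u b (χ : G → ℂ) x := ev_beta hM hu hb x χ
    have hG : (Nat.card G : ℂ) = (C.index : ℂ) * (Nat.card C : ℂ) := by
      rw [← C.index_mul_card]; push_cast; rfl
    have hC0 : (Nat.card C : ℂ) ≠ 0 := by exact_mod_cast Nat.card_pos.ne'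
    have hi0 : (C.index : ℂ) ≠ 0 := by exact_mod_cast C.index_ne_zero_of_finite
    have hd0 : (charDegree (χ : G → ℂ) : ℂ) ≠ 0 := by exact_mod_cast charDegree_ne_zero χ
    rw [h1, hG, (IsIrr.one_eq χ.2).1]
    push_cast
    field_simp
    rw [h3]
    ring

/-- nonvanishing for all characters of the block -/
theorem aF_ne_zero (hM : IsPModular p M) {u : C} (hu : u ∈ Subgroup.center C) (hup : ∃ k, orderOf (u : G) = p ^ k)
    {b : Set (IrrCharacter C)} {B : Set (IrrCharacter G)} (hind : IsInducedBlock M C b B)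
    (hd : blockDefect p b = blockDefect p B) {x : IrrCharacter C → ℤ} (hx : x ∉ Sv hM b)
    {χ : IrrCharacter G} (hχ : χ ∈ B) : aF p u b (χ : G → ℂ) x ≠ 0 := by
  haveI := IsPModular.isPrime hM
  haveI := Fintype.ofFinite G
  obtain ⟨T, hT1, hT2, hT⟩ := aF_central hM hu hind.1 x
  obtain ⟨χ₀, hχ₀, h0⟩ := exists_height_zero p (B := B) (IsPBlock.nonempty hind.2.1)
  have h1 := aF_not_mem hM hu hup hind hχ₀ h0 hx
  rw [hT χ₀, hd] at h1
  have h2 : ¬ MemLocalIdeal M (om (χ₀ : G → ℂ) T) := fun h => h1 (MemLocalIdeal.mul_left (rr_mem hM hχ₀) h)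
  have h3 : MemLocalIdeal M (om (χ : G → ℂ) T - om (χ₀ : G → ℂ) T) :=
    sameBlock_om χ.2 χ₀.2 ((IsPBlock.mem_iff hind.2.1 hχ).1 hχ₀) hT1 hT2
  have h4 := not_memLocalIdeal_of_sub h3 h2
  rw [hT χ]
  refine mul_ne_zero ?_ ?_
  · have hd0 : (charDegree (χ : G → ℂ) : ℂ) ≠ 0 := by exact_mod_cast charDegree_ne_zero χ
    have hG0 : (Nat.card G : ℂ) ≠ 0 := by exact_mod_cast Nat.card_pos.ne'
    have hp0 : (p : ℂ) ≠ 0 := by exact_mod_cast hp.out.ne_zero
    push_cast
    positivity
  · intro h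
    apply h4
    rw [h]; exact memLocalIdeal_zero

theorem ctr_ne_zero (hM : IsPModular p M) {u : C} (hu : u ∈ Subgroup.center C) {b : Set (IrrCharacter C)} (hb : IsPBlock M b)
    {χ : IrrCharacter G} {x : IrrCharacter C → ℤ} (h : aF p u b (χ : G → ℂ) x ≠ 0) : ctr p u b (χ : G → ℂ) (χ : G → ℂ) ≠ 0 := by
  classical
  intro hcon
  apply h
  have h1 : ctr p u b (χ : G → ℂ) (χ : G → ℂ) = (((Nat.card C : ℝ)⁻¹ * ∑ x : C, if p ∣ orderOf x then (0 : ℝ) else ‖Xf u b (χ : G → ℂ) x‖ ^ 2 : ℝ) : ℂ) := by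
    rw [ctr]
    push_cast
    congr 1
    refine Finset.sum_congr rfl fun x _ => ?_
    split_ifs
    · simp
    · rw [Complex.mul_conj, Complex.normSq_eq_norm_sq, Complex.ofReal_pow]
  rw [hcon] at h1
  have h2 : (Nat.card C : ℝ)⁻¹ * ∑ x : C, (if p ∣ orderOf x then (0 : ℝ) else ‖Xf u b (χ : G → ℂ) x‖ ^ 2) = 0 := by exact_mod_cast h1.symm
  have hC0 : (Nat.card C : ℝ)⁻¹ ≠ 0 := inv_ne_zero (by exact_mod_cast Nat.card_pos.ne')
  have h3 := (mul_eq_zero.1 h2).resolve_left hC0
  have h4 := (Finset.sum_eq_zero_iff_of_nonneg (fun y _ => by split_ifs <;> positivity)).1 h3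
  rw [← ctr_phx hM hu hb, ctr]
  have h5 : ∀ y : C, (if p ∣ orderOf y then 0 else Xf u b (χ : G → ℂ) y * conj (Xf u b (phx u x) y)) = 0 := by
    intro y
    have h6 := h4 y (Finset.mem_univ _)
    split_ifs with hy
    · rfl
    · rw [if_neg hy] at h6
      have h7 : Xf u b (χ : G → ℂ) y = 0 := norm_eq_zero.1 (pow_eq_zero_iff (two_ne_zero) |>.1 h6)
      rw [h7, zero_mul]
  rw [Finset.sum_eq_zero fun y _ => h5 y, mul_zero, mul_zero]

open Classical in
/-- `k(B)` bounds for major subsections -/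
theorem major_card_mul_le (hM : IsPModular p M) {u : C} (hC : C = Subgroup.centralizer ({(u : G)} : Set G))
    (hup : ∃ k, orderOf (u : G) = p ^ k) {b : Set (IrrCharacter C)} {B : Set (IrrCharacter G)} (hind : IsInducedBlock M C b B)
    (hd : blockDefect p b = blockDefect p B) {τ : ℕ} (hτ : ∀ x, x ∉ rad (cA p b) → (τ : ℤ) ≤ mbil (cA p b) x x) :
    Nat.card B * τ ≤ blockRank p b * p ^ blockDefect p B := by
  haveI := IsPModular.isPrime hM
  have hu := mem_center_of_eq hC
  obtain ⟨χ₀, hχ₀, h0⟩ := exists_height_zero p (B := B) (IsPBlock.nonempty hind.2.1)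
  have hx := mz_not_mem hM hind hχ₀ h0
  have h1 := card_mul_le_of_ctr hM hC hup hind.1 (Finset.univ.filter (fun χ : IrrCharacter G => χ ∈ B))
    (fun χ hχ => ctr_ne_zero hM hu hind.1 (aF_ne_zero hM hu hup hind hd hx (Finset.mem_filter.1 hχ).2)) (Int.natCast_nonneg τ) hτ
  have h2 : (Finset.univ.filter (fun χ : IrrCharacter G => χ ∈ B)).card = Nat.card B := by
    rw [← Fintype.card_subtype, ← Nat.card_eq_fintype_card]
  rw [h2, hd] at h1
  exact_mod_cast h1

open Classical in
theorem major_card_le (hM : IsPModular p M) {u : C} (hC : C = Subgroup.centralizer ({(u : G)} : Set G))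
    (hup : ∃ k, orderOf (u : G) = p ^ k) {b : Set (IrrCharacter C)} {B : Set (IrrCharacter G)} (hind : IsInducedBlock M C b B)
    (hd : blockDefect p b = blockDefect p B) {x : IrrCharacter C → ℤ} (hx : x ∉ Sv hM b) {t : ℕ} (ht : mbil (cA p b) x x = t) :
    Nat.card B ≤ p ^ blockDefect p B * t := by
  have hu := mem_center_of_eq hC
  have h1 := card_le_of_aF hM hC hup hind.1 (Finset.univ.filter (fun χ : IrrCharacter G => χ ∈ B))
    (fun χ hχ => aF_ne_zero hM hu hup hind hd hx (Finset.mem_filter.1 hχ).2)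
  have h2 : (Finset.univ.filter (fun χ : IrrCharacter G => χ ∈ B)).card = Nat.card B := by
    rw [← Fintype.card_subtype, ← Nat.card_eq_fintype_card]
  rw [h2, hd, ht] at h1
  exact_mod_cast h1

/-- major subsections of rank at most two -/
theorem major_rank_two (hM : IsPModular p M) {u : C} (hC : C = Subgroup.centralizer ({(u : G)} : Set G))
    (hup : ∃ k, orderOf (u : G) = p ^ k) {b : Set (IrrCharacter C)} {B : Set (IrrCharacter G)} (hind : IsInducedBlock M C b B)
    (hd : blockDefect p b = blockDefect p B) (hl : blockRank p b ≤ 2) : Nat.card B ≤ p ^ blockDefect p B := by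
  by_cases h : ∀ x, x ∉ rad (cA p b) → ((2 : ℕ) : ℤ) ≤ mbil (cA p b) x x
  · have h1 := major_card_mul_le hM hC hup hind hd h
    have h2 : blockRank p b * p ^ blockDefect p B ≤ 2 * p ^ blockDefect p B := Nat.mul_le_mul_right _ hl
    omega
  · push Not at h
    obtain ⟨x, hx, hx2⟩ := h
    have h0 : mbil (cA p b) x x ≠ 0 := fun h => hx ((mem_rad_iff hM hind.1).2 h)
    have h1 := (isBil_cA hM hind.1).nonneg x
    have h3 : mbil (cA p b) x x = 1 := by omega
    have h4 : x ∉ Sv hM b := by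
      rw [mem_Sv_iff_dvd hM hind.1, h3]
      intro h5
      have : p ∣ 1 := by exact_mod_cast h5
      exact hp.out.one_lt.ne' (Nat.dvd_one.1 this)
    have h5 := major_card_le hM hC hup hind hd h4 (t := 1) (by rw [h3]; rfl)
    rwa [mul_one] at h5

/-- the defect of a major subsection -/
theorem major_defect (hM : IsPModular p M) {z : G} {B : Set (IrrCharacter G)} (hB : IsPBlock M B) {D : Subgroup G}
    (hD : IsDefectGroup p M B D) (hzc : ∀ d ∈ D, d * z = z * d)
    {b : Set (IrrCharacter (Subgroup.centralizer ({z} : Set G)))} (hb : IsPBlock M b)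
    (hbD : IsDefectGroup p M b (D.subgroupOf (Subgroup.centralizer ({z} : Set G)))) : blockDefect p b = blockDefect p B := by
  have h1 := defectGroup_card hM hB hD
  have h2 := defectGroup_card hM hb hbD
  have h3 : D ≤ Subgroup.centralizer ({z} : Set G) := fun d hd => Subgroup.mem_centralizer_singleton_iff.2 (hzc d hd)
  have h4 : Nat.card (D.subgroupOf (Subgroup.centralizer ({z} : Set G))) = Nat.card D :=
    Nat.card_congr (Subgroup.subgroupOfEquivOfLe h3).toEquiv
  rw [h4, h1] at h2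
  exact (Nat.pow_right_injective hp.out.two_le h2).symm

end CfsgSub
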