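import Cfsg.Agent.H4.Sub6

/-!
# Valuations in the field of roots of unity of order a power of two
-/

set_option autoImplicit false
open Cfsg MonoidAlgebra CfsgH5
open CfsgH4 hiding centralChar sum_conj regInner_symm ev_ca

namespace CfsgSub

open scoped ComplexConjugate Polynomial

section val

variable {M : Ideal AlgInt}

theorem root_sub_one (hM : IsPModular 2 M) {z : ℂ} {k : ℕ} (hz : z ^ 2 ^ k = 1) : MemLocalRing M z ∧ MemLocalIdeal M (z - 1) := by
  haveI : Fact (Nat.Prime 2) := ⟨Nat.prime_two⟩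
  haveI := IsPModular.isPrime hM
  have hint : IsIntegral ℤ z := isIntegral_of_pow_orderOf (pow_pos (by norm_num) k) hz
  refine ⟨memLocalRing_of_isIntegral (M := M) hint, ?_⟩
  haveI := charP_quot hM
  have h1 : (⟨z, hint⟩ : AlgInt) ^ 2 ^ k = 1 := Subtype.ext hz
  have h2 : (Ideal.Quotient.mk M (⟨z, hint⟩ : AlgInt) - 1) ^ 2 ^ k = 0 := by
    haveI : ExpChar (AlgInt ⧸ M) 2 := ExpChar.prime Nat.prime_two
    rw [sub_pow_expChar_pow, one_pow, ← map_pow, h1, map_one, sub_self]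
  have hMp : M.IsPrime := inferInstance
  haveI : IsDomain (AlgInt ⧸ M) := Ideal.Quotient.isDomain M
  have h3 := pow_eq_zero_iff (pow_pos (by norm_num : 0 < 2) k).ne' |>.1 h2
  have h4 : (⟨z, hint⟩ : AlgInt) - 1 ∈ M := by
    rw [← Ideal.Quotient.eq_zero_iff_mem, map_sub, map_one]; exact h3
  have h5 := (memLocalIdeal_iff_mem (M := M)).2 h4
  have h6 : (((⟨z, hint⟩ : AlgInt) - 1 : AlgInt) : ℂ) = z - 1 := by push_cast; rfl
  rwa [h6] at h5

/-- evaluation of integral polynomials at `z` with `z ≡ 1` -/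
theorem aeval_cong [hMp : M.IsPrime] {z : ℂ} (hzR : MemLocalRing M z) (hz : MemLocalIdeal M (z - 1)) (P : ℤ[X]) :
    MemLocalRing M (Polynomial.aeval z P) ∧ MemLocalIdeal M (Polynomial.aeval z P - (P.eval 1 : ℤ)) := by
  induction P using Polynomial.induction_on' with
  | add p q hp hq =>
    obtain ⟨h1, h2⟩ := hp
    obtain ⟨h3, h4⟩ := hq
    constructor
    · rw [map_add]; exact MemLocalRing.add h1 h3
    · rw [map_add, Polynomial.eval_add]
      have h5 : (Polynomial.aeval z p + Polynomial.aeval z q) - ((p.eval 1 + q.eval 1 : ℤ) : ℂ) =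
          (Polynomial.aeval z p - (p.eval 1 : ℤ)) + (Polynomial.aeval z q - (q.eval 1 : ℤ)) := by push_cast; ring
      rw [h5]; exact MemLocalIdeal.add h2 h4
  | monomial n a =>
    rw [Polynomial.aeval_monomial, Polynomial.eval_monomial, one_pow, mul_one]
    have hpow : ∀ m : ℕ, MemLocalIdeal M (z ^ m - 1) := by
      intro m
      induction m with
      | zero => simpa using memLocalIdeal_zero
      | succ m ih =>
        have h6 : z ^ (m + 1) - 1 = z * (z ^ m - 1) + (z - 1) := by ring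
        rw [h6]
        exact MemLocalIdeal.add (MemLocalIdeal.mul_left hzR ih) hz
    constructor
    · exact MemLocalRing.mul (by simpa using memLocalRing_intCast (M := M) a) (MemLocalRing.pow hzR n)
    · have h7 : (algebraMap ℤ ℂ) a * z ^ n - (a : ℂ) = (a : ℂ) * (z ^ n - 1) := by simp; ring
      rw [h7]
      exact MemLocalIdeal.mul_left (memLocalRing_intCast a) (hpow n)

theorem exists_lift_two {P Q : ℤ[X]} (h : P.map (Int.castRingHom (ZMod 2)) = Q.map (Int.castRingHom (ZMod 2))) :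
    ∃ S : ℤ[X], P = Q + Polynomial.C 2 * S := by
  have h1 : Polynomial.C (2 : ℤ) ∣ P - Q := by
    rw [Polynomial.C_dvd_iff_dvd_coeff]
    intro i
    have h2 := congrArg (fun R : (ZMod 2)[X] => R.coeff i) h
    simp only [Polynomial.coeff_map] at h2
    rw [Polynomial.coeff_sub]
    have h3 : ((P.coeff i - Q.coeff i : ℤ) : ZMod 2) = 0 := by
      push_cast
      rw [sub_eq_zero]
      simpa using h2
    exact (ZMod.intCast_zmod_eq_zero_iff_dvd _ 2).1 h3
  obtain ⟨S, hS⟩ := h1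
  exact ⟨S, by rw [← hS]; ring⟩

theorem even_coeffs (hM : IsPModular 2 M) {e : ℕ} {z : ℂ} (hz : z ^ 2 ^ e = -1) (P : ℤ[X]) (hdeg : P.natDegree < 2 ^ e)
    (h : ∃ r, MemLocalRing M r ∧ Polynomial.aeval z P = 2 * r) : ∀ i, (2 : ℤ) ∣ P.coeff i := by
  haveI : Fact (Nat.Prime 2) := ⟨Nat.prime_two⟩
  haveI := IsPModular.isPrime hM
  have hz2 : z ^ 2 ^ (e + 1) = 1 := by rw [pow_succ, pow_mul, hz]; norm_num
  obtain ⟨hzR, hz1⟩ := root_sub_one hM hz2
  have hzne : z - 1 ≠ 0 := by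
    intro h0
    have h1 : z = 1 := sub_eq_zero.1 h0
    rw [h1, one_pow] at hz
    norm_num at hz
  -- (z - 1) ^ n = 2 * unit
  obtain ⟨S', hS'⟩ : ∃ S : ℤ[X], (Polynomial.X - 1) ^ 2 ^ e = (Polynomial.X ^ 2 ^ e + 1) + Polynomial.C 2 * S := by
    apply exists_lift_two
    haveI : CharP (ZMod 2)[X] 2 := inferInstance
    haveI : ExpChar (ZMod 2)[X] 2 := ExpChar.prime Nat.prime_two
    simp only [Polynomial.map_pow, Polynomial.map_sub, Polynomial.map_X, Polynomial.map_one, Polynomial.map_add]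
    rw [sub_pow_expChar_pow, one_pow]
    have h2 : (2 : (ZMod 2)[X]) = 0 := by
      have := CharP.cast_eq_zero (ZMod 2)[X] 2
      exact_mod_cast this
    have h3 : (-1 : (ZMod 2)[X]) = 1 := by
      have : (1 : (ZMod 2)[X]) + 1 = 0 := by rw [← h2]; norm_num
      exact neg_eq_of_add_eq_zero_left this
    rw [sub_eq_add_neg, h3]
  have hS1 : S'.eval 1 = -1 := by
    have h1 := congrArg (Polynomial.eval 1) hS'
    simp only [Polynomial.eval_pow, Polynomial.eval_sub, Polynomial.eval_X, Polynomial.eval_one, sub_self,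
      Polynomial.eval_add, Polynomial.eval_mul, Polynomial.eval_C, one_pow] at h1
    rw [zero_pow (pow_pos (by norm_num) e).ne'] at h1
    omega
  obtain ⟨hU1, hU2⟩ := aeval_cong hzR hz1 S'
  set U := Polynomial.aeval z S' with hU
  have hUne : ¬ MemLocalIdeal M U := by
    refine not_memLocalIdeal_of_sub hU2 ?_
    rw [hS1, memLocalIdeal_intCast_iff hM]
    norm_num
  have hpow : (z - 1) ^ 2 ^ e = 2 * U := by
    have h1 := congrArg (Polynomial.aeval z) hS'
    simp only [map_pow, map_sub, Polynomial.aeval_X, map_one, map_add, map_mul, Polynomial.aeval_C] at h1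
    rw [h1, hz]
    simp [hU]
  have hUinv := memLocalRing_inv hU1 hUne
  have hU0 : U ≠ 0 := by intro h0; apply hUne; rw [h0]; exact memLocalIdeal_zero
  -- factor
  by_contra hcon
  push Not at hcon
  obtain ⟨i₀, hi₀⟩ := hcon
  set Pb := P.map (Int.castRingHom (ZMod 2)) with hPb
  have hPb0 : Pb ≠ 0 := by
    intro h0
    apply hi₀
    have h1 := congrArg (fun R : (ZMod 2)[X] => R.coeff i₀) h0
    simp only [hPb, Polynomial.coeff_map, Polynomial.coeff_zero] at h1
    exact (ZMod.intCast_zmod_eq_zero_iff_dvd _ 2).1 (by simpa using h1)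
  obtain ⟨Rb, hRb, hRb1⟩ := Polynomial.exists_eq_pow_rootMultiplicity_mul_and_not_dvd Pb hPb0 1
  set j := Polynomial.rootMultiplicity 1 Pb with hj
  have hjlt : j < 2 ^ e := by
    have h1 : j ≤ Pb.natDegree := by
      have h2 : ((Polynomial.X - Polynomial.C 1) ^ j * Rb).natDegree = Pb.natDegree := by rw [← hRb]
      have hRb0 : Rb ≠ 0 := by
        intro h0; rw [h0, mul_zero] at hRb; exact hPb0 hRb
      rw [Polynomial.natDegree_mul (pow_ne_zero _ (Polynomial.X_sub_C_ne_zero 1)) hRb0, Polynomial.natDegree_pow, Polynomial.natDegree_X_sub_C, mul_one] at h2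
      omega
    exact lt_of_le_of_lt (h1.trans Polynomial.natDegree_map_le) hdeg
  obtain ⟨R, hR⟩ := Polynomial.map_surjective (Int.castRingHom (ZMod 2)) (ZMod.ringHom_surjective _) Rb
  obtain ⟨S, hS⟩ : ∃ S : ℤ[X], P = (Polynomial.X - 1) ^ j * R + Polynomial.C 2 * S := by
    apply exists_lift_two
    rw [Polynomial.map_mul, Polynomial.map_pow, Polynomial.map_sub, Polynomial.map_X, Polynomial.map_one, hR, ← hPb, hRb, Polynomial.C_1]
  have hR1 : ¬ (2 : ℤ) ∣ R.eval 1 := by
    intro hd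
    apply hRb1
    rw [Polynomial.dvd_iff_isRoot, Polynomial.IsRoot, ← hR, Polynomial.eval_one_map]
    exact (ZMod.intCast_zmod_eq_zero_iff_dvd _ 2).2 hd
  obtain ⟨hρ1, hρ2⟩ := aeval_cong hzR hz1 R
  obtain ⟨hσ1, -⟩ := aeval_cong hzR hz1 S
  have hρne : ¬ MemLocalIdeal M (Polynomial.aeval z R) := by
    refine not_memLocalIdeal_of_sub hρ2 ?_
    rw [memLocalIdeal_intCast_iff hM]
    exact_mod_cast hR1
  obtain ⟨r, hr, hPr⟩ := h
  have h1 := congrArg (Polynomial.aeval z) hS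
  rw [hPr] at h1
  simp only [map_add, map_mul, map_pow, map_sub, Polynomial.aeval_X, map_one, Polynomial.aeval_C] at h1
  have h2 : (z - 1) ^ j * Polynomial.aeval z R = 2 * (r - Polynomial.aeval z S) := by
    have h3 : (algebraMap ℤ ℂ) 2 = 2 := by simp
    rw [h3] at h1
    linear_combination -h1
  have h4 : (2 : ℂ) = (z - 1) ^ 2 ^ e * U⁻¹ := by
    rw [hpow, mul_assoc, mul_inv_cancel₀ hU0, mul_one]
  have h5 : (z - 1) ^ 2 ^ e = (z - 1) ^ j * (z - 1) ^ (2 ^ e - j) := by rw [← pow_add, Nat.add_sub_cancel' hjlt.le]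
  rw [h4, h5] at h2
  have h6 : Polynomial.aeval z R = (z - 1) ^ (2 ^ e - j) * (U⁻¹ * (r - Polynomial.aeval z S)) := by
    apply mul_left_cancel₀ (pow_ne_zero j hzne)
    rw [h2]; ring
  apply hρne
  rw [h6]
  refine MemLocalIdeal.mul_right ?_ (MemLocalRing.mul hUinv (MemLocalRing.sub hr hσ1))
  obtain ⟨m, hm⟩ := Nat.exists_eq_succ_of_ne_zero (Nat.sub_ne_zero_of_lt hjlt)
  rw [hm, pow_succ']
  exact MemLocalIdeal.mul_right hz1 (MemLocalRing.pow (MemLocalIdeal.memLocalRing hz1) m)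

theorem dvd_coeffs (hM : IsPModular 2 M) {e : ℕ} {z : ℂ} (hz : z ^ 2 ^ e = -1) (h : ℕ) : ∀ (P : ℤ[X]), P.natDegree < 2 ^ e →
    (∃ r, MemLocalRing M r ∧ Polynomial.aeval z P = 2 ^ h * r) → ∀ i, (2 : ℤ) ^ h ∣ P.coeff i := by
  haveI : Fact (Nat.Prime 2) := ⟨Nat.prime_two⟩
  haveI := IsPModular.isPrime hM
  induction h with
  | zero => intro P _ _ i; rw [pow_zero]; exact one_dvd _
  | succ h ih =>
    intro P hdeg hex
    obtain ⟨r, hr, hPr⟩ := hex
    have h1 := ih P hdeg ⟨2 * r, MemLocalRing.mul (by simpa using memLocalRing_natCast (M := M) 2) hr, by rw [hPr]; ring⟩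
    obtain ⟨Q, hQ⟩ := (Polynomial.C_dvd_iff_dvd_coeff _ _).2 h1
    have h2 : (2 : ℤ) ^ h ≠ 0 := by positivity
    have h3 : Q.natDegree < 2 ^ e := by
      rw [hQ, Polynomial.natDegree_C_mul h2] at hdeg
      exact hdeg
    have h4 : Polynomial.aeval z Q = 2 * r := by
      have h5 : (2 : ℂ) ^ h ≠ 0 := pow_ne_zero _ two_ne_zero
      apply mul_left_cancel₀ h5
      rw [hQ, map_mul, Polynomial.aeval_C] at hPr
      have h6 : (algebraMap ℤ ℂ) (2 ^ h) = 2 ^ h := by simp
      rw [h6] at hPr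
      rw [hPr]; ring
    intro i
    obtain ⟨c, hc⟩ := even_coeffs hM hz Q h3 ⟨r, hr, h4⟩ i
    rw [hQ, Polynomial.coeff_C_mul, hc]
    exact ⟨c, by ring⟩

end val

end CfsgSub
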