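import Cfsg.Agent.H4.Sub7

/-!
# Major 2-subsections of rank at most three
-/

set_option autoImplicit false
open Cfsg MonoidAlgebra CfsgH5
open CfsgH4 hiding centralChar sum_conj regInner_symm ev_ca

namespace CfsgSub

open scoped ComplexConjugate Polynomial

/-- a primitive root of unity of order `2 ^ (e + 1)` -/
theorem exists_zeta (e : ℕ) : ∃ z : ℂ, z ^ 2 ^ e = -1 ∧ IsPrimitiveRoot z (2 ^ (e + 1)) := by
  have h1 : IsPrimitiveRoot (Complex.exp (2 * Real.pi * Complex.I / ((2 ^ (e + 1) : ℕ) : ℂ))) (2 ^ (e + 1)) :=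
    Complex.isPrimitiveRoot_exp _ (by positivity)
  refine ⟨_, ?_, h1⟩
  set z := Complex.exp (2 * Real.pi * Complex.I / ((2 ^ (e + 1) : ℕ) : ℂ))
  have h2 : (z ^ 2 ^ e) * (z ^ 2 ^ e) = 1 := by rw [← sq, ← pow_mul, ← pow_succ, h1.pow_eq_one]
  rcases mul_self_eq_one_iff.1 h2 with h3 | h3
  · exfalso
    have := h1.dvd_of_pow_eq_one _ h3
    have h4 := Nat.le_of_dvd (by positivity) this
    rw [pow_succ] at h4
    have : 0 < 2 ^ e := by positivity
    omega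
  · exact h3

section

variable {ι : Type*} [Fintype ι]

/-- sums over the roots of unity of order `2 ^ (e + 1)` -/
theorem sum_rt_two {e : ℕ} {z : ℂ} (hz : z ^ 2 ^ e = -1) (hp : IsPrimitiveRoot z (2 ^ (e + 1))) {A : Type*} [AddCommMonoid A] (F : ℂ → A) :
    haveI : NeZero (2 ^ (e + 1)) := ⟨(pow_pos two_pos _).ne'⟩
    ∑ t : Rt (2 ^ (e + 1)), F (t : ℂ) = ∑ i ∈ Finset.range (2 ^ e), (F (z ^ i) + F (-z ^ i)) := by
  classical
  haveI : NeZero (2 ^ (e + 1)) := ⟨(pow_pos two_pos _).ne'⟩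
  have h1 : ∑ t : Rt (2 ^ (e + 1)), F (t : ℂ) = ∑ i ∈ Finset.range (2 ^ (e + 1)), F (z ^ i) := by
    symm
    refine Finset.sum_bij (fun i _ => (⟨z ^ i, by rw [← pow_mul, mul_comm, pow_mul, hp.pow_eq_one, one_pow]⟩ : Rt (2 ^ (e + 1)))) ?_ ?_ ?_ ?_
    · intro i _; exact Finset.mem_univ _
    · intro i hi j hj hij
      exact hp.pow_inj (Finset.mem_range.1 hi) (Finset.mem_range.1 hj) (congrArg Subtype.val hij)
    · intro t _
      obtain ⟨i, hi, hit⟩ := hp.eq_pow_of_pow_eq_one t.2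
      exact ⟨i, Finset.mem_range.2 hi, Subtype.ext hit⟩
    · intro i _; rfl
  rw [h1, show 2 ^ (e + 1) = 2 ^ e + 2 ^ e by ring, Finset.sum_range_add, Finset.sum_add_distrib]
  congr 1
  refine Finset.sum_congr rfl fun i _ => ?_
  rw [pow_add, hz]; congr 1; ring

/-- the components -/
noncomputable def yy (w : ι → ℂ) (m : ι → ℤ) (z : ℂ) (i : ℕ) : ι → ℤ := pt w m (z ^ i) - pt w m (-z ^ i)

theorem mbil_neg_neg (A : ι → ι → ℤ) (x : ι → ℤ) : mbil A (-x) (-x) = mbil A x x := by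
  rw [mbil, mbil]
  exact Finset.sum_congr rfl fun i _ => Finset.sum_congr rfl fun j _ => by simp

theorem mbil_zero (A : ι → ι → ℤ) : mbil A 0 0 = 0 := by
  rw [mbil]
  exact Finset.sum_eq_zero fun i _ => Finset.sum_eq_zero fun j _ => by simp

theorem avg_two {A : ι → ι → ℤ} (hbil : IsBil (mbil A)) (w : ι → ℂ) {e : ℕ} (hw : ∀ i, w i ^ 2 ^ (e + 1) = 1) (m : ι → ℤ)
    {z : ℂ} (hz : z ^ 2 ^ e = -1) (hpr : IsPrimitiveRoot z (2 ^ (e + 1))) :
    ∑ k ∈ (Finset.range (2 ^ (e + 1))).filter (fun k => ¬ 2 ∣ k),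
      ∑ i, ∑ j, ((m i * m j * A i j : ℤ) : ℂ) * (w i * conj (w j)) ^ k =
    (2 : ℂ) ^ e * ((∑ i ∈ Finset.range (2 ^ e), mbil A (yy w m z i) (yy w m z i) : ℤ) : ℂ) := by
  classical
  haveI : NeZero (2 ^ (e + 1)) := ⟨(pow_pos two_pos _).ne'⟩
  have h1 := avg_eq Nat.prime_two hbil w hw m
  have h2 : ∀ t : Rt (2 ^ (e + 1)), (∑ s : Rt (2 ^ (e + 1)),
      (if (t : ℂ) ^ 2 = (s : ℂ) ^ 2 then mbil A (pt w m t - pt w m s) (pt w m t - pt w m s) else 0)) =
      mbil A (pt w m t - pt w m (-t : ℂ)) (pt w m t - pt w m (-t : ℂ)) := by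
    intro t
    have ht0 : (t : ℂ) ≠ 0 := by
      intro h
      have := t.2
      rw [h, zero_pow (pow_pos two_pos _).ne'] at this
      exact zero_ne_one this
    have hneg : (-(t : ℂ)) ^ 2 ^ (e + 1) = 1 := by
      rw [Even.neg_pow ((even_two).pow_of_ne_zero (Nat.succ_ne_zero e))]; exact t.2
    set t' : Rt (2 ^ (e + 1)) := ⟨-(t : ℂ), hneg⟩ with ht'
    have htt : t ≠ t' := by
      intro h
      have h3 : (t : ℂ) = -(t : ℂ) := congrArg Subtype.val h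
      have h4 : (2 : ℂ) * t = 0 := by linear_combination h3
      exact ht0 ((mul_eq_zero.1 h4).resolve_left two_ne_zero)
    rw [← Finset.sum_subset (Finset.subset_univ {t, t'}), Finset.sum_pair htt]
    · rw [if_pos rfl, sub_self, mbil_zero, zero_add, if_pos (by show (t : ℂ) ^ 2 = (-(t : ℂ)) ^ 2; ring)]
    · intro s _ hs
      rw [if_neg]
      intro h
      apply hs
      rcases sq_eq_sq_iff_eq_or_eq_neg.1 h with h3 | h3
      · exact Finset.mem_insert.2 (Or.inl (Subtype.ext h3.symm))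
      · refine Finset.mem_insert.2 (Or.inr (Finset.mem_singleton.2 (Subtype.ext ?_)))
        show (s : ℂ) = -(t : ℂ)
        rw [h3, neg_neg]
  rw [Finset.sum_congr rfl fun t _ => h2 t, sum_rt_two hz hpr (fun t => mbil A (pt w m t - pt w m (-t)) (pt w m t - pt w m (-t)))] at h1
  have h3 : ∀ i, mbil A (pt w m (z ^ i) - pt w m (-z ^ i)) (pt w m (z ^ i) - pt w m (-z ^ i)) +
      mbil A (pt w m (-z ^ i) - pt w m (- -z ^ i)) (pt w m (-z ^ i) - pt w m (- -z ^ i)) =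
      2 * mbil A (yy w m z i) (yy w m z i) := by
    intro i
    rw [neg_neg, ← mbil_neg_neg A (pt w m (-z ^ i) - pt w m (z ^ i)), neg_sub, yy]; ring
  rw [Finset.sum_congr rfl fun i _ => h3 i, ← Finset.mul_sum] at h1
  have h4 : (2 : ℂ) ≠ 0 := two_ne_zero
  apply mul_left_cancel₀ h4
  rw [h1]
  push_cast
  ring

/-- linear functionals of the weighted sum -/
theorem lin_two (w : ι → ℂ) {e : ℕ} (hw : ∀ i, w i ^ 2 ^ (e + 1) = 1) (m : ι → ℤ)
    {z : ℂ} (hz : z ^ 2 ^ e = -1) (hpr : IsPrimitiveRoot z (2 ^ (e + 1))) (f : ι → ℤ) :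
    ∑ i, (m i : ℂ) * w i * (f i : ℂ) = ∑ i ∈ Finset.range (2 ^ e), z ^ i * ((∑ j, yy w m z i j * f j : ℤ) : ℂ) := by
  classical
  haveI : NeZero (2 ^ (e + 1)) := ⟨(pow_pos two_pos _).ne'⟩
  have h1 : ∑ i, (m i : ℂ) * w i * (f i : ℂ) = ∑ t : Rt (2 ^ (e + 1)), (t : ℂ) * ∑ j, (pt w m (t : ℂ) j : ℂ) * (f j : ℂ) := by
    simp only [Finset.mul_sum]
    rw [Finset.sum_comm]
    refine Finset.sum_congr rfl fun i _ => ?_
    rw [Finset.sum_eq_single ⟨w i, hw i⟩]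
    · rw [pt, if_pos rfl]; ring
    · intro t _ ht
      rw [pt, if_neg]
      · simp
      · intro h; exact ht (Subtype.ext h.symm)
    · intro h; exact absurd (Finset.mem_univ _) h
  rw [h1, sum_rt_two hz hpr (fun t => t * ∑ j, (pt w m t j : ℂ) * (f j : ℂ))]
  refine Finset.sum_congr rfl fun i _ => ?_
  rw [Int.cast_sum]
  have h2 : ∀ j, (((yy w m z i j * f j : ℤ)) : ℂ) = (pt w m (z ^ i) j : ℂ) * (f j : ℂ) - (pt w m (-z ^ i) j : ℂ) * (f j : ℂ) := by
    intro j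
    rw [yy, Pi.sub_apply]; push_cast; ring
  rw [Finset.sum_congr rfl fun j _ => h2 j, Finset.sum_sub_distrib]
  ring

end

end CfsgSub
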